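import Cfsg.Agent.OddHalf.Iface
import Cfsg.Agent.StdU3.EndLie
import Cfsg.Agent.OddHalf.Small.PslChar
import Cfsg.Agent.OddHalf.Small.RankOne
import Cfsg.Agent.OddHalf.Small.Sp

/-!
# A counterexample to S1765 has no strongly closed subgroup of class two

From S1170 (and, for the Suzuki groups, the theorem on simple groups of order prime to 3). The groups in the list of
S1170 are `L₂(q)` (sectional rank at most 4), `A₇`, or of characteristic 2 type.
-/

set_option autoImplicit false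

namespace Cfsg.Agent.OddHalf.D4.Sz.Kill1170

open Subgroup Cfsg Cfsg.Agent.OddHalf.Iface

universe u

/-- Simple groups of order prime to 3 are Suzuki groups (`ThreePrime.Main.isoSuzuki`). -/
def ThreeStmt : Prop :=
  ∀ (G : Type u) [Group G] [Finite G] [IsSimpleGroup G], (∃ a b : G, a * b ≠ b * a) → ¬ 3 ∣ Nat.card G →
    Lie.IsoSuzuki G

/-- If `2 ^ (k + 1)` does not divide the order of `G`, then the sectional 2-rank of `G` is at most `k`. -/
theorem sect_of_not_dvd {G : Type*} [Group G] [Finite G] {k : ℕ} (h : ¬ 2 ^ (k + 1) ∣ Nat.card G) :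
    SectionalPRankLE 2 k G := by
  have : Fact (Nat.Prime 2) := ⟨Nat.prime_two⟩
  intro H N _ A _ hA
  by_contra hcon
  push Not at hcon
  have hp : IsPGroup 2 ↥A := fun a => ⟨1, by rw [pow_one]; exact Subtype.ext (hA a a.2)⟩
  obtain ⟨n, hn⟩ := hp.exists_card_eq
  rw [hn] at hcon
  have hk : k + 1 ≤ n := (Nat.pow_lt_pow_iff_right (by norm_num)).1 hcon
  apply h
  calc 2 ^ (k + 1) ∣ 2 ^ n := pow_dvd_pow 2 hk
    _ = Nat.card ↥A := hn.symm
    _ ∣ Nat.card (↥H ⧸ N) := Subgroup.card_subgroup_dvd_card A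
    _ ∣ Nat.card ↥H := Subgroup.card_quotient_dvd_card N
    _ ∣ Nat.card G := Subgroup.card_subgroup_dvd_card H

/-- The exponent of an even prime power. -/
theorem exists_pow {q : ℕ} {F : Type} [Field F] [Fintype F] (hF : Fintype.card F = q ^ 2) (hq : Even q)
    (h4 : 4 ≤ q) : ∃ n : ℕ, 1 ≤ n ∧ q = 2 ^ n := by
  obtain ⟨p, hp⟩ := CharP.exists F
  obtain ⟨n, hpr, hn⟩ := FiniteField.card F p
  have h2 : 2 ∣ p ^ (n : ℕ) := by
    rw [← hn, hF]
    exact dvd_pow (even_iff_two_dvd.1 hq) (by norm_num)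
  have hp2 : p = 2 := ((Nat.prime_dvd_prime_iff_eq Nat.prime_two hpr).1 (Nat.prime_two.dvd_of_dvd_pow h2)).symm
  subst hp2
  have hd : q ∣ 2 ^ (n : ℕ) := by
    rw [← hn, hF]
    exact dvd_pow_self q (by norm_num)
  obtain ⟨k, -, hk⟩ := (Nat.dvd_prime_pow Nat.prime_two).1 hd
  refine ⟨k, ?_, hk⟩
  rcases Nat.eq_zero_or_pos k with h0 | h0
  · rw [h0, pow_zero] at hk
    omega
  · exact h0

/-- **A counterexample to S1765 has no strongly closed subgroup of class two.** -/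
theorem false_of_closed {G : Type u} [Group G] (C : Ctx G) (h1170 : Cfsg.Agent.StdSz.Out.S1170Stmt.{u})
    (h3p : ThreeStmt.{u}) (S : Sylow 2 G) (A : Subgroup G) (hAS : IsStronglyClosed A (S : Subgroup G))
    (hA1 : ¬ IsMulCommutative A) (hA2 : ⁅(⊤ : Subgroup A), ⊤⁆ ≤ center A) : False := by
  have hfin := C.fin
  have hs := C.simple
  rcases h1170 G S A hAS hA1 hA2 with h | h | h | h | h | h
  · obtain ⟨K, _, _, hK, ⟨e⟩⟩ := h
    refine C.sect5 (sect_of_not_dvd (k := 4) ?_)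
    intro hd
    refine Cfsg.Agent.StdU3.EndLie.not_sixteen_dvd_psl hK ?_
    rw [← Nat.card_congr e.toEquiv]
    exact (by norm_num : (16 : ℕ) ∣ 2 ^ (4 + 1)).trans hd
  · obtain ⟨K, _, _, q, hK, hq, hq4, he⟩ := h
    obtain ⟨n, hn, rfl⟩ := exists_pow hK hq hq4
    exact C.notTwo (Small.RankOne.u3 K n hn hK he)
  · have h3 := Cfsg.Agent.StdU3.EndLie.not_three_dvd_suzuki h
    refine C.notTwo (Small.RankOne.sz (h3p G ?_ h3))
    by_contra hcon
    push Not at hcon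
    exact C.na ⟨⟨hcon⟩⟩
  · obtain ⟨K, _, _, hc, ⟨e⟩⟩ := h
    exact C.notTwo (Small.PslChar.psl (ringChar.eq K 2) (by norm_num) e)
  · obtain ⟨K, _, _, hc, -, ⟨e⟩⟩ := h
    exact C.notTwo (Small.Generic.isCharacteristicTwoType_congr e.symm (Small.Sp.charTwo_PSp (by norm_num)))
  · exact C.nc (Or.inr (Or.inl ⟨7, Or.inl rfl, h⟩))

/-- Element form: `S` is a Sylow 2-subgroup of `G`, `A ≤ S` is strongly closed and not abelian, commutators of `A`
are central in `A`. -/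
theorem false_of_closed' {G : Type u} [Group G] (C : Ctx G) (h1170 : Cfsg.Agent.StdSz.Out.S1170Stmt.{u})
    (h3p : ThreeStmt.{u}) (S : Sylow 2 G) (A : Subgroup G) (hAS : A ≤ (S : Subgroup G))
    (hcl : ∀ a ∈ A, ∀ g : G, g * a * g⁻¹ ∈ (S : Subgroup G) → g * a * g⁻¹ ∈ A)
    (hna : ∃ a ∈ A, ∃ b ∈ A, a * b ≠ b * a)
    (hc2 : ∀ a ∈ A, ∀ b ∈ A, ∀ c ∈ A, (a * b * a⁻¹ * b⁻¹) * c = c * (a * b * a⁻¹ * b⁻¹)) : False := by
  refine false_of_closed C h1170 h3p S A ⟨hAS, hcl⟩ ?_ ?_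
  · rintro ⟨⟨h⟩⟩
    obtain ⟨a, ha, b, hb, hab⟩ := hna
    exact hab (congrArg Subtype.val (h ⟨a, ha⟩ ⟨b, hb⟩))
  · rw [Subgroup.commutator_le]
    intro x _ y _
    rw [mem_center_iff]
    intro z
    exact Subtype.ext (hc2 x x.2 y y.2 z z.2).symm

/-- **A counterexample to S1765 has no Sylow 2-subgroup of class two.** -/
theorem false_of_sylow {G : Type u} [Group G] (C : Ctx G) (h1170 : Cfsg.Agent.StdSz.Out.S1170Stmt.{u})
    (h3p : ThreeStmt.{u}) (S : Sylow 2 G) (hna : ∃ a ∈ (S : Subgroup G), ∃ b ∈ (S : Subgroup G), a * b ≠ b * a)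
    (hc2 : ∀ a ∈ (S : Subgroup G), ∀ b ∈ (S : Subgroup G), ∀ c ∈ (S : Subgroup G),
      (a * b * a⁻¹ * b⁻¹) * c = c * (a * b * a⁻¹ * b⁻¹)) : False :=
  false_of_closed' C h1170 h3p S S le_rfl (fun _ _ _ h => h) hna hc2

end Cfsg.Agent.OddHalf.D4.Sz.Kill1170
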