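import Cfsg.Agent.OddHalf.D4.Sz.PairDefs

/-!
# ODD, D4, `K = Sz(q)`, `q ≥ 32`: an element `g ∈ N(T) - N(K)`
-/

set_option autoImplicit false

namespace Cfsg.Agent.OddHalf.D4.Sz

open Subgroup Cfsg.Agent.OddHalf.D4 Cfsg.Agent.OddHalf.D4.Sz.PairDefs

/-- the frame: `T` a Sylow 2-subgroup of `N(K)`, `g ∈ N(T) - N(K)` -/
structure Mv {G : Type*} [Group G] {F : Type*} [Field F] [Fintype F] {m : ℕ} {K : Subgroup G} (D : KFr F m K)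
    (Q T : Subgroup G) (g : G) : Prop where
  base : Base D Q T
  tight : TightAt K
  gT : g ∈ normalizer (T : Set G)
  gM : g ∉ normalizer (K : Set G)
  two : ∃ r ∈ Q, ∃ s ∈ Q, r * r = 1 ∧ s * s = 1 ∧ r ≠ 1 ∧ s ≠ 1 ∧ r ≠ s

/-- no Sylow 2-subgroup is non-abelian of class two -/
def NoClassTwo (G : Type*) [Group G] : Prop :=
  ∀ S : Sylow 2 G, (∃ a ∈ (S : Subgroup G), ∃ b ∈ (S : Subgroup G), a * b ≠ b * a) →
    (∀ a ∈ (S : Subgroup G), ∀ b ∈ (S : Subgroup G), ∀ c ∈ (S : Subgroup G),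
      (a * b * a⁻¹ * b⁻¹) * c = c * (a * b * a⁻¹ * b⁻¹)) → False

end Cfsg.Agent.OddHalf.D4.Sz
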