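import Cfsg.Agent.OddHalf.D4.Sz.PairKill
import Cfsg.Agent.OddHalf.D4.Sz.MvDef

/-!
# ODD, D4, `K = Sz(q)`, `q ≥ 32`: case A over the frame `Mv`
-/

set_option autoImplicit false
set_option linter.unusedSectionVars false

namespace Cfsg.Agent.OddHalf.D4.Sz

open Subgroup Cfsg.Agent.OddHalf.D4 Cfsg.Agent.OddHalf.D4.Sz.PairDefs
open Cfsg.Agent.OddHalf.D4.CommConj (Tight cj mem_cj)

variable {G : Type*} [Group G] [Finite G] {F : Type*} [Field F] [Fintype F] [CharP F 2] {m : ℕ} {K : Subgroup G}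
  {D : KFr F m K} {Q T : Subgroup G} {g : G}

namespace Mv

variable (M : Mv D Q T g)

include M

omit [Finite G] [CharP F 2] in
theorem gT_iff (t : G) : t ∈ T ↔ g * t * g⁻¹ ∈ T := mem_normalizer_iff.mp M.gT t

omit [Finite G] [CharP F 2] in
theorem le : T ≤ normalizer ((cj g K : Subgroup G) : Set G) := by
  intro t ht
  rw [normalizer_cj, mem_cj]
  exact M.base.sylT.le ((mem_normalizer_iff''.mp M.gT t).mp ht)

theorem mem_inf_iff (x : G) :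
    x ∈ T ⊓ centralizer ((cj g K : Subgroup G) : Set G) ↔ g⁻¹ * x * g ∈ Q := by
  rw [M.base.eq_inf, mem_inf, mem_inf, centralizer_cj, mem_cj, ← mem_normalizer_iff''.mp M.gT x]

theorem conj_mem {r : G} (hr : r ∈ Q) :
    g * r * g⁻¹ ∈ T ⊓ centralizer ((cj g K : Subgroup G) : Set G) := by
  rw [M.mem_inf_iff]
  have e : g⁻¹ * (g * r * g⁻¹) * g = r := by group
  rwa [e]

/-- `Q` is elementary abelian and `g Q g⁻¹` is a graph -/
theorem graph (hG : ∀ H : Subgroup G, H.index ≠ 2) (hcl : NoClassTwo G) :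
    (∀ r ∈ Q, r * r = 1) ∧ ∃ f : G → F, (∀ r ∈ Q, ∀ s ∈ Q, f (r * s) = f r + f s) ∧
      (∀ r ∈ Q, f r = 0 → r = 1) ∧ ∀ x, x ∈ cj g Q ↔ ∃ r ∈ Q, x = r * D.p 0 (f r) := by
  obtain ⟨h1, f, h2, h3, h4⟩ := M.base.graph M.tight hG hcl M.gM M.le
  refine ⟨h1, f, h2, h3, fun x => ?_⟩
  rw [← h4, M.mem_inf_iff, mem_cj]

/-- **case A is impossible** -/
theorem caseA (hG : ∀ H : Subgroup G, H.index ≠ 2) (hcl : NoClassTwo G)
    (h : ∃ r ∈ Q, ∀ s ∈ Q, ∀ b, g * r * g⁻¹ ≠ s * D.p 0 b) : False := by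
  obtain ⟨r, hr, hrs⟩ := h
  obtain ⟨-, f, -, -, h4⟩ := M.graph hG hcl
  obtain ⟨s, hs, hrs'⟩ := (h4 _).mp (CommConj.mem_cj_mul hr)
  exact hrs s hs (f s) hrs'

end Mv

end Cfsg.Agent.OddHalf.D4.Sz
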