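import Cfsg.Agent.OddHalf.D4.Sz.LocD
import Cfsg.Agent.OddHalf.D4.Sz.CaseA

/-!
# ODD, D4, `K = Sz(q)`, `q ≥ 32`: `Mv` is contradictory
-/

set_option autoImplicit false

namespace Cfsg.Agent.OddHalf.D4.Sz

open Subgroup Cfsg.Agent.OddHalf.D4 Cfsg.Agent.OddHalf.D4.Sz.PairDefs

/-- **`K = Sz(q)`, `q ≥ 32`: no `g ∈ N(T) - N(K)`** -/
theorem Mv.false {G : Type*} [Group G] [Finite G] {F : Type*} [Field F] [Fintype F] [CharP F 2] {m : ℕ}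
    {K : Subgroup G} {D : KFr F m K} {Q T : Subgroup G} {g : G} (M : Mv D Q T g)
    (hG : ∀ H : Subgroup G, H.index ≠ 2) (hcl : NoClassTwo G) : False := by
  by_cases h : ∃ r ∈ Q, ∀ s ∈ Q, ∀ b, g * r * g⁻¹ ≠ s * D.p 0 b
  · exact M.caseA hG hcl h
  · push Not at h
    exact CaseB.false (D := D) (Q := Q) (T := T) (g := g) ⟨M, h⟩ hG hcl

end Cfsg.Agent.OddHalf.D4.Sz
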