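import Mathlib
import Cfsg.Agent.OddHalf.D4.FullPair
import Cfsg.Agent.OddCyclic.CaseESz
import Cfsg.Agent.StdSz.Env

/-!
# ODD, D4, `K ≅ Sz(q)`: the facts on `K` in `G` (piece (T4) of helper216's text, bb ODD #11407)

`KD K F m p h S`: `p a b`, `a b : F`, are the elements of the Sylow 2-subgroup `S` of `K ≅ Sz(F)`,
`|F| = 2 ^ (2 m + 1)`, `h k`, `k : Fˣ`, is the torus. `exists_kd`: the coordinates exist for every Sylow 2-subgroup
`S` of `K`.
-/

set_option autoImplicit false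

namespace Cfsg.Agent.OddHalf.D4.Sz

open Subgroup Cfsg.Agent.OddHalf.D4 Cfsg.Agent.OddHalf.D4.Basic
open Cfsg.Agent.ThreePrime Cfsg.Agent.ThreePrime.SzRel Cfsg.Agent.LieRecognition
open Cfsg.Agent.OddHalf.D4.CommConj (Tight cj mem_cj cj_mul card_cj cj_eq_of_mem_normalizer mem_cj_mul)

/-- coordinates and facts of `K ≅ Sz(F)` in `G` -/
structure KD {G : Type*} [Group G] (K : Subgroup G) (F : Type*) [Field F] (m : ℕ) (p : F → F → G) (h : Fˣ → G)
    (S : Subgroup G) : Prop where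
  hm : 1 ≤ m
  card_F : Nat.card F = 2 ^ (2 * m + 1)
  two : (2 : F) = 0
  p_mul : ∀ a b c d, p a b * p c d = p (a + c) (b + d + a ^ 2 ^ (m + 1) * c)
  p_inj : ∀ a b c d, p a b = p c d → a = c ∧ b = d
  h_mul : ∀ k l, h (k * l) = h k * h l
  h_inj : Function.Injective h
  /-- `h k * p a b * (h k)⁻¹ = p (k a) (k ^ (1 + 2 ^ (m + 1)) b)` -/
  act : ∀ k, StdSz.Env.Acts m p (h k) k
  mem_S : ∀ x, x ∈ S ↔ ∃ a b, x = p a b
  h_mem : ∀ k, h k ∈ K
  syl : IsSyl S K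
  /-- TI and `N_K(S) = S H` -/
  ti : ∀ x ∈ K, ∀ s ∈ S, s ≠ 1 → x * s * x⁻¹ ∈ S → ∃ s ∈ S, ∃ k, x = s * h k
  /-- `C_K(s) ≤ S` for `1 ≠ s ∈ S` -/
  cent : ∀ x ∈ K, ∀ s ∈ S, s ≠ 1 → x * s = s * x → x ∈ S
  cen : ∀ x ∈ K, x ∈ centralizer (K : Set G) → x = 1
  /-- 2-elements of `N(K)` lie in `K × C(K)` -/
  inner : ∀ x ∈ normalizer (K : Set G), (∃ n : ℕ, x ^ 2 ^ n = 1) →
    ∃ k ∈ K, ∃ c ∈ centralizer (K : Set G), x = k * c
  /-- `C_{N(K)}(Z) = C(K) × S` -/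
  cz : ∀ x ∈ normalizer (K : Set G), (∀ b, x * p 0 b = p 0 b * x) →
    ∃ c ∈ centralizer (K : Set G), ∃ s ∈ S, x = c * s
  /-- `K` is generated by two Sylow 2-subgroups -/
  gen : ∀ S' : Subgroup G, IsSyl S' K → S' ≠ S → S ⊔ S' = K

namespace KD

/-! ### existence -/

section exist

variable {J : Type*} [Group J] {F : Type*} [Field F]

/-- `k ↦ k ^ 2 / θ k` -/
def lamHom (R : SzRel.Rel J F) : Fˣ →* Fˣ where
  toFun k := k ^ 2 * (Units.map (R.θ : F →* F) k)⁻¹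
  map_one' := by simp
  map_mul' k l := by
    rw [map_mul, _root_.mul_inv_rev, mul_pow, mul_comm (Units.map (R.θ : F →* F) l)⁻¹]
    exact mul_mul_mul_comm _ _ _ _

theorem lamHom_coe (R : SzRel.Rel J F) (k : Fˣ) : ((lamHom R k : Fˣ) : F) = (k : F) ^ 2 * (R.θ k)⁻¹ := by
  unfold lamHom
  simp

theorem lam_bij (R : SzRel.Rel J F) [Finite F] : Function.Bijective (lamHom R) := by
  have hs : Function.Surjective (lamHom R) := by
    intro x
    obtain ⟨k, hk⟩ := R.exists_sq_div x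
    exact ⟨k, Units.ext (by rw [lamHom_coe, hk])⟩
  exact ⟨Finite.injective_iff_surjective.mpr hs, hs⟩

/-- the torus with its natural parameter -/
noncomputable def tor (R : SzRel.Rel J F) [Finite F] (k : Fˣ) : J :=
  R.d ((MulEquiv.ofBijective (lamHom R) (lam_bij R)).symm k)

/-- the coordinates of `StdSz.Env` -/
def cor (R : SzRel.Rel J F) (a b : F) : J := R.u a (b + a * R.θ a)

theorem cor_mul (R : SzRel.Rel J F) {m : ℕ} (hθ : ∀ x, R.θ x = x ^ 2 ^ (m + 1)) (a b c d : F) :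
    cor R a b * cor R c d = cor R (a + c) (b + d + a ^ 2 ^ (m + 1) * c) := by
  unfold cor
  rw [R.u_mul]
  congr 1
  rw [← hθ, map_add]
  have := R.two
  linear_combination (- a * R.θ a - c * R.θ c - R.θ a * c + R.θ a * c + a * R.θ a + c * R.θ c - c * R.θ a) * this

theorem cor_act (R : SzRel.Rel J F) [Finite F] {m : ℕ} (hθ : ∀ x, R.θ x = x ^ 2 ^ (m + 1)) (k : Fˣ) (a b : F) :
    tor R k * cor R a b * (tor R k)⁻¹ = cor R (k * a) ((k : F) ^ (1 + 2 ^ (m + 1)) * b) := by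
  obtain ⟨l, hl⟩ : ∃ l, l = (MulEquiv.ofBijective (lamHom R) (lam_bij R)).symm k := ⟨_, rfl⟩
  have h1 : lamHom R l = k := by
    rw [hl]
    exact (MulEquiv.ofBijective (lamHom R) (lam_bij R)).apply_symm_apply k
  have h2 : (k : F) = (l : F) ^ 2 * (R.θ l)⁻¹ := by rw [← h1, lamHom_coe]
  have h3 : (k : F) ^ (1 + 2 ^ (m + 1)) = R.θ l := by
    rw [pow_add, pow_one, ← hθ, h2, map_mul, map_pow, map_inv₀, R.sq]
    have h4 := l.ne_zero
    have h5 := R.theta_ne_zero l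
    field_simp
  unfold tor cor
  rw [← hl, R.conj_d]
  congr 1
  · rw [h2]; ring
  · rw [h3, map_mul]
    have h4 : (k : F) * R.θ k = R.θ l := by
      rw [← h3, pow_add, pow_one, ← hθ]
    linear_combination (- a * R.θ a) * h4

/-- the relations adapted to a Sylow subgroup, over the given field -/
theorem exists_rel_fixed [Finite J] [Fintype F] {m : ℕ} (hm : 1 ≤ m) (hF : Fintype.card F = 2 ^ (2 * m + 1))
    (e : J ≃* ↥(Cfsg.Lie.Sz F (2 ^ (m + 1)))) (P : Sylow 2 J) :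
    ∃ R : SzRel.Rel J F, (∀ x, R.θ x = x ^ 2 ^ (m + 1)) ∧ R.T = (P : Subgroup J) := by
  have : Fact (Nat.Prime 2) := ⟨Nat.prime_two⟩
  obtain ⟨R₀, hθ₀⟩ : ∃ R₀ : SzRel.Rel J F, ∀ x, R₀.θ x = x ^ 2 ^ (m + 1) :=
    ⟨(SzRel.ofGood (SzMatrix.good hF)).map e.symm, fun x => ((SzMatrix.good hF).pow x).symm⟩
  obtain ⟨P₀, hP₀⟩ := R₀.exists_sylow_eq hm hF
  obtain ⟨g, hg⟩ := MulAction.exists_smul_eq J P₀ P
  let R : SzRel.Rel J F := R₀.map (MulAut.conj g)
  refine ⟨R, hθ₀, ?_⟩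
  rw [← hg]
  ext x
  rw [Sylow.coe_subgroup_smul, Subgroup.mem_pointwise_smul_iff_inv_smul_mem, hP₀]
  constructor
  · rintro ⟨a, b, rfl⟩
    refine ⟨a, b, ?_⟩
    show (MulAut.conj g)⁻¹ (MulAut.conj g (R₀.u a b)) = _
    rw [MulAut.inv_apply_self]
  · rintro ⟨a, b, hx⟩
    refine ⟨a, b, ?_⟩
    show x = MulAut.conj g (R₀.u a b)
    rw [← hx]
    show x = MulAut.conj g ((MulAut.conj g)⁻¹ x)
    rw [MulAut.apply_inv_self]

end exist

section main

variable {G : Type*} [Group G] [Finite G] {K S : Subgroup G}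

omit [Finite G] in
/-- the two formats of Sylow subgroups -/
theorem isSyl2_of_isSyl (hS : IsSyl S K) : Cfsg.Agent.LieExceptional.CITDefs.IsSyl2 K S :=
  ⟨hS.le, hS.two, fun Y hY hY2 hle => le_antisymm (hS.max Y hY2 hle hY) hle⟩

/-- **existence of the coordinates** -/
theorem exists_kd {F : Type} [Field F] [Fintype F] {m : ℕ} (hm : 1 ≤ m) (hF : Fintype.card F = 2 ^ (2 * m + 1))
    (e : ↥K ≃* ↥(Cfsg.Lie.Sz F (2 ^ (m + 1)))) (hS : IsSyl S K) :
    ∃ (p : F → F → G) (h : Fˣ → G), KD K F m p h S := by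
  have h2f : Fact (Nat.Prime 2) := ⟨Nat.prime_two⟩
  have hIso : Cfsg.Lie.IsoSuzuki ↥K := ⟨F, _, _, m, hm, hF, ⟨e⟩⟩
  obtain ⟨P, hP⟩ := Cfsg.Agent.OddCyclic.CaseESz.exists_sylow (isSyl2_of_isSyl hS)
  obtain ⟨R, hθ, hT⟩ := exists_rel_fixed hm hF e P
  have hFn : Nat.card F = 2 ^ (2 * m + 1) := by rw [Nat.card_eq_fintype_card, hF]
  have hB := Cfsg.Agent.OddCyclic.CaseESz.szB_of_rel R hm hFn
  obtain ⟨q, hK⟩ := Cfsg.Agent.OddCyclic.CaseESz.szK hIso
  have h8 : 8 ≤ Nat.card F := by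
    rw [hFn]
    exact SzRel.Rel.eight_le hm
  have hST : S = R.T.map K.subtype := by rw [hP, hT]
  have hcor : ∀ x, x ∈ S ↔ ∃ a b, x = ((cor R a b : ↥K) : G) := by
    intro x
    rw [hST]
    constructor
    · rintro ⟨_, ⟨a, b, rfl⟩, rfl⟩
      refine ⟨a, b + a * R.θ a, ?_⟩
      unfold cor
      rw [add_assoc, R.add_self, add_zero]
      rfl
    · rintro ⟨a, b, rfl⟩
      exact ⟨_, R.u_mem _ _, rfl⟩
  have hmemT : ∀ {x : G} (hx : x ∈ S), ∃ hxK : x ∈ K, (⟨x, hxK⟩ : ↥K) ∈ R.T := by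
    intro x hx
    rw [hST] at hx
    obtain ⟨y, hy, rfl⟩ := hx
    exact ⟨y.2, hy⟩
  refine ⟨fun a b => ((cor R a b : ↥K) : G), fun k => ((tor R k : ↥K) : G), ?_⟩
  refine
    { hm := hm
      card_F := hFn
      two := R.two
      p_mul := fun a b c d => congrArg Subtype.val (cor_mul R hθ a b c d)
      p_inj := ?_
      h_mul := ?_
      h_inj := ?_
      act := fun k a b => congrArg Subtype.val (cor_act R hθ k a b)
      mem_S := hcor
      h_mem := fun k => (tor R k).2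
      syl := hS
      ti := ?_
      cent := ?_
      cen := ?_
      inner := ?_
      cz := ?_
      gen := ?_ }
  · intro a b c d h
    obtain ⟨h1, h2⟩ := R.u_inj (Subtype.ext h)
    subst h1
    exact ⟨rfl, add_right_cancel h2⟩
  · intro k l
    have h1 : tor R (k * l) = tor R k * tor R l := by
      unfold tor
      rw [map_mul, R.d_mul]
    exact congrArg Subtype.val h1
  · intro k l h
    have h1 : tor R k = tor R l := Subtype.ext h
    exact (MulEquiv.ofBijective (lamHom R) (lam_bij R)).symm.injective (R.d_inj h1)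
  · intro x hxK s hs hs1 hx
    obtain ⟨hsK, hsT⟩ := hmemT hs
    obtain ⟨hxsK, hxsT⟩ := hmemT hx
    obtain ⟨a, b, k, h1⟩ := R.exists_ud (g := ⟨x, hxK⟩) hsT (fun h => hs1 (congrArg Subtype.val h)) hxsT
    refine ⟨((R.u a b : ↥K) : G), by rw [hST]; exact ⟨_, R.u_mem a b, rfl⟩, lamHom R k, ?_⟩
    have h2 : tor R (lamHom R k) = R.d k := by
      unfold tor
      congr 1
      exact (MulEquiv.ofBijective (lamHom R) (lam_bij R)).symm_apply_apply k
    rw [h2]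
    exact congrArg Subtype.val h1
  · intro x hxK s hs hs1 hx
    have h1 := hB.cent s (by rw [← hST]; exact hs) hs1 x hxK hx
    rwa [← hST] at h1
  · intro x hxK hxc
    have h1 := Cfsg.Agent.OddCyclic.CaseESz.inf_centralizer hIso
    have h2 : x ∈ K ⊓ centralizer (K : Set G) := ⟨hxK, hxc⟩
    rwa [h1, mem_bot] at h2
  · intro x hx hn
    exact (Cfsg.Agent.OddCyclic.CaseESz.mem_sup_iff x).mp (Cfsg.Agent.OddCyclic.CaseESz.inner hIso hx hn)
  · intro x hx hc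
    obtain ⟨y, hy, u, hu, h1⟩ := Cfsg.Agent.OddCyclic.CaseESz.centZ hIso h8
      (Q := R.T.map K.subtype) (by rw [← hST]; exact isSyl2_of_isSyl hS) hB hx (by
        rintro _ ⟨_, ⟨b, rfl⟩, rfl⟩
        have h2 := hc b
        have h3 : cor R 0 b = R.u 0 b := by
          unfold cor
          rw [zero_mul, add_zero]
        rw [h3] at h2
        exact h2)
    exact ⟨y, hy, u, by rw [hST]; exact hu, h1⟩
  · intro S' hS' hne
    exact (hK.sylow S S' (isSyl2_of_isSyl hS) (isSyl2_of_isSyl hS') hne.symm).2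

end main

end KD

end Cfsg.Agent.OddHalf.D4.Sz
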