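import Mathlib
import Cfsg.Agent.OddHalf.D4.Sz.KF

/-!
# ODD, D4, `K ≅ Sz(q)`: derived facts

Everything from the structure `KD`: algebra of the coordinates, the centre, the torus, Sylow 2-subgroups of `N(K)`,
the hypothesis `inner` of `Exists.fullPair_of_maxE`, transport to conjugates.
-/

set_option autoImplicit false

namespace Cfsg.Agent.OddHalf.D4.Sz.KD

open Subgroup Cfsg.Agent.OddHalf.D4 Cfsg.Agent.OddHalf.D4.Basic
open Cfsg.Agent.OddHalf.D4.CommConj (Tight cj mem_cj cj_mul card_cj cj_eq_of_mem_normalizer mem_cj_mul)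

variable {G : Type*} [Group G] {K S : Subgroup G} {F : Type*} [Field F] {m : ℕ} {p : F → F → G} {h : Fˣ → G}

/-! ### Algebra of the coordinates -/

theorem charP (V : KD K F m p h S) : CharP F 2 := CharTwo.of_one_ne_zero_of_two_eq_zero one_ne_zero V.two

theorem add_self (V : KD K F m p h S) (x : F) : x + x = 0 := by linear_combination x * V.two

theorem eq_of_add (V : KD K F m p h S) {x y : F} (hxy : x + y = 0) : x = y := by
  linear_combination hxy - y * V.two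

theorem finF (V : KD K F m p h S) : Finite F := by
  apply Nat.finite_of_card_ne_zero
  rw [V.card_F]
  positivity

theorem le (V : KD K F m p h S) : S ≤ K := V.syl.le

theorem p_mem (V : KD K F m p h S) (a b : F) : p a b ∈ S := (V.mem_S _).mpr ⟨a, b, rfl⟩

theorem th_zero (m : ℕ) : (0 : F) ^ 2 ^ (m + 1) = 0 := zero_pow (by positivity)

theorem th_add (V : KD K F m p h S) (x y : F) : (x + y) ^ 2 ^ (m + 1) = x ^ 2 ^ (m + 1) + y ^ 2 ^ (m + 1) := by
  have := V.charP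
  exact add_pow_char_pow x y 2 (m + 1)

theorem p_zero (V : KD K F m p h S) : p 0 0 = 1 := by
  have h1 := V.p_mul 0 0 0 0
  rw [mul_zero, add_zero, add_zero] at h1
  exact mul_eq_left.mp h1

theorem z_mul (V : KD K F m p h S) (b d : F) : p 0 b * p 0 d = p 0 (b + d) := by
  rw [V.p_mul, mul_zero, add_zero, add_zero]

theorem z_self (V : KD K F m p h S) (b : F) : p 0 b * p 0 b = 1 := by
  rw [V.z_mul, V.add_self, V.p_zero]

theorem z_inv (V : KD K F m p h S) (b : F) : (p 0 b)⁻¹ = p 0 b := by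
  rw [inv_eq_iff_mul_eq_one, V.z_self]

theorem z_inj (V : KD K F m p h S) {b d : F} (hbd : p 0 b = p 0 d) : b = d := (V.p_inj _ _ _ _ hbd).2

theorem z_eq_one (V : KD K F m p h S) {b : F} (hb : p 0 b = 1) : b = 0 := by
  rw [← V.p_zero] at hb
  exact V.z_inj hb

theorem p_eq_one (V : KD K F m p h S) {a b : F} (hb : p a b = 1) : a = 0 ∧ b = 0 := by
  rw [← V.p_zero] at hb
  exact V.p_inj _ _ _ _ hb

theorem z_mul_p (V : KD K F m p h S) (a b c : F) : p 0 c * p a b = p a (b + c) := by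
  rw [V.p_mul, th_zero, zero_mul, add_zero, zero_add, add_comm]

theorem p_mul_z (V : KD K F m p h S) (a b c : F) : p a b * p 0 c = p a (b + c) := by
  rw [V.p_mul, mul_zero, add_zero, add_zero]

theorem z_comm (V : KD K F m p h S) (a b c : F) : p a b * p 0 c = p 0 c * p a b := by
  rw [V.p_mul_z, V.z_mul_p]

theorem p_eq (V : KD K F m p h S) (a b : F) : p a b = p a 0 * p 0 b := by
  rw [V.p_mul_z, zero_add]

theorem p_sq (V : KD K F m p h S) (a b : F) : p a b * p a b = p 0 (a ^ (1 + 2 ^ (m + 1))) := by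
  rw [V.p_mul, V.add_self, V.add_self, zero_add, pow_add a 1, pow_one, mul_comm a]

theorem p_inv (V : KD K F m p h S) (a b : F) : (p a b)⁻¹ = p a (b + a ^ (1 + 2 ^ (m + 1))) := by
  rw [inv_eq_iff_mul_eq_one, V.p_mul, V.add_self]
  have h1 : b + (b + a ^ (1 + 2 ^ (m + 1))) + a ^ 2 ^ (m + 1) * a = 0 := by
    rw [pow_add a 1, pow_one]
    linear_combination (b + a * a ^ 2 ^ (m + 1)) * V.two
  rw [h1, V.p_zero]

/-- conjugation in `S` -/
theorem p_conj (V : KD K F m p h S) (a b c d : F) :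
    p a b * p c d * (p a b)⁻¹ = p c (d + (a ^ 2 ^ (m + 1) * c + a * c ^ 2 ^ (m + 1))) := by
  rw [mul_inv_eq_iff_eq_mul, V.p_mul, V.p_mul]
  congr 1
  · ring
  · linear_combination (- (c ^ 2 ^ (m + 1) * a)) * V.two

/-- commutators in `S` -/
theorem p_commutator (V : KD K F m p h S) (a b c d : F) :
    p a b * p c d * (p a b)⁻¹ * (p c d)⁻¹ = p 0 (a ^ 2 ^ (m + 1) * c + a * c ^ 2 ^ (m + 1)) := by
  rw [V.p_conj, mul_inv_eq_iff_eq_mul, V.z_mul_p]

theorem p_comm_iff (V : KD K F m p h S) (a b c d : F) :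
    p a b * p c d = p c d * p a b ↔ a ^ 2 ^ (m + 1) * c = a * c ^ 2 ^ (m + 1) := by
  rw [V.p_mul, V.p_mul]
  constructor
  · intro h1
    have h2 := (V.p_inj _ _ _ _ h1).2
    linear_combination h2
  · intro h1
    congr 1
    · ring
    · linear_combination h1

theorem p_sq_eq_one (V : KD K F m p h S) {a b : F} (hab : p a b * p a b = 1) : a = 0 := by
  rw [V.p_sq] at hab
  exact pow_eq_zero_iff (by positivity) |>.mp (V.z_eq_one hab)

/-- involutions of `S` -/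
theorem eq_of_sq (V : KD K F m p h S) {s : G} (hs : s ∈ S) (h2 : s * s = 1) : ∃ b, s = p 0 b := by
  obtain ⟨a, b, rfl⟩ := (V.mem_S s).mp hs
  exact ⟨b, by rw [V.p_sq_eq_one h2]⟩

/-- `θ² = 2` -/
theorem th_th (V : KD K F m p h S) (x : F) : (x ^ 2 ^ (m + 1)) ^ 2 ^ (m + 1) = x ^ 2 := by
  have := V.finF
  have := Fintype.ofFinite F
  have h1 : Fintype.card F = 2 ^ (2 * m + 1) := by rw [← Nat.card_eq_fintype_card, V.card_F]
  rw [← pow_mul, ← pow_add]
  have h2 : m + 1 + (m + 1) = (2 * m + 1) + 1 := by ring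
  rw [h2, pow_succ 2 (2 * m + 1), ← h1, pow_mul, FiniteField.pow_card]

theorem fix_th (V : KD K F m p h S) {x : F} (hx : x ^ 2 ^ (m + 1) = x) : x = 0 ∨ x = 1 := by
  have h1 := V.th_th x
  rw [hx, hx] at h1
  have h2 : x * (x - 1) = 0 := by linear_combination -h1
  rcases mul_eq_zero.mp h2 with h3 | h3
  · exact Or.inl h3
  · exact Or.inr (sub_eq_zero.mp h3)

/-- centralizers in `S` -/
theorem comm_cases (V : KD K F m p h S) {a b c d : F} (ha : a ≠ 0) (hc : p a b * p c d = p c d * p a b) :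
    c = 0 ∨ c = a := by
  rw [V.p_comm_iff] at hc
  have ha' : a ^ 2 ^ (m + 1) ≠ 0 := pow_ne_zero _ ha
  have h1 : (c / a) ^ 2 ^ (m + 1) = c / a := by
    rw [div_pow, div_eq_div_iff ha' ha]
    linear_combination (-1 : F) * hc
  rcases V.fix_th h1 with h2 | h2
  · left
    rcases div_eq_zero_iff.mp h2 with h3 | h3
    · exact h3
    · exact absurd h3 ha
  · right
    exact (div_eq_one_iff_eq ha).mp h2

/-- `Z(S)` consists of the `p 0 b` -/
theorem eq_of_central (V : KD K F m p h S) {s : G} (hs : s ∈ S) (hc : ∀ t ∈ S, s * t = t * s) :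
    ∃ b, s = p 0 b := by
  obtain ⟨a, b, rfl⟩ := (V.mem_S s).mp hs
  by_cases ha : a = 0
  · exact ⟨b, by rw [ha]⟩
  · exfalso
    classical
    have := V.finF
    have := Fintype.ofFinite F
    -- an element `c ≠ 0, a`
    have h8 : 8 ≤ Nat.card F := by
      rw [V.card_F]
      calc 8 = 2 ^ 3 := by norm_num
        _ ≤ 2 ^ (2 * m + 1) := Nat.pow_le_pow_right (by norm_num) (by have := V.hm; omega)
    have h1 : ∃ c : F, c ∉ ({0, a} : Finset F) := by
      by_contra hno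
      push Not at hno
      have h2 : Finset.univ ⊆ ({0, a} : Finset F) := fun x _ => hno x
      have h3 := Finset.card_le_card h2
      have h4 : ({0, a} : Finset F).card ≤ 2 := Finset.card_le_two
      rw [Finset.card_univ, ← Nat.card_eq_fintype_card] at h3
      omega
    obtain ⟨c, hc1⟩ := h1
    rcases V.comm_cases ha (hc (p c 0) (V.p_mem c 0)) with h2 | h2
    · exact hc1 (by simp [h2])
    · exact hc1 (by simp [h2])

/-! ### The centre as a subgroup -/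

/-- `Z(S)` -/
def Z (V : KD K F m p h S) : Subgroup G where
  carrier := {x | ∃ b, x = p 0 b}
  mul_mem' := by
    rintro _ _ ⟨b, rfl⟩ ⟨c, rfl⟩
    exact ⟨b + c, V.z_mul b c⟩
  one_mem' := ⟨0, V.p_zero.symm⟩
  inv_mem' := by
    rintro _ ⟨b, rfl⟩
    exact ⟨b, V.z_inv b⟩

theorem mem_Z (V : KD K F m p h S) {x : G} : x ∈ V.Z ↔ ∃ b, x = p 0 b := Iff.rfl

theorem z_mem (V : KD K F m p h S) (b : F) : p 0 b ∈ V.Z := ⟨b, rfl⟩

theorem Z_le (V : KD K F m p h S) : V.Z ≤ S := by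
  rintro _ ⟨b, rfl⟩
  exact V.p_mem 0 b

theorem Z_comm (V : KD K F m p h S) {z s : G} (hz : z ∈ V.Z) (hs : s ∈ S) : s * z = z * s := by
  obtain ⟨b, rfl⟩ := hz
  obtain ⟨a, c, rfl⟩ := (V.mem_S s).mp hs
  exact V.z_comm a c b

theorem Z_sq (V : KD K F m p h S) {z : G} (hz : z ∈ V.Z) : z * z = 1 := by
  obtain ⟨b, rfl⟩ := hz
  exact V.z_self b

theorem mem_Z_iff (V : KD K F m p h S) {x : G} : x ∈ V.Z ↔ x ∈ S ∧ x * x = 1 :=
  ⟨fun hx => ⟨V.Z_le hx, V.Z_sq hx⟩, fun hx => V.eq_of_sq hx.1 hx.2⟩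

theorem mem_Z_iff' (V : KD K F m p h S) {x : G} : x ∈ V.Z ↔ x ∈ S ∧ ∀ t ∈ S, x * t = t * x :=
  ⟨fun hx => ⟨V.Z_le hx, fun _ ht => (V.Z_comm hx ht).symm⟩, fun hx => V.eq_of_central hx.1 hx.2⟩

theorem sq_mem_Z (V : KD K F m p h S) {s : G} (hs : s ∈ S) : s * s ∈ V.Z := by
  obtain ⟨a, b, rfl⟩ := (V.mem_S s).mp hs
  exact ⟨_, V.p_sq a b⟩

theorem comm_mem_Z (V : KD K F m p h S) {s t : G} (hs : s ∈ S) (ht : t ∈ S) : s * t * s⁻¹ * t⁻¹ ∈ V.Z := by
  obtain ⟨a, b, rfl⟩ := (V.mem_S s).mp hs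
  obtain ⟨c, d, rfl⟩ := (V.mem_S t).mp ht
  exact ⟨_, V.p_commutator a b c d⟩

theorem pow_four (V : KD K F m p h S) {s : G} (hs : s ∈ S) : s ^ 4 = 1 := by
  have h1 : s ^ 4 = (s * s) * (s * s) := by
    simp only [pow_succ, pow_zero, one_mul, mul_assoc]
  rw [h1]
  exact V.Z_sq (V.sq_mem_Z hs)

theorem card_Z (V : KD K F m p h S) : Nat.card ↥V.Z = Nat.card F := by
  refine (Nat.card_congr (Equiv.ofBijective (fun b : F => (⟨p 0 b, V.z_mem b⟩ : ↥V.Z)) ⟨?_, ?_⟩)).symm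
  · intro b c hbc
    exact V.z_inj (congrArg Subtype.val hbc)
  · rintro ⟨_, b, rfl⟩
    exact ⟨b, rfl⟩

theorem card_S (V : KD K F m p h S) : Nat.card ↥S = Nat.card F ^ 2 := by
  have h1 : Nat.card (F × F) = Nat.card F ^ 2 := by rw [Nat.card_prod, pow_two]
  rw [← h1]
  refine (Nat.card_congr (Equiv.ofBijective (fun x : F × F => (⟨p x.1 x.2, V.p_mem x.1 x.2⟩ : ↥S)) ⟨?_, ?_⟩)).symm
  · rintro ⟨a, b⟩ ⟨c, d⟩ hx
    obtain ⟨h1, h2⟩ := V.p_inj _ _ _ _ (congrArg Subtype.val hx)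
    exact Prod.ext h1 h2
  · rintro ⟨x, hx⟩
    obtain ⟨a, b, rfl⟩ := (V.mem_S x).mp hx
    exact ⟨(a, b), rfl⟩

/-! ### The torus -/

theorem h_one (V : KD K F m p h S) : h 1 = 1 := by
  have h1 := V.h_mul 1 1
  rw [mul_one] at h1
  exact (mul_eq_left.mp h1.symm)

theorem h_inv (V : KD K F m p h S) (k : Fˣ) : (h k)⁻¹ = h k⁻¹ := by
  rw [inv_eq_iff_mul_eq_one, ← V.h_mul, mul_inv_cancel, V.h_one]

theorem h_pow (V : KD K F m p h S) (k : Fˣ) (n : ℕ) : h (k ^ n) = h k ^ n := by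
  induction n with
  | zero => rw [pow_zero, pow_zero, V.h_one]
  | succ n ih => rw [pow_succ, V.h_mul, ih, pow_succ]

theorem h_z (V : KD K F m p h S) (k : Fˣ) (b : F) :
    h k * p 0 b * (h k)⁻¹ = p 0 ((k : F) ^ (1 + 2 ^ (m + 1)) * b) := by
  rw [V.act, mul_zero]

theorem h_norm (V : KD K F m p h S) (k : Fˣ) {s : G} (hs : s ∈ S) : h k * s * (h k)⁻¹ ∈ S := by
  obtain ⟨a, b, rfl⟩ := (V.mem_S s).mp hs
  rw [V.act]
  exact V.p_mem _ _

theorem h_normalizer (V : KD K F m p h S) (k : Fˣ) : h k ∈ normalizer (S : Set G) := by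
  rw [mem_normalizer_iff]
  intro s
  refine ⟨V.h_norm k, fun hs => ?_⟩
  have h1 := V.h_norm k⁻¹ hs
  rw [← V.h_inv] at h1
  have h2 : (h k)⁻¹ * (h k * s * (h k)⁻¹) * (h k)⁻¹⁻¹ = s := by group
  rwa [h2] at h1

theorem h_norm_Z (V : KD K F m p h S) (k : Fˣ) {s : G} (hs : s ∈ V.Z) : h k * s * (h k)⁻¹ ∈ V.Z := by
  obtain ⟨b, rfl⟩ := hs
  exact ⟨_, V.h_z k b⟩

/-- `κ ↦ κ ^ (1 + θ)` is surjective -/
theorem exists_norm (V : KD K F m p h S) {b : F} (hb : b ≠ 0) : ∃ k : Fˣ, (k : F) ^ (1 + 2 ^ (m + 1)) = b := by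
  have := V.finF
  have hc : ∀ x : F, x ≠ 0 → x ^ (2 ^ (2 * m + 1) - 1) = 1 := by
    intro x hx
    have := Fintype.ofFinite F
    rw [← V.card_F, Nat.card_eq_fintype_card]
    exact FiniteField.pow_card_sub_one_eq_one x hx
  -- `(1 + θ)(θ - 1) = θ² - 1 = 1`
  have h1 : ∀ x : F, x ≠ 0 → (x ^ (2 ^ (m + 1) - 1)) ^ (1 + 2 ^ (m + 1)) = x := by
    intro x hx
    rw [← pow_mul]
    have h2 : (2 ^ (m + 1) - 1) * (1 + 2 ^ (m + 1)) = (2 ^ (2 * m + 1) - 1) * 2 + 1 := by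
      have e1 : 2 ^ (2 * m + 1) * 2 = 2 ^ (m + 1) * 2 ^ (m + 1) := by
        rw [← pow_succ, ← pow_add]; congr 1; ring
      have e2 : 1 ≤ 2 ^ (m + 1) := Nat.one_le_two_pow
      have e3 : 1 ≤ 2 ^ (2 * m + 1) := Nat.one_le_two_pow
      zify [e2, e3]
      have e1' : (2 : ℤ) ^ (2 * m + 1) * 2 = 2 ^ (m + 1) * 2 ^ (m + 1) := by exact_mod_cast e1
      linear_combination -e1'
    rw [h2, pow_add, pow_mul, hc x hx, one_pow, one_mul, pow_one]
  exact ⟨Units.mk0 (b ^ (2 ^ (m + 1) - 1)) (pow_ne_zero _ hb), h1 b hb⟩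

/-- the torus is transitive on `Z#` -/
theorem trans_Z (V : KD K F m p h S) {b c : F} (hb : b ≠ 0) (hc : c ≠ 0) :
    ∃ k, h k * p 0 b * (h k)⁻¹ = p 0 c := by
  obtain ⟨k, hk⟩ := V.exists_norm (b := c / b) (div_ne_zero hc hb)
  refine ⟨k, ?_⟩
  rw [V.h_z, hk, div_mul_cancel₀ _ hb]

/-- the torus acts freely on `Z#` -/
theorem free_Z (V : KD K F m p h S) {k : Fˣ} {b : F} (hb : b ≠ 0) (hk : h k * p 0 b = p 0 b * h k) : k = 1 := by
  have h1 : h k * p 0 b * (h k)⁻¹ = p 0 b := by rw [hk, mul_inv_cancel_right]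
  rw [V.h_z] at h1
  have h2 : (k : F) ^ (1 + 2 ^ (m + 1)) = 1 := by
    have h3 := V.z_inj h1
    exact mul_right_cancel₀ hb (by rw [h3, one_mul])
  rw [pow_add, pow_one] at h2
  have h3 : ((k : F) * (k : F) ^ 2 ^ (m + 1)) ^ 2 ^ (m + 1) = 1 := by rw [h2, one_pow]
  rw [mul_pow, V.th_th] at h3
  apply Units.ext
  rw [Units.val_one]
  linear_combination h3 - (k : F) * h2

/-- the torus acts freely on `S#` -/
theorem free_S (V : KD K F m p h S) {k : Fˣ} {s : G} (hs : s ∈ S) (hs1 : s ≠ 1) (hk : h k * s = s * h k) : k = 1 := by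
  obtain ⟨a, b, rfl⟩ := (V.mem_S s).mp hs
  have h1 : h k * p a b * (h k)⁻¹ = p a b := by rw [hk, mul_inv_cancel_right]
  rw [V.act] at h1
  obtain ⟨h2, h3⟩ := V.p_inj _ _ _ _ h1
  by_cases ha : a = 0
  · subst ha
    by_cases hb : b = 0
    · exact absurd (by rw [hb, V.p_zero]) hs1
    · exact V.free_Z hb hk
  · apply Units.ext
    rw [Units.val_one]
    exact mul_right_cancel₀ ha (by rw [h2, one_mul])

/-- `[s, S]` has index two in `Z` for `s ∈ S \ Z`: two elements of `Z` outside `[s, S]` differ by an element of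
`[s, S]`; `[s, S] = {a ^ θ c + a c ^ θ}` -/
theorem card_comm (V : KD K F m p h S) {a : F} (ha : a ≠ 0) :
    2 * Nat.card ↥({x : F | ∃ c, a ^ 2 ^ (m + 1) * c + a * c ^ 2 ^ (m + 1) = x} : Set F) = Nat.card F := by
  classical
  have := V.finF
  have := V.charP
  let f : F →+ F := AddMonoidHom.mk' (fun c => a ^ 2 ^ (m + 1) * c + a * c ^ 2 ^ (m + 1)) (by
    intro x y
    rw [V.th_add]; ring)
  have h1 : Nat.card ↥f.ker = 2 := by
    have h2 : (f.ker : Set F) = {0, a} := by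
      ext x
      rw [SetLike.mem_coe, AddMonoidHom.mem_ker]
      constructor
      · intro hx
        have hx' : a ^ 2 ^ (m + 1) * x + a * x ^ 2 ^ (m + 1) = 0 := hx
        have h3 : p a 0 * p x 0 = p x 0 * p a 0 := by
          rw [V.p_comm_iff]
          exact V.eq_of_add hx'
        rcases V.comm_cases ha h3 with h4 | h4
        · simp [h4]
        · simp [h4]
      · rintro (h3 | h3)
        · rw [h3, map_zero]
        · have h4 : x = a := h3
          show a ^ 2 ^ (m + 1) * x + a * x ^ 2 ^ (m + 1) = 0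
          rw [h4]
          linear_combination (a ^ 2 ^ (m + 1) * a) * V.two
    have h3 : Nat.card ↥f.ker = Nat.card ↥(f.ker : Set F) := rfl
    rw [h3, h2, Nat.card_coe_set_eq, Set.ncard_pair ha.symm]
  have h2 : Nat.card ↥f.range * Nat.card ↥f.ker = Nat.card F := by
    rw [← Nat.card_congr (QuotientAddGroup.quotientKerEquivRange f).toEquiv]
    exact (AddSubgroup.card_eq_card_quotient_mul_card_addSubgroup f.ker).symm
  have h3 : Nat.card ↥f.range = Nat.card ↥({x : F | ∃ c, a ^ 2 ^ (m + 1) * c + a * c ^ 2 ^ (m + 1) = x} : Set F) :=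
    rfl
  rw [← h3, mul_comm, ← h1, h2]

/-! ### In `N(K)` -/

theorem c_comm (V : KD K F m p h S) {c : G} (hc : c ∈ centralizer (K : Set G)) {s : G} (hs : s ∈ S) :
    c * s = s * c := (mem_centralizer_iff.mp hc s (V.le hs)).symm

theorem c_comm_h (V : KD K F m p h S) {c : G} (hc : c ∈ centralizer (K : Set G)) (k : Fˣ) :
    c * h k = h k * c := (mem_centralizer_iff.mp hc _ (V.h_mem k)).symm

theorem c_inf (V : KD K F m p h S) {c : G} (hc : c ∈ centralizer (K : Set G)) (hcS : c ∈ S) : c = 1 :=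
  V.cen c (V.le hcS) hc

/-- uniqueness of the product `C(K) × K` -/
theorem mul_inj (V : KD K F m p h S) {c d k l : G} (hc : c ∈ centralizer (K : Set G))
    (hd : d ∈ centralizer (K : Set G)) (hk : k ∈ K) (hl : l ∈ K) (he : c * k = d * l) : c = d ∧ k = l := by
  have h1 : d⁻¹ * c = l * k⁻¹ := by
    calc d⁻¹ * c = d⁻¹ * (c * k) * k⁻¹ := by group
      _ = d⁻¹ * (d * l) * k⁻¹ := by rw [he]
      _ = l * k⁻¹ := by group
  have h2 : d⁻¹ * c = 1 := by
    apply V.cen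
    · rw [h1]; exact K.mul_mem hl (K.inv_mem hk)
    · exact mul_mem (inv_mem hd) hc
  have h3 : c = d := by rwa [inv_mul_eq_one, eq_comm] at h2
  refine ⟨h3, ?_⟩
  subst h3
  exact mul_left_cancel he

/-- an element of `N(K)` moving a nontrivial element of `S` into `S` normalizes `S` -/
theorem tiN [Finite G] (V : KD K F m p h S) {x : G} (hx : x ∈ normalizer (K : Set G)) {s : G} (hs : s ∈ S)
    (hs1 : s ≠ 1) (hxs : x * s * x⁻¹ ∈ S) : x ∈ normalizer (S : Set G) := by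
  -- `S ^ x` is a Sylow 2-subgroup of `K`
  have h1 : IsSyl (cj x S) K := by
    have h2 := V.syl.cj x
    rwa [cj_eq_of_mem_normalizer hx] at h2
  obtain ⟨k, hk, hkS⟩ := V.syl.conj_into h1.two h1.le
  have h3 : k * (x * s * x⁻¹) * k⁻¹ ∈ S := hkS _ (mem_cj_mul hs)
  have h4 : x * s * x⁻¹ ≠ 1 := by
    intro h5
    apply hs1
    have h6 : s = x⁻¹ * (x * s * x⁻¹) * x := by group
    rw [h6, h5]; group
  obtain ⟨t, ht, l, htl⟩ := V.ti k hk _ hxs h4 h3
  have hkN : k ∈ normalizer (S : Set G) := by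
    rw [htl]
    exact mul_mem (le_normalizer ht) (V.h_normalizer l)
  have h5 : k * x ∈ normalizer (S : Set G) := by
    apply mem_normalizer_fintype
    intro u hu
    have h6 := hkS _ (mem_cj_mul (g := x) hu)
    have h7 : k * x * u * (k * x)⁻¹ = k * (x * u * x⁻¹) * k⁻¹ := by group
    rw [h7]
    exact h6
  have h6 := mul_mem (inv_mem hkN) h5
  rwa [inv_mul_cancel_left] at h6

/-- an element of `N(K) ∩ N(S)` normalizes `Z` -/
theorem norm_Z (V : KD K F m p h S) {x : G} (hx : x ∈ normalizer (S : Set G)) {z : G} (hz : z ∈ V.Z) :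
    x * z * x⁻¹ ∈ V.Z := by
  rw [V.mem_Z_iff]
  refine ⟨(mem_normalizer_iff.mp hx z).mp (V.Z_le hz), ?_⟩
  have h1 := V.Z_sq hz
  calc x * z * x⁻¹ * (x * z * x⁻¹) = x * (z * z) * x⁻¹ := by group
    _ = 1 := by rw [h1]; group

/-- the centralizer of an involution of `Z` in `N(K)` normalizes `S` -/
theorem cent_norm [Finite G] (V : KD K F m p h S) {x : G} (hx : x ∈ normalizer (K : Set G)) {z : G} (hz : z ∈ V.Z)
    (hz1 : z ≠ 1) (hc : x * z = z * x) : x ∈ normalizer (S : Set G) :=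
  V.tiN hx (V.Z_le hz) hz1 (by rw [hc, mul_inv_cancel_right]; exact V.Z_le hz)

/-- 2-elements of `N(K) ∩ N(S)` are in `C(K) × S` -/
theorem inner_S (V : KD K F m p h S) {x : G} (hx : x ∈ normalizer (K : Set G)) (h2 : ∃ n : ℕ, x ^ 2 ^ n = 1)
    (hxS : x ∈ normalizer (S : Set G)) : ∃ c ∈ centralizer (K : Set G), ∃ s ∈ S, x = c * s := by
  obtain ⟨k, hk, c, hc, rfl⟩ := V.inner x hx h2
  have hkN : k ∈ normalizer (S : Set G) := by
    have h3 : c ∈ normalizer (S : Set G) := by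
      rw [mem_normalizer_iff]
      intro s
      constructor
      · intro hs
        rw [V.c_comm hc hs, mul_inv_cancel_right]
        exact hs
      · intro hs
        have h4 := V.c_comm (inv_mem hc) hs
        have h5 : s = c⁻¹ * (c * s * c⁻¹) * c := by group
        rw [h5, h4, inv_mul_cancel_right]
        exact hs
    have h4 := mul_mem hx hx
    have h5 : k = k * c * c⁻¹ := by group
    rw [h5]
    exact mul_mem hxS (inv_mem h3)
  have h3 : k * p 0 1 * k⁻¹ ∈ S := (mem_normalizer_iff.mp hkN _).mp (V.p_mem 0 1)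
  obtain ⟨s, hs, l, hkl⟩ := V.ti k hk (p 0 1) (V.p_mem 0 1) (fun h1 => one_ne_zero (V.z_eq_one h1)) h3
  obtain ⟨n, hn⟩ := h2
  -- `l = 1`
  have hkc : k * c = c * k := mem_centralizer_iff.mp hc k hk
  have h4 : k ^ 2 ^ n = 1 := by
    have h5 : (k * c) ^ 2 ^ n = k ^ 2 ^ n * c ^ 2 ^ n := (Commute.mul_pow (show Commute k c from hkc) _)
    rw [hn] at h5
    have h6 : k ^ 2 ^ n = (c ^ 2 ^ n)⁻¹ := (mul_eq_one_iff_eq_inv.mp h5.symm)
    apply V.cen _ (pow_mem hk _)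
    rw [h6]
    exact inv_mem (pow_mem hc _)
  have hmod : ∀ j : ℕ, ∃ t ∈ S, k ^ j = t * h (l ^ j) := by
    intro j
    induction j with
    | zero => exact ⟨1, one_mem _, by rw [pow_zero, pow_zero, V.h_one, mul_one]⟩
    | succ j ih =>
      obtain ⟨t, ht, hj⟩ := ih
      refine ⟨t * (h (l ^ j) * s * (h (l ^ j))⁻¹), mul_mem ht (V.h_norm _ hs), ?_⟩
      rw [pow_succ, hj, hkl, pow_succ, V.h_mul]
      group
  obtain ⟨t, ht, h5⟩ := hmod (2 ^ n)
  rw [h4] at h5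
  have h6 : h (l ^ 2 ^ n) ∈ S := by
    have h7 : h (l ^ 2 ^ n) = t⁻¹ * (t * h (l ^ 2 ^ n)) := by group
    rw [h7, ← h5, mul_one]
    exact inv_mem ht
  have h7 : l ^ 2 ^ n = 1 := by
    apply V.free_Z (b := 1) one_ne_zero
    exact V.Z_comm (V.z_mem 1) h6
  have := V.finF
  have h8 : l = 1 := by
    have := Fintype.ofFinite F
    have h9 : orderOf l ∣ 2 ^ n := orderOf_dvd_of_pow_eq_one h7
    have h10 : l ^ (2 ^ (2 * m + 1) - 1) = 1 := by
      apply Units.ext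
      rw [Units.val_pow_eq_pow_val, Units.val_one, ← V.card_F, Nat.card_eq_fintype_card]
      exact FiniteField.pow_card_sub_one_eq_one _ l.ne_zero
    have h11 : orderOf l ∣ 2 ^ (2 * m + 1) - 1 := orderOf_dvd_of_pow_eq_one h10
    have h12 : Nat.Coprime (2 ^ n) (2 ^ (2 * m + 1) - 1) := by
      apply Nat.Coprime.pow_left
      rw [Nat.coprime_two_left]
      have e1 : 2 ^ (2 * m + 1) = 2 * 2 ^ (2 * m) := by rw [pow_succ]; ring
      have e2 : 1 ≤ 2 ^ (2 * m) := Nat.one_le_two_pow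
      rw [e1]
      exact ⟨2 ^ (2 * m) - 1, by omega⟩
    exact orderOf_eq_one_iff.mp (Nat.eq_one_of_dvd_coprimes h12 h9 h11)
  refine ⟨c, hc, s, hs, ?_⟩
  rw [hkc, hkl, h8, V.h_one, mul_one]

/-! ### Sylow 2-subgroups of `N(K)` -/

/-- elements of `Q S` -/
theorem mem_sup (V : KD K F m p h S) {Q : Subgroup G} (hQ : Q ≤ centralizer (K : Set G)) {x : G} :
    x ∈ Q ⊔ S ↔ ∃ q ∈ Q, ∃ s ∈ S, x = q * s := by
  have hn : Q ≤ normalizer (S : Set G) := by
    intro q hq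
    rw [mem_normalizer_iff]
    intro s
    constructor
    · intro hs
      rw [V.c_comm (hQ hq) hs, mul_inv_cancel_right]
      exact hs
    · intro hs
      have h4 := V.c_comm (inv_mem (hQ hq)) hs
      have h5 : s = q⁻¹ * (q * s * q⁻¹) * q := by group
      rw [h5, h4, inv_mul_cancel_right]
      exact hs
  constructor
  · intro hx
    rw [← SetLike.mem_coe, coe_mul_of_left_le_normalizer_right Q S hn] at hx
    obtain ⟨q, hq, s, hs, rfl⟩ := hx
    exact ⟨q, hq, s, hs, rfl⟩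
  · rintro ⟨q, hq, s, hs, rfl⟩
    exact mul_mem (mem_sup_left hq) (mem_sup_right hs)

theorem mem_sup' (V : KD K F m p h S) {Q : Subgroup G} (hQ : Q ≤ centralizer (K : Set G)) {x : G} :
    x ∈ Q ⊔ S ↔ ∃ q ∈ Q, ∃ a b, x = q * p a b := by
  rw [V.mem_sup hQ]
  constructor
  · rintro ⟨q, hq, s, hs, rfl⟩
    obtain ⟨a, b, rfl⟩ := (V.mem_S s).mp hs
    exact ⟨q, hq, a, b, rfl⟩
  · rintro ⟨q, hq, a, b, rfl⟩
    exact ⟨q, hq, _, V.p_mem a b, rfl⟩

theorem qp_inj (V : KD K F m p h S) {Q : Subgroup G} (hQ : Q ≤ centralizer (K : Set G)) {q r : G} (hq : q ∈ Q)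
    (hr : r ∈ Q) {a b c d : F} (he : q * p a b = r * p c d) : q = r ∧ a = c ∧ b = d := by
  obtain ⟨h1, h2⟩ := V.mul_inj (hQ hq) (hQ hr) (V.le (V.p_mem a b)) (V.le (V.p_mem c d)) he
  exact ⟨h1, V.p_inj _ _ _ _ h2⟩

theorem sup_two (V : KD K F m p h S) {Q : Subgroup G} (hQ : Q ≤ centralizer (K : Set G)) (hQ2 : IsPGroup 2 ↥Q) :
    IsPGroup 2 ↥(Q ⊔ S) := by
  intro x
  obtain ⟨q, hq, s, hs, hx⟩ := (V.mem_sup hQ).mp x.2
  obtain ⟨n, hn⟩ := hQ2 ⟨q, hq⟩
  have hn' : q ^ 2 ^ n = 1 := congrArg Subtype.val hn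
  refine ⟨n + 2, Subtype.ext ?_⟩
  show (x : G) ^ 2 ^ (n + 2) = 1
  rw [hx, Commute.mul_pow (show Commute q s from V.c_comm (hQ hq) hs), pow_add, pow_mul, hn', one_pow, one_mul,
    mul_comm, pow_mul]
  norm_num
  rw [V.pow_four hs, one_pow]

/-- **the Sylow 2-subgroups of `N(K)`** -/
theorem syl_sup [Finite G] (V : KD K F m p h S) {Q : Subgroup G} (hQ : IsSyl Q (centralizer (K : Set G))) :
    IsSyl (Q ⊔ S) (normalizer (K : Set G)) := by
  refine ⟨V.sup_two hQ.le hQ.two, sup_le (hQ.le.trans (centralizer_le_normalizer _)) (V.le.trans le_normalizer), ?_⟩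
  intro X hX hle hXN x hx
  have hX2 : ∀ y ∈ X, ∃ n : ℕ, y ^ 2 ^ n = 1 := by
    intro y hy
    obtain ⟨n, hn⟩ := hX ⟨y, hy⟩
    exact ⟨n, congrArg Subtype.val hn⟩
  -- `X ∩ K = S`
  have hXK : X ⊓ K ≤ S := by
    apply V.syl.max _ (hX.to_le inf_le_left) _ inf_le_right
    exact le_inf (le_sup_right.trans hle) V.le
  have hXS : ∀ y ∈ X, y ∈ normalizer (S : Set G) := by
    intro y hy
    apply mem_normalizer_fintype
    intro s hs
    exact hXK ⟨X.mul_mem (X.mul_mem hy (hle (mem_sup_right hs))) (X.inv_mem hy),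
      (mem_normalizer_iff.mp (hXN hy) s).mp (V.le hs)⟩
  obtain ⟨c, hc, s, hs, hxcs⟩ := V.inner_S (hXN hx) (hX2 x hx) (hXS x hx)
  -- `c ∈ Q`
  have hcX : c ∈ X := by
    have h1 : c = x * s⁻¹ := by rw [hxcs]; group
    rw [h1]
    exact X.mul_mem hx (X.inv_mem (hle (mem_sup_right hs)))
  have hXC : X ⊓ centralizer (K : Set G) ≤ Q := by
    apply hQ.max _ (hX.to_le inf_le_left) _ inf_le_right
    exact le_inf (le_sup_left.trans hle) hQ.le
  rw [hxcs]
  exact mul_mem (mem_sup_left (hXC ⟨hcX, hc⟩)) (mem_sup_right hs)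

theorem syl_K [Finite G] {T : Subgroup G} (hT : IsSyl T (normalizer (K : Set G))) : IsSyl (T ⊓ K) K :=
  hT.inf le_normalizer hT.le

theorem syl_C [Finite G] {T : Subgroup G} (hT : IsSyl T (normalizer (K : Set G))) :
    IsSyl (T ⊓ centralizer (K : Set G)) (centralizer (K : Set G)) := by
  apply hT.inf (centralizer_le_normalizer _)
  intro t ht
  apply mem_normalizer_fintype
  intro c hc
  rw [SetLike.mem_coe, mem_centralizer_iff] at hc ⊢
  intro k hk
  have h1 : t⁻¹ * k * t ∈ K := (mem_normalizer_iff''.mp (hT.le ht) k).mp hk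
  have h2 := hc _ h1
  calc k * (t * c * t⁻¹) = t * ((t⁻¹ * k * t) * c) * t⁻¹ := by group
    _ = t * (c * (t⁻¹ * k * t)) * t⁻¹ := by rw [h2]
    _ = t * c * t⁻¹ * k := by group

/-- a Sylow 2-subgroup of `N(K)` containing `S` is `Q S` -/
theorem syl_eq [Finite G] (V : KD K F m p h S) {T : Subgroup G} (hT : IsSyl T (normalizer (K : Set G)))
    (hS : S ≤ T) : T = (T ⊓ centralizer (K : Set G)) ⊔ S := by
  have h1 := V.syl_sup (syl_C hT)
  apply le_antisymm
  · exact h1.max T hT.two (sup_le inf_le_left hS) hT.le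
  · exact sup_le inf_le_left hS

/-! ### Transport to conjugates -/

theorem cj_conj {A : Subgroup G} {g x : G} (hx : x ∈ CommConj.cj g A) : ∃ a ∈ A, x = g * a * g⁻¹ := by
  refine ⟨g⁻¹ * x * g, mem_cj.mp hx, by group⟩

theorem mem_cj_iff {A : Subgroup G} {g a : G} : g * a * g⁻¹ ∈ CommConj.cj g A ↔ a ∈ A := by
  rw [mem_cj]
  have h1 : g⁻¹ * (g * a * g⁻¹) * g = a := by group
  rw [h1]

theorem conj_eq_mul {g a b : G} : g * (a * b) * g⁻¹ = (g * a * g⁻¹) * (g * b * g⁻¹) := by group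

theorem cj_sup (g : G) (A B : Subgroup G) : CommConj.cj g (A ⊔ B) = CommConj.cj g A ⊔ CommConj.cj g B :=
  Subgroup.map_sup A B _

/-- **coordinates of the conjugates of `K`** -/
theorem conj (V : KD K F m p h S) (g : G) :
    KD (CommConj.cj g K) F m (fun a b => g * p a b * g⁻¹) (fun k => g * h k * g⁻¹) (CommConj.cj g S) where
  hm := V.hm
  card_F := V.card_F
  two := V.two
  p_mul a b c d := by rw [← V.p_mul]; group
  p_inj a b c d he := V.p_inj _ _ _ _ (mul_left_cancel (mul_right_cancel he))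
  h_mul k l := by rw [V.h_mul]; group
  h_inj k l he := V.h_inj (mul_left_cancel (mul_right_cancel he))
  act k a b := by
    have h1 := V.act k a b
    show g * h k * g⁻¹ * (g * p a b * g⁻¹) * (g * h k * g⁻¹)⁻¹ = g * p _ _ * g⁻¹
    rw [← h1]
    group
  mem_S x := by
    rw [mem_cj, V.mem_S]
    constructor
    · rintro ⟨a, b, hab⟩
      exact ⟨a, b, by rw [← hab]; group⟩
    · rintro ⟨a, b, rfl⟩
      exact ⟨a, b, by group⟩
  h_mem k := mem_cj_mul (V.h_mem k)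
  syl := V.syl.cj g
  ti x hx s hs hs1 hxs := by
    obtain ⟨y, hy, rfl⟩ := cj_conj hx
    obtain ⟨u, hu, rfl⟩ := cj_conj hs
    have h1 : g * y * g⁻¹ * (g * u * g⁻¹) * (g * y * g⁻¹)⁻¹ = g * (y * u * y⁻¹) * g⁻¹ := by group
    rw [h1, mem_cj_iff] at hxs
    obtain ⟨t, ht, k, he⟩ := V.ti y hy u hu (by rintro rfl; exact hs1 (by group)) hxs
    exact ⟨g * t * g⁻¹, mem_cj_mul ht, k, by rw [he, conj_eq_mul]⟩
  cent x hx s hs hs1 hxs := by
    obtain ⟨y, hy, rfl⟩ := cj_conj hx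
    obtain ⟨u, hu, rfl⟩ := cj_conj hs
    rw [← conj_eq_mul, ← conj_eq_mul] at hxs
    exact mem_cj_mul (V.cent y hy u hu (by rintro rfl; exact hs1 (by group))
      (mul_left_cancel (mul_right_cancel hxs)))
  cen x hx hxc := by
    obtain ⟨y, hy, rfl⟩ := cj_conj hx
    rw [centralizer_cj, mem_cj_iff] at hxc
    rw [V.cen y hy hxc]; group
  inner x hx h2 := by
    rw [normalizer_cj] at hx
    obtain ⟨y, hy, rfl⟩ := cj_conj hx
    obtain ⟨n, hn⟩ := h2
    rw [conj_pow] at hn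
    have h3 : y ^ 2 ^ n = 1 := by
      have h4 : y ^ 2 ^ n = g⁻¹ * (g * y ^ 2 ^ n * g⁻¹) * g := by group
      rw [h4, hn]; group
    obtain ⟨k, hk, c, hc, rfl⟩ := V.inner y hy ⟨n, h3⟩
    refine ⟨g * k * g⁻¹, mem_cj_mul hk, g * c * g⁻¹, ?_, conj_eq_mul⟩
    rw [centralizer_cj]
    exact mem_cj_mul hc
  cz x hx hc := by
    rw [normalizer_cj] at hx
    obtain ⟨y, hy, rfl⟩ := cj_conj hx
    obtain ⟨c, hc', s, hs, rfl⟩ := V.cz y hy (by
      intro b
      have h1 := hc b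
      rw [← conj_eq_mul, ← conj_eq_mul] at h1
      exact mul_left_cancel (mul_right_cancel h1))
    refine ⟨g * c * g⁻¹, ?_, g * s * g⁻¹, mem_cj_mul hs, conj_eq_mul⟩
    rw [centralizer_cj]
    exact mem_cj_mul hc'
  gen S' hS' hne := by
    have h1 : IsSyl (CommConj.cj g⁻¹ S') K := by
      have h2 := hS'.cj g⁻¹
      rwa [cj_inv_cj] at h2
    have h2 := V.gen _ h1 (by
      rintro rfl
      apply hne
      rw [cj_cj_inv])
    rw [← h2, cj_sup, cj_cj_inv]

/-- coordinates for every Sylow 2-subgroup of `K` -/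
theorem exists_of_syl [Finite G] (V : KD K F m p h S) {S' : Subgroup G} (hS' : IsSyl S' K) :
    ∃ k ∈ K, CommConj.cj k S = S' ∧ KD K F m (fun a b => k * p a b * k⁻¹) (fun l => k * h l * k⁻¹) S' := by
  obtain ⟨k, hk, hkS⟩ := hS'.conj_into V.syl.two V.syl.le
  have h1 : CommConj.cj k S ≤ S' := by
    intro x hx
    obtain ⟨s, hs, rfl⟩ := cj_conj hx
    exact hkS s hs
  have h2 := V.conj k
  rw [cj_eq_of_mem_normalizer (le_normalizer hk)] at h2
  have h3 : CommConj.cj k S = S' :=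
    le_antisymm h1 (h2.syl.max S' hS'.two h1 hS'.le)
  refine ⟨k, hk, h3, ?_⟩
  rwa [h3] at h2

/-- **the hypothesis `inner` of `Exists.fullPair_of_maxE`** -/
theorem innerIn [Finite G] (V : KD K F m p h S) (T : Subgroup G) (hT : IsSyl T (normalizer (K : Set G)))
    (y : G) (hy : y ∈ T) (hc : ∀ s ∈ T, s ∈ K → s * y = y * s) :
    ∃ k ∈ centralizer (K : Set G), ∃ s ∈ T, s ∈ K ∧ (∀ u ∈ T, u ∈ K → u * s = s * u) ∧ y = k * s := by
  obtain ⟨k, hk, -, V'⟩ := V.exists_of_syl (syl_K hT)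
  have h1 : ∀ b, y * (fun a b => k * p a b * k⁻¹) 0 b = (fun a b => k * p a b * k⁻¹) 0 b * y := by
    intro b
    have h2 := V'.p_mem 0 b
    exact (hc _ h2.1 h2.2).symm
  obtain ⟨c, hcc, s, hs, rfl⟩ := V'.cz y (hT.le hy) h1
  refine ⟨c, hcc, s, hs.1, hs.2, ?_, rfl⟩
  intro u hu huK
  have h3 := hc u hu huK
  have h4 := V'.c_comm hcc (s := u) ⟨hu, huK⟩
  have h5 : c * (u * s) = c * (s * u) := by
    calc c * (u * s) = (c * u) * s := by group
      _ = u * (c * s) := by rw [h4]; group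
      _ = c * s * u := h3
      _ = c * (s * u) := by group
  exact mul_left_cancel h5

end Cfsg.Agent.OddHalf.D4.Sz.KD
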