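import Mathlib

/-!
# ODD, D4, `K = Sz(q)`, `q ≥ 32`: the facts on `K` (interface)

`K ≤ G`, `K ≅ Sz(q)`, `q = 2 ^ (2 m + 1) ≥ 32`. `p a b` = a Sylow 2-subgroup of `K`, `h l` = a torus.
-/

set_option autoImplicit false

namespace Cfsg.Agent.OddHalf.D4.Sz

open Subgroup

/-- The facts on `K ≅ Sz(q)`. -/
structure KF {G : Type*} [Group G] (K : Subgroup G) (F : Type*) [Field F] [Fintype F] (m : ℕ) where
  hm : 2 ≤ m
  hF : Fintype.card F = 2 ^ (2 * m + 1)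
  p : F → F → G
  p_mul : ∀ a b c d : F, p a b * p c d = p (a + c) (b + d + a ^ (2 ^ (m + 1)) * c)
  p_inj : ∀ a b c d : F, p a b = p c d → a = c ∧ b = d
  p_mem : ∀ a b, p a b ∈ K
  h : Fˣ → G
  h_mem : ∀ l, h l ∈ K
  h_mul : ∀ k l : Fˣ, h (k * l) = h k * h l
  h_p : ∀ (l : Fˣ) (a b : F), h l * p a b * (h l)⁻¹ = p (l * a) ((l : F) ^ (1 + 2 ^ (m + 1)) * b)
  /-- the centre is trivial -/
  cen : ∀ x ∈ K, x ∈ centralizer (K : Set G) → x = 1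
  /-- 2-elements of `N(K)` induce inner automorphisms -/
  inner : ∀ g ∈ normalizer (K : Set G), (∃ k : ℕ, g ^ 2 ^ k = 1) → ∃ a ∈ K, a⁻¹ * g ∈ centralizer (K : Set G)
  /-- `{p a b}` is a Sylow 2-subgroup of `K` -/
  syl : ∀ X : Subgroup G, IsPGroup 2 ↥X → X ≤ K → ∃ k ∈ K, ∀ x ∈ X, ∃ a b, k * x * k⁻¹ = p a b
  /-- `C_{N(K)}(Z) = C(K) {p a b}` -/
  cz : ∀ g ∈ normalizer (K : Set G), (∀ b, g * p 0 b = p 0 b * g) → ∃ a b, (p a b)⁻¹ * g ∈ centralizer (K : Set G)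

end Cfsg.Agent.OddHalf.D4.Sz
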