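import Mathlib
import Cfsg.Agent.OddHalf.D4.Sz.KFB
import Cfsg.Agent.OddHalf.D4.Sz.KFDef

/-!
# ODD, D4, `K = Sz(q)`: existence of the facts `KF` (helper216's interface `KFDef`)
-/

set_option autoImplicit false

namespace Cfsg.Agent.OddHalf.D4.Sz

open Subgroup Cfsg.Agent.OddHalf.D4 Cfsg.Agent.OddHalf.D4.Basic

/-- `KF` from the coordinates `KD` -/
theorem KD.exists_KF {G : Type*} [Group G] [Finite G] {K S : Subgroup G} {F : Type*} [Field F] [Fintype F] {m : ℕ}
    {p : F → F → G} {h : Fˣ → G} (V : KD K F m p h S) (hm : 2 ≤ m) :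
    ∃ D : KF K F m, D.p = p ∧ D.h = h := by
  refine ⟨{ hm := hm
            hF := by rw [← Nat.card_eq_fintype_card, V.card_F]
            p := p
            p_mul := V.p_mul
            p_inj := V.p_inj
            p_mem := fun a b => V.le (V.p_mem a b)
            h := h
            h_mem := V.h_mem
            h_mul := V.h_mul
            h_p := V.act
            cen := V.cen
            inner := ?_
            syl := ?_
            cz := ?_ }, rfl, rfl⟩
  · intro g hg h2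
    obtain ⟨k, hk, c, hc, rfl⟩ := V.inner g hg h2
    exact ⟨k, hk, by rw [inv_mul_cancel_left]; exact hc⟩
  · intro X hX hXK
    obtain ⟨k, hk, hkX⟩ := V.syl.conj_into hX hXK
    exact ⟨k, hk, fun x hx => (V.mem_S _).mp (hkX x hx)⟩
  · intro g hg hgz
    obtain ⟨c, hc, s, hs, rfl⟩ := V.cz g hg hgz
    obtain ⟨a, b, rfl⟩ := (V.mem_S s).mp hs
    refine ⟨a, b, ?_⟩
    rw [V.c_comm hc hs, inv_mul_cancel_left]
    exact hc

/-- **existence of `KF`** -/
theorem exists_KF {G : Type*} [Group G] [Finite G] {K : Subgroup G} {F : Type} [Field F] [Fintype F] {m : ℕ}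
    (hm : 2 ≤ m) (hF : Fintype.card F = 2 ^ (2 * m + 1)) (e : Nonempty (↥K ≃* ↥(Cfsg.Lie.Sz F (2 ^ (m + 1))))) :
    Nonempty (KF K F m) := by
  obtain ⟨e⟩ := e
  obtain ⟨S, hS, -⟩ := exists_isSyl (G := G) (M := K) (Q := ⊥) IsPGroup.of_bot bot_le
  obtain ⟨p, h, V⟩ := KD.exists_kd (by omega : 1 ≤ m) hF e hS
  obtain ⟨D, -, -⟩ := V.exists_KF hm
  exact ⟨D⟩

end Cfsg.Agent.OddHalf.D4.Sz
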