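import Cfsg.Agent.OddHalf.D4.Sz.PairDefs
import Cfsg.Agent.OddHalf.D4.Sz.KFDef

/-!
# ODD, D4, `K = Sz(q)`, `q ≥ 32`: the second member of the pair

`T = Q × {p a b}` Sylow in `N(K)`, `x ∉ N(K)`, `T ≤ N(K ^ x)`, `R = T ∩ C(K ^ x)`. Either `R = {p a b}`
(`eq_SK`) or `R = {r * p 0 (f r)}` (`exists_graph`).
-/

set_option autoImplicit false
set_option linter.unusedSectionVars false

namespace Cfsg.Agent.OddHalf.D4.Sz.PairDefs

open Subgroup Cfsg.Agent.OddHalf.D4 Cfsg.Agent.OddHalf.D4.Basic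
open Cfsg.Agent.OddHalf.D4.CommConj (Tight cj mem_cj cj_mul card_cj cj_eq_of_mem_normalizer mem_normalizer_of_cj_eq
  mem_cj_mul)

variable {G : Type*} [Group G] {F : Type*} [Field F] [Fintype F] [CharP F 2] {m : ℕ} {K : Subgroup G}

/-- from the structure of `KFDef` -/
def KFr.ofKF [Finite G] (D : KF K F m) : KFr F m K where
  hm := D.hm
  hF := D.hF
  p := D.p
  p_mem := D.p_mem
  p_mul := D.p_mul
  p_inj := D.p_inj
  h := D.h
  h_mem := D.h_mem
  h_mul := D.h_mul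
  h_p := D.h_p
  cen := D.cen
  syl P hP hPK hp x hx := by
    obtain ⟨k, hk, hkP⟩ := D.syl P hP hPK
    choose α β hαβ using hkP
    let f : ↥P → F × F := fun y => (α y y.2, β y y.2)
    have hf : Function.Injective f := by
      intro y z hyz
      have h1 : α y y.2 = α z z.2 := congrArg Prod.fst hyz
      have h2 : β y y.2 = β z z.2 := congrArg Prod.snd hyz
      have h3 : k * (y : G) * k⁻¹ = k * (z : G) * k⁻¹ := by rw [hαβ y y.2, hαβ z z.2, h1, h2]
      exact Subtype.ext (mul_left_cancel (mul_right_cancel h3))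
    let g : F × F → ↥P := fun c => ⟨D.p c.1 c.2, hp c.1 c.2⟩
    have hg : Function.Injective g := by
      rintro ⟨a, b⟩ ⟨c, d⟩ h
      obtain ⟨h1, h2⟩ := D.p_inj _ _ _ _ (congrArg Subtype.val h)
      exact Prod.ext h1 h2
    have hb := hg.bijective_of_nat_card_le (Nat.card_le_card_of_injective f hf)
    obtain ⟨⟨a, b⟩, hab⟩ := hb.2 ⟨x, hx⟩
    exact ⟨a, b, (congrArg Subtype.val hab).symm⟩
  inner g hg hg2 := by
    obtain ⟨a, ha, hac⟩ := D.inner g hg hg2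
    refine ⟨a⁻¹ * g, hac, a, ha, ?_⟩
    rw [← mem_centralizer_iff.mp hac a ha, mul_inv_cancel_left]
  cz g hg hgz := by
    obtain ⟨a, b, hc⟩ := D.cz g hg hgz
    refine ⟨(D.p a b)⁻¹ * g, hc, a, b, ?_⟩
    rw [← mem_centralizer_iff.mp hc _ (D.p_mem a b), mul_inv_cancel_left]

/-- two index 2 subgroups of `F` meet -/
theorem exists_KK (hm : 2 ≤ m) (hF : Fintype.card F = 2 ^ (2 * m + 1)) (μ : F) :
    ∃ w : F, w ≠ 0 ∧ w ∈ Cfsg.Agent.StdSz.FormAlg.KK m F ∧ μ * w ∈ Cfsg.Agent.StdSz.FormAlg.KK m F := by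
  classical
  have hi := Cfsg.Agent.StdSz.FormAlg.index_KK (F := F) hF
  -- two distinct nonzero elements of `KK`
  have hc : 3 ≤ Nat.card (Cfsg.Agent.StdSz.FormAlg.KK m F) := by
    have h1 := (Cfsg.Agent.StdSz.FormAlg.KK m F).card_mul_index
    rw [hi, Nat.card_eq_fintype_card, Nat.card_eq_fintype_card, hF] at h1
    rw [Nat.card_eq_fintype_card]
    have h2 : 2 ^ 5 ≤ 2 ^ (2 * m + 1) := Nat.pow_le_pow_right (by norm_num) (by omega)
    omega
  obtain ⟨u, v, hu0, hv0, huv⟩ : ∃ u v : ↥(Cfsg.Agent.StdSz.FormAlg.KK m F), u ≠ 0 ∧ v ≠ 0 ∧ u ≠ v := by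
    rw [Nat.card_eq_fintype_card] at hc
    have h1 : ∃ u : ↥(Cfsg.Agent.StdSz.FormAlg.KK m F), u ∉ ({0} : Finset _) :=
      Finset.exists_mem_notMem_of_card_lt_card (s := {0}) (t := Finset.univ) (by
        rw [Finset.card_univ, Finset.card_singleton]; omega) |>.imp fun _ h => h.2
    obtain ⟨u, hu⟩ := h1
    have h2 : ∃ v : ↥(Cfsg.Agent.StdSz.FormAlg.KK m F), v ∉ ({0, u} : Finset _) :=
      Finset.exists_mem_notMem_of_card_lt_card (s := {0, u}) (t := Finset.univ) (by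
        rw [Finset.card_univ]
        exact lt_of_le_of_lt Finset.card_le_two (by omega)) |>.imp fun _ h => h.2
    obtain ⟨v, hv⟩ := h2
    simp only [Finset.mem_insert, Finset.mem_singleton, not_or] at hu hv
    exact ⟨u, v, hu, hv.1, fun h => hv.2 h.symm⟩
  by_contra hcon
  push Not at hcon
  have h1 : μ * (u : F) ∉ Cfsg.Agent.StdSz.FormAlg.KK m F := hcon u (fun h => hu0 (Subtype.ext h)) u.2
  have h2 : μ * (v : F) ∉ Cfsg.Agent.StdSz.FormAlg.KK m F := hcon v (fun h => hv0 (Subtype.ext h)) v.2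
  have h3 : (u : F) + v ≠ 0 := by
    intro h
    apply huv
    apply Subtype.ext
    exact (CharTwo.add_eq_zero.mp h)
  apply hcon _ h3 (add_mem u.2 v.2)
  rw [mul_add, AddSubgroup.add_mem_iff_of_index_two hi]
  exact ⟨fun h => absurd h h1, fun h => absurd h h2⟩

/-- a unit different from 1 -/
theorem exists_unit (hm : 2 ≤ m) (hF : Fintype.card F = 2 ^ (2 * m + 1)) : ∃ l : Fˣ, (l : F) ≠ 1 := by
  classical
  have h2 : 2 ^ 5 ≤ 2 ^ (2 * m + 1) := Nat.pow_le_pow_right (by norm_num) (by omega)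
  obtain ⟨v, -, hv⟩ : ∃ v ∈ (Finset.univ : Finset F), v ∉ ({0, 1} : Finset F) :=
    Finset.exists_mem_notMem_of_card_lt_card (by
      rw [Finset.card_univ, hF]
      exact lt_of_le_of_lt Finset.card_le_two (by omega))
  simp only [Finset.mem_insert, Finset.mem_singleton, not_or] at hv
  exact ⟨Units.mk0 v hv.1, hv.2⟩

variable [Finite G]

namespace Base

variable {D : KFr F m K} {Q T : Subgroup G} (B : Base D Q T)

include B

/-- `h l` normalizes `T` -/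
theorem h_T (l : Fˣ) {t : G} (ht : t ∈ T) : D.h l * t * (D.h l)⁻¹ ∈ T := by
  obtain ⟨q, hq, a, b, rfl⟩ := (B.mem t).mp ht
  rw [B.mem]
  refine ⟨q, hq, l * a, (l : F) ^ (1 + 2 ^ (m + 1)) * b, ?_⟩
  rw [← D.h_p, ← mul_assoc, D.h_comm_of_cent (B.sylQ.le hq)]
  group

theorem h_Q (l : Fˣ) {q : G} (hq : q ∈ Q) : D.h l * q = q * D.h l := D.h_comm_of_cent (B.sylQ.le hq) l

/-- an involution of `T` is in `Q × {p 0 b}` -/
theorem of_sq {t : G} (ht : t ∈ T) (h2 : t * t = 1) : ∃ q ∈ Q, q * q = 1 ∧ ∃ b, t = q * D.p 0 b := by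
  obtain ⟨q, hq, a, b, rfl⟩ := (B.mem t).mp ht
  have h3 : q * q * (D.p a b * D.p a b) = 1 := by
    calc q * q * (D.p a b * D.p a b) = q * (q * D.p a b) * D.p a b := by group
      _ = q * (D.p a b * q) * D.p a b := by rw [B.comm hq]
      _ = q * D.p a b * (q * D.p a b) := by group
      _ = 1 := h2
  have h4 : q * q * D.p 0 (a ^ (1 + 2 ^ (m + 1))) = 1 * D.p 0 0 := by
    rw [← D.p_sq a b, h3, D.p_zero, one_mul]
  obtain ⟨h5, -, h6⟩ := B.uniq (mul_mem hq hq) (one_mem _) h4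
  have h7 : a = 0 := (pow_eq_zero_iff (by positivity)).mp h6
  subst h7
  exact ⟨q, hq, h5, b, rfl⟩

variable {x : G} (ht : TightAt K) (hx : x ∉ normalizer (K : Set G))
  (hT : T ≤ normalizer ((cj x K : Subgroup G) : Set G))

/-- `T` is a Sylow subgroup of `N(K ^ x)` -/
theorem sylT' (hT : T ≤ normalizer ((cj x K : Subgroup G) : Set G)) :
    IsSyl T (normalizer ((cj x K : Subgroup G) : Set G)) := by
  have h1 := B.sylT.cj x
  rw [← normalizer_cj] at h1
  exact h1.of_card B.sylT.two hT (by rw [card_cj])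

theorem exists_base' (hT : T ≤ normalizer ((cj x K : Subgroup G) : Set G)) :
    ∃ D' : KFr F m (cj x K), Base D' (T ⊓ centralizer ((cj x K : Subgroup G) : Set G)) T :=
  exists_base (D.cjTo x rfl) (B.sylT' hT)

include ht hx

theorem inf_one {r : G} (hr : r ∈ Q) (hr' : r ∈ centralizer ((cj x K : Subgroup G) : Set G)) : r = 1 := by
  by_contra hne
  obtain ⟨n, hn⟩ := CommConj.exists_pow_involution B.sylQ.two hr hne
  exact hx (ht.eq (pow_mem (B.sylQ.le hr) n) hn (pow_mem hr' n))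

omit hx ht B in
theorem norm_R (hT : T ≤ normalizer ((cj x K : Subgroup G) : Set G)) {t r : G} (htT : t ∈ T)
    (hr : r ∈ T ⊓ centralizer ((cj x K : Subgroup G) : Set G)) :
    t * r * t⁻¹ ∈ T ⊓ centralizer ((cj x K : Subgroup G) : Set G) :=
  ⟨T.mul_mem (T.mul_mem htT hr.1) (T.inv_mem htT), norm_cent (hT htT) hr.2⟩

include hT

theorem comm_QR {q r : G} (hq : q ∈ Q) (hr : r ∈ T ⊓ centralizer ((cj x K : Subgroup G) : Set G)) :
    q * r = r * q := by
  have h1 : q * r * q⁻¹ * r⁻¹ ∈ Q := by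
    have e : q * r * q⁻¹ * r⁻¹ = q * (r * q⁻¹ * r⁻¹) := by group
    rw [e]
    exact Q.mul_mem hq (B.norm_Q hr.1 (Q.inv_mem hq))
  have h2 : q * r * q⁻¹ * r⁻¹ ∈ T ⊓ centralizer ((cj x K : Subgroup G) : Set G) :=
    mul_mem (norm_R hT (B.Q_le hq) hr) (inv_mem hr)
  have h3 := B.inf_one ht hx h1 h2.2
  have h4 : q * r = (q * r * q⁻¹ * r⁻¹) * (r * q) := by group
  rw [h4, h3, one_mul]

omit hx ht in
/-- `R` is a conjugate of `Q` -/
theorem exists_cjQ : ∃ y : G, cj y K = cj x K ∧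
    cj y Q = T ⊓ centralizer ((cj x K : Subgroup G) : Set G) := by
  obtain ⟨D', B'⟩ := B.exists_base' hT
  have h1 := B.sylQ.cj x
  rw [← centralizer_cj] at h1
  obtain ⟨c, hc, hcQ⟩ := B'.sylQ.exists_cj h1
  refine ⟨c * x, ?_, ?_⟩
  · rw [cj_mul]
    exact cj_eq_of_mem_normalizer (cent_le_norm _ hc)
  · rw [cj_mul]; exact hcQ

/-- **case (a)**: if some element of `R` has a component outside `{p 0 b}`, then `R = {p a b}` -/
theorem eq_SK {q : G} (hq : q ∈ Q) {a b : F} (ha : a ≠ 0)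
    (hv : q * D.p a b ∈ T ⊓ centralizer ((cj x K : Subgroup G) : Set G)) (y : G) :
    y ∈ T ⊓ centralizer ((cj x K : Subgroup G) : Set G) ↔ ∃ c d, y = D.p c d := by
  set R := T ⊓ centralizer ((cj x K : Subgroup G) : Set G) with hR
  -- commutators
  have h2 : ∀ w ∈ Cfsg.Agent.StdSz.FormAlg.KK m F, D.p 0 (a ^ (1 + 2 ^ (m + 1)) * w) ∈ R := by
    intro w hw
    obtain ⟨e, rfl⟩ := Cfsg.Agent.StdSz.FormAlg.mem_KK.mp hw
    have h3 : q * D.p a b * (D.p (a * e) 0 * (q * D.p a b)⁻¹ * (D.p (a * e) 0)⁻¹) ∈ R :=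
      mul_mem hv (norm_R hT (B.p_mem _ _) (inv_mem hv))
    have h4 : q * D.p a b * (D.p (a * e) 0 * (q * D.p a b)⁻¹ * (D.p (a * e) 0)⁻¹) =
        D.p a b * D.p (a * e) 0 * (D.p a b)⁻¹ * (D.p (a * e) 0)⁻¹ := by
      have h5 : q⁻¹ * (D.p (a * e) 0)⁻¹ = (D.p (a * e) 0)⁻¹ * q⁻¹ := by
        rw [← mul_inv_rev, ← mul_inv_rev, B.comm hq]
      have h6 : q * (D.p a b * D.p (a * e) 0 * (D.p a b)⁻¹ * (D.p (a * e) 0)⁻¹) =
          (D.p a b * D.p (a * e) 0 * (D.p a b)⁻¹ * (D.p (a * e) 0)⁻¹) * q := by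
        rw [D.p_comm]
        exact B.comm hq _ _
      calc q * D.p a b * (D.p (a * e) 0 * (q * D.p a b)⁻¹ * (D.p (a * e) 0)⁻¹)
          = q * (D.p a b * D.p (a * e) 0 * (D.p a b)⁻¹ * (q⁻¹ * (D.p (a * e) 0)⁻¹)) := by group
        _ = q * (D.p a b * D.p (a * e) 0 * (D.p a b)⁻¹ * (D.p (a * e) 0)⁻¹) * q⁻¹ := by rw [h5]; group
        _ = _ := by rw [h6]; group
    rw [h4, D.p_comm] at h3
    have h7 : a ^ 2 ^ (m + 1) * (a * e) + (a * e) ^ 2 ^ (m + 1) * a =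
        a ^ (1 + 2 ^ (m + 1)) * (e ^ (2 ^ (m + 1)) + e) := by
      rw [mul_pow, _root_.pow_add a 1 (2 ^ (m + 1)), pow_one]; ring
    rwa [h7] at h3
  have ha' : a ^ (1 + 2 ^ (m + 1)) ≠ 0 := pow_ne_zero _ ha
  -- the torus normalizes `K ^ x`
  have h4 : ∀ l : Fˣ, D.h l ∈ normalizer ((cj x K : Subgroup G) : Set G) := by
    intro l
    obtain ⟨w, hw0, hw, hlw⟩ := exists_KK D.hm D.hF ((l : F) ^ (1 + 2 ^ (m + 1)))
    have h5 := h2 _ hw
    have h6 := h2 _ hlw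
    refine (ht.cj x).tight (D.h l) (D.p 0 (a ^ (1 + 2 ^ (m + 1)) * w)) h5.2 ?_ ?_
    · apply orderOf_eq_prime
      · rw [pow_two, D.z_self]
      · intro h7
        rw [← D.p_zero] at h7
        exact mul_ne_zero ha' hw0 (D.z_inj h7)
    · rw [D.h_p, mul_zero]
      have e : (l : F) ^ (1 + 2 ^ (m + 1)) * (a ^ (1 + 2 ^ (m + 1)) * w) =
          a ^ (1 + 2 ^ (m + 1)) * ((l : F) ^ (1 + 2 ^ (m + 1)) * w) := by ring
      rw [e]
      exact h6.2
  have h5 : ∀ (l : Fˣ) {r : G}, r ∈ R → D.h l * r * (D.h l)⁻¹ ∈ R := fun l r hr =>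
    ⟨B.h_T l hr.1, norm_cent (h4 l) hr.2⟩
  -- an element `p a' b'`
  obtain ⟨a', b', ha0, hab⟩ : ∃ a' b' : F, a' ≠ 0 ∧ D.p a' b' ∈ R := by
    obtain ⟨l, hl⟩ := exists_unit (F := F) D.hm D.hF
    have h6 : (q * D.p a b)⁻¹ * (D.h l * (q * D.p a b) * (D.h l)⁻¹) ∈ R := mul_mem (inv_mem hv) (h5 l hv)
    have h7 : (q * D.p a b)⁻¹ * (D.h l * (q * D.p a b) * (D.h l)⁻¹) =
        (D.p a b)⁻¹ * D.p (l * a) ((l : F) ^ (1 + 2 ^ (m + 1)) * b) := by
      rw [← D.h_p, ← mul_assoc (D.h l), B.h_Q l hq]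
      group
    rw [h7, D.p_inv, D.p_mul] at h6
    refine ⟨_, _, ?_, h6⟩
    intro h8
    have h9 : (1 + (l : F)) * a = 0 := by linear_combination h8
    rcases mul_eq_zero.mp h9 with h10 | h10
    · exact hl (CharTwo.add_eq_zero.mp h10).symm
    · exact ha h10
  have h6 : ∀ w : F, D.p 0 w ∈ R := by
    intro w
    by_cases hw : w = 0
    · rw [hw, D.p_zero]; exact one_mem _
    obtain ⟨l, hl⟩ := D.exists_norm_unit (b := w / a' ^ (1 + 2 ^ (m + 1)))
      (div_ne_zero hw (pow_ne_zero _ ha0))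
    have h7 : D.p 0 (a' ^ (1 + 2 ^ (m + 1))) ∈ R := by
      rw [← D.p_sq a' b']; exact mul_mem hab hab
    have h8 := h5 l h7
    rw [D.h_p, mul_zero, hl, div_mul_cancel₀ _ (pow_ne_zero _ ha0)] at h8
    exact h8
  have h7 : ∀ c d : F, D.p c d ∈ R := by
    intro c d
    by_cases hc : c = 0
    · rw [hc]; exact h6 d
    have h8 := h5 (Units.mk0 (c / a') (div_ne_zero hc ha0)) hab
    rw [D.h_p, Units.val_mk0, div_mul_cancel₀ _ ha0] at h8
    have h9 := mul_mem h8 (h6 (d - (c / a') ^ (1 + 2 ^ (m + 1)) * b'))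
    rw [D.p_mul_z] at h9
    rwa [sub_add_cancel] at h9
  constructor
  · intro hy
    obtain ⟨r, hr, c, d, rfl⟩ := (B.mem y).mp hy.1
    have h8 : r ∈ R := by
      have := mul_mem hy (inv_mem (h7 c d))
      rwa [mul_inv_cancel_right] at this
    rw [B.inf_one ht hx hr h8.2, one_mul]
    exact ⟨c, d, rfl⟩
  · rintro ⟨c, d, rfl⟩
    exact h7 c d

/-- **case (b)**: if all elements of `R` lie in `Q × {p 0 b}`, then `R` is a graph -/
theorem exists_graph (h : ∀ y ∈ T ⊓ centralizer ((cj x K : Subgroup G) : Set G), ∃ q ∈ Q, ∃ b, y = q * D.p 0 b) :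
    (∀ r ∈ Q, r * r = 1) ∧ ∃ f : G → F, (∀ r ∈ Q, ∀ s ∈ Q, f (r * s) = f r + f s) ∧
      (∀ r ∈ Q, f r = 0 → r = 1) ∧
      ∀ y, y ∈ T ⊓ centralizer ((cj x K : Subgroup G) : Set G) ↔ ∃ r ∈ Q, y = r * D.p 0 (f r) := by
  obtain ⟨D', B'⟩ := B.exists_base' hT
  set R := T ⊓ centralizer ((cj x K : Subgroup G) : Set G) with hR
  -- `R` is abelian
  have hab : ∀ y ∈ R, ∀ z ∈ R, y * z = z * y := by
    intro y hy z hz
    obtain ⟨q, hq, b, rfl⟩ := h y hy
    obtain ⟨r, hr, c, rfl⟩ := h z hz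
    have h1 : q * r * q⁻¹ * r⁻¹ ∈ R := by
      have e : q * r * q⁻¹ * r⁻¹ = q * D.p 0 b * (r * D.p 0 c) * (q * D.p 0 b)⁻¹ * (r * D.p 0 c)⁻¹ := by
        have e1 : q * D.p 0 b * (r * D.p 0 c) = q * r * (D.p 0 b * D.p 0 c) := by
          calc q * D.p 0 b * (r * D.p 0 c) = q * (D.p 0 b * r) * D.p 0 c := by group
            _ = q * (r * D.p 0 b) * D.p 0 c := by rw [B.comm hr]
            _ = _ := by group
        have e2 : r * D.p 0 c * (q * D.p 0 b) = r * q * (D.p 0 b * D.p 0 c) := by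
          calc r * D.p 0 c * (q * D.p 0 b) = r * (D.p 0 c * q) * D.p 0 b := by group
            _ = r * (q * D.p 0 c) * D.p 0 b := by rw [B.comm hq]
            _ = r * q * (D.p 0 c * D.p 0 b) := by group
            _ = _ := by rw [D.z_mul, D.z_mul, add_comm c b]
        have e3 : q * D.p 0 b * (r * D.p 0 c) * (q * D.p 0 b)⁻¹ * (r * D.p 0 c)⁻¹ =
            q * D.p 0 b * (r * D.p 0 c) * (r * D.p 0 c * (q * D.p 0 b))⁻¹ := by group
        rw [e3, e1, e2]; group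
      rw [e]
      exact mul_mem (mul_mem (mul_mem hy hz) (inv_mem hy)) (inv_mem hz)
    have h2 : q * r * q⁻¹ * r⁻¹ = 1 :=
      B.inf_one ht hx (mul_mem (mul_mem (mul_mem hq hr) (inv_mem hq)) (inv_mem hr)) h1.2
    have h3 : q * r = r * q := by
      have : q * r = (q * r * q⁻¹ * r⁻¹) * (r * q) := by group
      rw [this, h2, one_mul]
    calc q * D.p 0 b * (r * D.p 0 c) = q * (D.p 0 b * r) * D.p 0 c := by group
      _ = q * (r * D.p 0 b) * D.p 0 c := by rw [B.comm hr]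
      _ = (q * r) * (D.p 0 b * D.p 0 c) := by group
      _ = (r * q) * (D.p 0 c * D.p 0 b) := by rw [h3, D.z_mul, D.z_mul, add_comm b c]
      _ = r * (q * D.p 0 c) * D.p 0 b := by group
      _ = r * (D.p 0 c * q) * D.p 0 b := by rw [B.comm hq]
      _ = r * D.p 0 c * (q * D.p 0 b) := by group
  -- commutators of `T` lie in `K ^ x`
  have hcomm : ∀ s ∈ T, ∀ t ∈ T, s * t * s⁻¹ * t⁻¹ ∈ cj x K := by
    intro s hs t htT
    obtain ⟨q, hq, a, b, rfl⟩ := (B'.mem s).mp hs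
    obtain ⟨r, hr, c, d, rfl⟩ := (B'.mem t).mp htT
    have e1 : q * D'.p a b * (r * D'.p c d) = q * r * (D'.p a b * D'.p c d) := by
      calc q * D'.p a b * (r * D'.p c d) = q * (D'.p a b * r) * D'.p c d := by group
        _ = q * (r * D'.p a b) * D'.p c d := by rw [B'.comm hr]
        _ = _ := by group
    have e2 : r * D'.p c d * (q * D'.p a b) = q * r * (D'.p c d * D'.p a b) := by
      calc r * D'.p c d * (q * D'.p a b) = r * (D'.p c d * q) * D'.p a b := by group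
        _ = r * (q * D'.p c d) * D'.p a b := by rw [B'.comm hq]
        _ = r * q * (D'.p c d * D'.p a b) := by group
        _ = _ := by rw [hab q hq r hr]
    have e3 : q * D'.p a b * (r * D'.p c d) * (q * D'.p a b)⁻¹ * (r * D'.p c d)⁻¹ =
        q * D'.p a b * (r * D'.p c d) * (r * D'.p c d * (q * D'.p a b))⁻¹ := by group
    have e4 : q * r * (D'.p a b * D'.p c d) * (q * r * (D'.p c d * D'.p a b))⁻¹ =
        q * r * (D'.p a b * D'.p c d * (D'.p a b)⁻¹ * (D'.p c d)⁻¹) * (q * r)⁻¹ := by group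
    rw [e3, e1, e2, e4, D'.p_comm, B'.comm (mul_mem hq hr), mul_inv_cancel_right]
    exact D'.p_mem _ _
  -- `R ∩ Z = 1`
  have hRZ : ∀ w : F, D.p 0 w ∈ R → w = 0 := by
    intro w hw
    obtain ⟨a, c, hac⟩ := D.exists_comm w
    have h1 : D.p 0 w ∈ cj x K := by
      rw [← hac]; exact hcomm _ (B.p_mem _ _) _ (B.p_mem _ _)
    have h2 := D'.cen _ h1 hw.2
    rw [← D.p_zero] at h2
    exact D.z_inj h2
  obtain ⟨y0, -, hy0⟩ := B.exists_cjQ hT
  -- the projection to `Q` is bijective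
  have hsur : ∀ q ∈ Q, ∃ b, q * D.p 0 b ∈ R := by
    choose g hgQ β hgβ using h
    let φ : ↥R → ↥Q := fun y => ⟨g y y.2, hgQ y y.2⟩
    have hφ : Function.Injective φ := by
      intro y z hyz
      have h1 : g y y.2 = g z z.2 := congrArg Subtype.val hyz
      have h2 : (y : G)⁻¹ * z ∈ R := mul_mem (inv_mem y.2) z.2
      have h3 : (y : G)⁻¹ * z = D.p 0 (β y y.2 + β z z.2) := by
        conv_lhs => rw [hgβ y y.2, hgβ z z.2, h1]
        rw [mul_inv_rev, D.z_inv, ← D.z_mul]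
        group
      rw [h3] at h2
      have h4 := hRZ _ h2
      rw [h4, D.p_zero] at h3
      exact Subtype.ext (inv_mul_eq_one.mp h3)
    have hb := hφ.bijective_of_nat_card_le (by
      have : Nat.card ↥R = Nat.card ↥Q := by
        rw [hR, ← hy0, card_cj]
      exact this.ge)
    intro q hq
    obtain ⟨y, hy⟩ := hb.2 ⟨q, hq⟩
    refine ⟨β y y.2, ?_⟩
    have h1 : g y y.2 = q := congrArg Subtype.val hy
    rw [← h1, ← hgβ]
    exact y.2
  classical
  choose! f hf using hsur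
  have huniq : ∀ q ∈ Q, ∀ b, q * D.p 0 b ∈ R → b = f q := by
    intro q hq b hb
    have h1 := mul_mem (inv_mem (hf q hq)) hb
    have h2 : (q * D.p 0 (f q))⁻¹ * (q * D.p 0 b) = D.p 0 (f q + b) := by
      rw [mul_inv_rev, D.z_inv, ← D.z_mul]; group
    rw [h2] at h1
    exact (CharTwo.add_eq_zero.mp (hRZ _ h1)).symm
  have hsq : ∀ r ∈ Q, r * r = 1 := by
    intro r hr
    have h1 : r * D.p 0 (f r) * (r * D.p 0 (f r)) = r * r := by
      calc r * D.p 0 (f r) * (r * D.p 0 (f r)) = r * (D.p 0 (f r) * r) * D.p 0 (f r) := by group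
        _ = r * (r * D.p 0 (f r)) * D.p 0 (f r) := by rw [B.comm hr]
        _ = r * r * (D.p 0 (f r) * D.p 0 (f r)) := by group
        _ = r * r := by rw [D.z_self, mul_one]
    have h2 : r * r ∈ R := by rw [← h1]; exact mul_mem (hf r hr) (hf r hr)
    exact B.inf_one ht hx (mul_mem hr hr) h2.2
  refine ⟨hsq, f, fun r hr s hs => ?_, fun r hr h0 => ?_, fun y => ⟨fun hy => ?_, ?_⟩⟩
  · symm
    apply huniq _ (mul_mem hr hs)
    have h1 := mul_mem (hf r hr) (hf s hs)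
    have h2 : r * D.p 0 (f r) * (s * D.p 0 (f s)) = r * s * D.p 0 (f r + f s) := by
      rw [← D.z_mul]
      calc r * D.p 0 (f r) * (s * D.p 0 (f s)) = r * (D.p 0 (f r) * s) * D.p 0 (f s) := by group
        _ = r * (s * D.p 0 (f r)) * D.p 0 (f s) := by rw [B.comm hs]
        _ = _ := by group
    rwa [h2] at h1
  · have h1 := hf r hr
    rw [h0, D.p_zero, mul_one] at h1
    exact B.inf_one ht hx hr h1.2
  · obtain ⟨q, hq, b, rfl⟩ := h y hy
    exact ⟨q, hq, by rw [huniq q hq b hy]⟩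
  · rintro ⟨r, hr, rfl⟩
    exact hf r hr

/-- the dichotomy -/
theorem dichotomy :
    (∀ y, y ∈ T ⊓ centralizer ((cj x K : Subgroup G) : Set G) ↔ ∃ c d, y = D.p c d) ∨
    ((∀ r ∈ Q, r * r = 1) ∧ ∃ f : G → F, (∀ r ∈ Q, ∀ s ∈ Q, f (r * s) = f r + f s) ∧
      (∀ r ∈ Q, f r = 0 → r = 1) ∧
      ∀ y, y ∈ T ⊓ centralizer ((cj x K : Subgroup G) : Set G) ↔ ∃ r ∈ Q, y = r * D.p 0 (f r)) := by
  by_cases h : ∀ y ∈ T ⊓ centralizer ((cj x K : Subgroup G) : Set G), ∃ q ∈ Q, ∃ b, y = q * D.p 0 b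
  · exact Or.inr (B.exists_graph ht hx hT h)
  · left
    push Not at h
    obtain ⟨y, hy, hyb⟩ := h
    obtain ⟨q, hq, a, b, rfl⟩ := (B.mem y).mp hy.1
    have ha : a ≠ 0 := by
      rintro rfl
      exact hyb q hq b rfl
    exact B.eq_SK ht hx hT hq ha hy

end Base

end Cfsg.Agent.OddHalf.D4.Sz.PairDefs
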