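import Mathlib
import Cfsg.Agent.OddHalf.D4.Start
import Cfsg.Agent.OddHalf.D4.Sz.KFEx
import Cfsg.Agent.OddHalf.D4.Sz.PairA
import Cfsg.Agent.OddHalf.D4.Sz.MvDef

/-!
# ODD, D4, `K = Sz(q)`, `q ≥ 32`: the front

From a standard component `K ≅ Sz(q)`, `m_2(C(K)) ≥ 2`, to `Mv D Q T g`: coordinates `D` of `K`, `T = Q × {p a b}` a
Sylow 2-subgroup of `N(K)`, `g ∈ N(T) - N(K)`.
-/

set_option autoImplicit false

namespace Cfsg.Agent.OddHalf.D4.Sz.Front

open Cfsg Subgroup Cfsg.Agent.OddHalf.D4 Cfsg.Agent.OddHalf.D4.Basic Cfsg.Agent.OddHalf.D4.Sz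
open Cfsg.Agent.OddHalf.D4.Sz.PairDefs
open Cfsg.Agent.OddHalf.D4.CommConj (Tight MaxE cj mem_cj cj_mul card_cj cj_eq_of_mem_normalizer
  mem_normalizer_of_cj_eq mem_cj_mul)

universe u

theorem orderOf_two_iff {G : Type*} [Group G] {x : G} : orderOf x = 2 ↔ x * x = 1 ∧ x ≠ 1 := by
  rw [orderOf_eq_iff (by norm_num)]
  constructor
  · rintro ⟨h1, h2⟩
    refine ⟨by rw [← pow_two, h1], ?_⟩
    have := h2 1 (by norm_num) (by norm_num)
    rwa [pow_one] at this
  · rintro ⟨h1, h2⟩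
    refine ⟨by rw [pow_two, h1], ?_⟩
    intro m hm hm0
    interval_cases m
    rwa [pow_one]

/-- two involutions of a Sylow 2-subgroup of a group of 2-rank at least 2 -/
theorem exists_two {G : Type*} [Group G] [Finite G] {C Q : Subgroup G} (hQ : IsSyl Q C)
    (hrk : ¬ PRankLE 2 1 ↥C) : ∃ r ∈ Q, ∃ s ∈ Q, r * r = 1 ∧ s * s = 1 ∧ r ≠ 1 ∧ s ≠ 1 ∧ r ≠ s := by
  obtain ⟨a, b, ha, hb, ha2, hb2, hab, hne⟩ := EvenPair.exists_two_of_not_pRankLE hrk
  have hfour : IsPGroup 2 ↥(zpowers a ⊔ zpowers b) := by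
    have h1 : IsPGroup 2 ↥(zpowers a) := by
      rw [IsPGroup.iff_card]; exact ⟨1, by rw [Nat.card_zpowers, ha2]; norm_num⟩
    have h2 : IsPGroup 2 ↥(zpowers b) := by
      rw [IsPGroup.iff_card]; exact ⟨1, by rw [Nat.card_zpowers, hb2]; norm_num⟩
    apply h1.to_sup_of_normal_left' h2
    rw [zpowers_le, mem_normalizer_iff]
    have h3 : ∀ n : ℤ, b * a ^ n * b⁻¹ = a ^ n := by
      intro n
      have h4 : Commute b (a ^ n) := (Commute.zpow_right (show Commute b a from hab.symm) n)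
      rw [h4.eq]; group
    intro x
    constructor
    · rintro ⟨n, rfl⟩
      exact ⟨n, (h3 n).symm⟩
    · rintro ⟨n, hn⟩
      refine ⟨n, ?_⟩
      have h5 : b * x * b⁻¹ = b * a ^ n * b⁻¹ := by rw [h3 n]; exact hn.symm
      exact (mul_left_cancel (mul_right_cancel h5)).symm
  obtain ⟨m, -, hmq⟩ := hQ.conj_into hfour (sup_le (by rw [zpowers_le]; exact ha) (by rw [zpowers_le]; exact hb))
  have key : ∀ x : G, orderOf x = 2 → (m * x * m⁻¹) * (m * x * m⁻¹) = 1 ∧ m * x * m⁻¹ ≠ 1 := by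
    intro x hx
    apply orderOf_two_iff.mp
    rw [Basic.orderOf_conj]; exact hx
  exact ⟨m * a * m⁻¹, hmq a (mem_sup_left (mem_zpowers a)), m * b * m⁻¹, hmq b (mem_sup_right (mem_zpowers b)),
    (key a ha2).1, (key b hb2).1, (key a ha2).2, (key b hb2).2,
    fun he => hne (mul_left_cancel (mul_right_cancel he))⟩

/-- **the front for a tight subgroup with coordinates** -/
theorem exists_mv {G : Type*} [Group G] [Finite G] {F : Type*} [Field F] [Fintype F] {m : ℕ} {K S : Subgroup G}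
    {p : F → F → G} {h : Fˣ → G} (V : KD K F m p h S) (hm : 2 ≤ m) (tight : TightAt K)
    (he : Even (Nat.card ↥(centralizer (K : Set G)))) (hrk : ¬ PRankLE 2 1 ↥(centralizer (K : Set G)))
    (hpair : ∃ g : G, g ∉ normalizer (K : Set G) ∧ ∃ r ∈ normalizer (K : Set G), orderOf r = 2 ∧
      g⁻¹ * r * g ∈ centralizer (K : Set G)) :
    ∃ (D : KFr F m K) (Q T : Subgroup G) (g : G), Mv D Q T g := by
  have := V.charP
  obtain ⟨g, hg, r, hr, hr2, hrg⟩ := hpair
  obtain ⟨E, hE⟩ := tight.exists_maxE hg hr hr2 hrg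
  obtain ⟨L, Q, U, hF, hQE, hUE⟩ := Exists.fullPair_of_maxE tight V.cen
    (fun T hT y hy hc => V.innerIn T hT y hy hc) hE
  obtain ⟨T, hT, hET⟩ := exists_isSyl hE.isPGroup hE.le
  obtain ⟨D₀, -, -⟩ := V.exists_KF hm
  obtain ⟨D, hD⟩ := exists_base (KFr.ofKF D₀) hT
  -- `Q = T ∩ C(K)`
  have hQ : Q = T ⊓ centralizer (K : Set G) := by
    apply le_antisymm
    · exact le_inf (hQE.trans hET) hF.sylQ.le
    · exact hF.sylQ.max _ (hT.two.to_le inf_le_left) (le_inf (hQE.trans hET) hF.sylQ.le) inf_le_right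
  rw [← hQ] at hD
  -- an involution of `U`
  have heL : Even (Nat.card ↥(centralizer (L : Set G))) := by
    obtain ⟨x, _, rfl⟩ := hF.conj
    rw [centralizer_cj, card_cj]; exact he
  obtain ⟨w, hwU, hw2⟩ := exists_inv_syl hF.sylU heL
  have hwT : w ∈ T := hET (hUE hwU)
  have hww : w * w = 1 := (orderOf_two_iff.mp hw2).1
  obtain ⟨q, hq, a, b, hw⟩ := (hD.mem w).mp hwT
  have ha : a = 0 := by
    apply D.eq_zero_of_sq (b := b)
    apply D.cen _ (K.mul_mem (D.p_mem a b) (D.p_mem a b))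
    have h1 : D.p a b * D.p a b = (q * q)⁻¹ := by
      have h2 := hD.comm hq a b
      have h3 : (q * q) * (D.p a b * D.p a b) = 1 := by
        calc (q * q) * (D.p a b * D.p a b) = q * (q * D.p a b) * D.p a b := by group
          _ = q * (D.p a b * q) * D.p a b := by rw [h2]
          _ = (q * D.p a b) * (q * D.p a b) := by group
          _ = 1 := by rw [← hw, hww]
      exact (inv_eq_of_mul_eq_one_right h3).symm
    rw [h1]
    exact inv_mem (mul_mem (hD.Q_cent hq) (hD.Q_cent hq))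
  subst ha
  -- `T` centralizes `w`
  have hTw : ∀ t ∈ T, t * w = w * t := by
    intro t ht
    obtain ⟨r', hr', c, d, rfl⟩ := (hD.mem t).mp ht
    have h1 : D.p c d * w = w * D.p c d := by
      rw [hw]
      calc D.p c d * (q * D.p 0 b) = (D.p c d * q) * D.p 0 b := by group
        _ = q * (D.p c d * D.p 0 b) := by rw [← hD.comm hq]; group
        _ = q * D.p 0 b * D.p c d := by rw [← D.z_comm]; group
    have h2 : r' * w = w * r' := hF.comm r' hr' w hwU
    calc r' * D.p c d * w = r' * (D.p c d * w) := by group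
      _ = (r' * w) * D.p c d := by rw [h1]; group
      _ = w * (r' * D.p c d) := by rw [h2]; group
  have hTL : T ≤ normalizer (L : Set G) := fun t ht => (hF.tightL tight).mem (hF.sylU.le hwU) hw2 (hTw t ht)
  -- Frattini
  obtain ⟨x, hx, hL⟩ := hF.conj
  have hxT : IsSyl (cj x T) (normalizer (L : Set G)) := by
    rw [hL, normalizer_cj]
    exact hT.cj x
  obtain ⟨n, hn, hnT⟩ := hxT.conj_into hT.two hTL
  have h1 : cj n T ≤ cj x T := by
    rintro _ ⟨t, ht, rfl⟩
    exact hnT t ht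
  have h2 : cj n T = cj x T := by
    apply Subgroup.eq_of_le_of_card_ge h1
    rw [card_cj, card_cj]
  refine ⟨D, Q, T, n⁻¹ * x, hD, tight, ?_, ?_, exists_two hF.sylQ hrk⟩
  · apply mem_normalizer_of_cj_eq
    rw [cj_mul, ← h2, ← cj_mul, inv_mul_cancel]
    ext y
    rw [mem_cj]; simp
  · intro h3
    apply hx
    apply mem_normalizer_of_cj_eq
    have h4 := cj_eq_of_mem_normalizer h3
    rw [cj_mul, ← hL, cj_eq_of_mem_normalizer (inv_mem hn)] at h4
    rw [← hL, h4]

/-- **the front for the rows of `D4.Cut`** -/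
theorem exists_mv_std (h1173 : Start.P1173.{u}) {G : Type u} [Group G] (C : Iface.Ctx G) {K : Subgroup G}
    (hK : Iface.Std G K) (hrk : ¬ PRankLE 2 1 ↥(centralizer (K : Set G))) {F : Type} [Field F] [Fintype F] {m : ℕ}
    (hm : 2 ≤ m) (hF : Fintype.card F = 2 ^ (2 * m + 1)) (e : ↥K ≃* ↥(Cfsg.Lie.Sz F (2 ^ (m + 1)))) :
    ∃ (D : KFr F m K) (Q T : Subgroup G) (g : G), Mv D Q T g := by
  have := C.fin
  have := C.simple
  have hstd := hK.std
  have tight : TightAt K := EvenPair.tight_of_standard hstd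
  obtain ⟨S, hS, -⟩ := exists_isSyl (G := G) (M := K) (Q := ⊥) IsPGroup.of_bot bot_le
  obtain ⟨p, h, V⟩ := KD.exists_kd (by omega : 1 ≤ m) hF e hS
  have hperf : ⁅K, K⁆ = K := by
    have h1 : ⁅(⊤ : Subgroup ↥K), (⊤ : Subgroup ↥K)⁆ = ⊤ := hstd.1.1.commutator_eq_top
    have h2 := congrArg (Subgroup.map K.subtype) h1
    rw [Subgroup.map_commutator, ← MonoidHom.range_eq_map, Subgroup.range_subtype] at h2
    exact h2
  have hne : K ≠ ⊥ := by
    rintro rfl
    have h1 := V.le (V.p_mem 0 1)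
    rw [mem_bot] at h1
    exact one_ne_zero (V.z_eq_one h1)
  have he := hstd.2.1.1
  obtain ⟨a, b, ha, hb, ha2, hb2, hab, hne2⟩ := EvenPair.exists_two_of_not_pRankLE hrk
  exact exists_mv V hm tight he hrk (EvenPair.exists_even (h1173 G (Start.oddCore_eq_bot ha2)) tight he hne hperf
    (fun k hk c hc => mem_centralizer_iff.mp hc k hk))

end Cfsg.Agent.OddHalf.D4.Sz.Front
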