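import Cfsg.Agent.GH.KeyTransfer

/-!
# The wreath kill (helper216's text bb ODD #11407 (1)(a), typed by helper514)

* `exists_extremal`: `S` Sylow 2, `M ≤ S` of index 2, `x` an involution, `T` a 2-subgroup of `C(x)` containing
  `x`: if `G` has no subgroup of index 2 then some `g` has `T ^ g ≤ S` and `x ^ g ∈ M`.
* `main`: `S = (Q × Q ^ y)⟨y⟩` is not a Sylow 2-subgroup of a group without subgroups of index 2 if `Q' = Z` is
  the set of the `a ∈ Q` with `a² = 1`, `|Z| ≥ 4`, and no diagonal involution is conjugate into `Q`.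
-/

set_option autoImplicit false

open Subgroup

namespace Cfsg.Agent.OddHalf.D4.Sz.Wreath

open Cfsg.Agent.GH.KeyTransfer
open scoped commutatorElement

variable {G : Type*} [Group G]

/-- **Extremal transfer.** -/
theorem exists_extremal [Finite G] (hG : ∀ H : Subgroup G, H.index ≠ 2) (S : Sylow 2 G) {M : Subgroup G}
    (hMS : M ≤ S) (hi : M.relIndex S = 2) {x : G} (hx : x * x = 1) {T : Subgroup G} (hT : IsPGroup 2 T)
    (hTx : ∀ t ∈ T, t * x = x * t) (hxT : x ∈ T) :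
    ∃ g : G, (∀ t ∈ T, g⁻¹ * t * g ∈ (S : Subgroup G)) ∧ g⁻¹ * x * g ∈ M := by
  have hp2 : Fact (Nat.Prime 2) := ⟨Nat.prime_two⟩
  by_contra hcon
  push Not at hcon
  have h1 := even_card hG hMS hi hx hT hTx
  have h2 : Nat.card {q : G ⧸ (S : Subgroup G) // Bad (S : Subgroup G) M x q ∧ ∀ t ∈ T, t • q = q} =
      Nat.card (MulAction.fixedPoints T (G ⧸ (S : Subgroup G))) := by
    refine Nat.card_congr
      { toFun := fun q => ⟨q.1, fun t => q.2.2 t t.2⟩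
        invFun := fun q => ⟨q.1, ?_, fun t ht => q.2 ⟨t, ht⟩⟩
        left_inv := fun _ => rfl
        right_inv := fun _ => rfl }
    obtain ⟨q, hq⟩ := q
    induction q using QuotientGroup.induction_on with
    | H g =>
      have h3 : ∀ t ∈ T, g⁻¹ * t * g ∈ (S : Subgroup G) := fun t ht => smul_eq_iff.mp (hq ⟨t, ht⟩)
      exact (bad_mk hMS hi).2 ⟨h3 x hxT, hcon g h3⟩
  have h3 : Nat.card (G ⧸ (S : Subgroup G)) ≡ Nat.card (MulAction.fixedPoints T (G ⧸ (S : Subgroup G))) [MOD 2] :=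
    hT.card_modEq_card_fixedPoints (G ⧸ (S : Subgroup G))
  have h4 : ¬ 2 ∣ Nat.card (G ⧸ (S : Subgroup G)) := S.not_dvd_index
  rw [h2, Nat.even_iff] at h1
  rw [Nat.ModEq, h1] at h3
  exact h4 (Nat.dvd_of_mod_eq_zero h3)

/-- the hypotheses of the wreath kill: `T0 = Q × Q ^ y`, `Z = Q'` -/
structure Wr (T0 Q Z : Subgroup G) (y : G) : Prop where
  hyy : y * y = 1
  hQT : Q ≤ T0
  mem : ∀ x ∈ T0, ∃ a ∈ Q, ∃ b ∈ Q, x = a * (y * b * y)
  comm : ∀ a ∈ Q, ∀ b ∈ Q, a * (y * b * y) = y * b * y * a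
  dis : ∀ a ∈ Q, y * a * y ∈ Q → a = 1
  der : ⁅Q, Q⁆ = Z
  inv : ∀ a ∈ Q, a * a = 1 ↔ a ∈ Z
  four : 4 ≤ Nat.card Z
  /-- diagonal involutions are not conjugate into `Q` -/
  diag : ∀ a ∈ Z, ∀ b ∈ Z, a ≠ 1 → b ≠ 1 → ∀ g : G, g * (a * (y * b * y)) * g⁻¹ ∉ Q

namespace Wr

variable {T0 Q Z : Subgroup G} {y : G} (W : Wr T0 Q Z y)

include W

theorem ZQ : Z ≤ Q := by
  rw [← W.der]
  exact Subgroup.commutator_le.2 fun a ha b hb =>
    mul_mem (mul_mem (mul_mem ha hb) (inv_mem ha)) (inv_mem hb)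

theorem sq {a : G} (ha : a ∈ Z) : a * a = 1 := (W.inv a (W.ZQ ha)).2 ha

/-- `d ↦ d d^y` is multiplicative -/
theorem phi_mul {a b : G} (ha : a ∈ Q) (hb : b ∈ Q) :
    a * b * (y * (a * b) * y) = a * (y * a * y) * (b * (y * b * y)) := by
  have h1 : y * (a * b) * y = y * a * y * (y * b * y) := by
    calc y * (a * b) * y = y * a * 1 * b * y := by group
      _ = y * a * (y * y) * b * y := by rw [W.hyy]
      _ = _ := by group
  rw [h1]
  calc a * b * (y * a * y * (y * b * y)) = a * (b * (y * a * y)) * (y * b * y) := by group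
    _ = a * (y * a * y * b) * (y * b * y) := by rw [W.comm b hb a ha]
    _ = _ := by group

theorem phi_one : (1 : G) * (y * 1 * y) = 1 := by simp [W.hyy]

theorem phi_inv {a : G} (ha : a ∈ Q) : a⁻¹ * (y * a⁻¹ * y) = (a * (y * a * y))⁻¹ := by
  apply eq_inv_of_mul_eq_one_left
  rw [← W.phi_mul (inv_mem ha) ha, inv_mul_cancel, W.phi_one]

/-- `d d^y` commutes with `y` -/
theorem phi_comm {a : G} (ha : a ∈ Q) : a * (y * a * y) * y = y * (a * (y * a * y)) := by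
  calc a * (y * a * y) * y = y * a * y * a * y := by rw [W.comm a ha a ha]
    _ = y * (a * (y * a * y)) := by group

/-- `y d d^y = y^d` for an involution `d` of `Q` -/
theorem y_phi {a : G} (ha : a ∈ Z) : y * (a * (y * a * y)) = a * y * a⁻¹ := by
  have h1 : a⁻¹ = a := inv_eq_of_mul_eq_one_left (W.sq ha)
  rw [← W.phi_comm (W.ZQ ha), h1]
  calc a * (y * a * y) * y = a * (y * a * (y * y)) := by group
    _ = a * y * a := by rw [W.hyy]; group

/-- involutions of `T0` -/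
theorem mem_inv {v : G} (hv : v ∈ T0) (h : v * v = 1) : ∃ a ∈ Z, ∃ b ∈ Z, v = a * (y * b * y) := by
  obtain ⟨a, ha, b, hb, rfl⟩ := W.mem v hv
  have h1 : a * a * (y * (b * b) * y) = 1 := by
    calc a * a * (y * (b * b) * y) = a * a * (y * b * 1 * b * y) := by group
      _ = a * a * (y * b * (y * y) * b * y) := by rw [W.hyy]
      _ = a * (a * (y * b * y)) * (y * b * y) := by group
      _ = a * (y * b * y * a) * (y * b * y) := by rw [W.comm a ha b hb]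
      _ = a * (y * b * y) * (a * (y * b * y)) := by group
      _ = 1 := h
  have h2 : y * (b * b) * y = (a * a)⁻¹ := eq_inv_of_mul_eq_one_right h1
  have h3 : b * b = 1 := W.dis _ (mul_mem hb hb) (by rw [h2]; exact inv_mem (mul_mem ha ha))
  have h4 : a * a = 1 := by
    rw [h3, mul_one, W.hyy, mul_one] at h1
    exact h1
  exact ⟨a, (W.inv a ha).1 h4, b, (W.inv b hb).1 h3, rfl⟩

end Wr

/-- **The wreath kill.** -/
theorem main [Finite G] (hG : ∀ H : Subgroup G, H.index ≠ 2) (S : Sylow 2 G) {T0 Q Z : Subgroup G} {y : G}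
    (hTS : T0 ≤ S) (hi : T0.relIndex S = 2) (hyS : y ∈ (S : Subgroup G)) (W : Wr T0 Q Z y) : False := by
  have hyi : y⁻¹ = y := inv_eq_of_mul_eq_one_left W.hyy
  -- index 2
  have hcom : ∀ a ∈ (S : Subgroup G), ∀ b ∈ (S : Subgroup G), ⁅a, b⁆ ∈ T0 := by
    intro a ha b hb
    have h : (T0.subgroupOf (S : Subgroup G)).index = 2 := hi
    have h2 : ⁅(⟨a, ha⟩ : ↥(S : Subgroup G)), ⟨b, hb⟩⁆ ∈ T0.subgroupOf (S : Subgroup G) := by
      rw [commutatorElement_def, Subgroup.mul_mem_iff_of_index_two h, Subgroup.mul_mem_iff_of_index_two h,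
        Subgroup.mul_mem_iff_of_index_two h, inv_mem_iff, inv_mem_iff]
      tauto
    exact h2
  obtain ⟨g₀, hg1, hg2⟩ := exists_extremal hG S hTS hi W.hyy (T := (S : Subgroup G) ⊓ centralizer {y})
    (S.2.to_le inf_le_left) (fun t ht => mem_centralizer_singleton_iff.1 ht.2)
    ⟨hyS, mem_centralizer_singleton_iff.2 rfl⟩
  -- `φ d ∈ C_S(y)`
  have hphiS : ∀ d ∈ Q, d * (y * d * y) ∈ (S : Subgroup G) ⊓ centralizer {y} := fun d hd =>
    ⟨mul_mem (hTS (W.hQT hd)) (mul_mem (mul_mem hyS (hTS (W.hQT hd))) hyS),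
      mem_centralizer_singleton_iff.2 (W.phi_comm hd)⟩
  -- the key for one `g`
  have key : ∀ g : G, (∀ t ∈ (S : Subgroup G) ⊓ centralizer {y}, g⁻¹ * t * g ∈ (S : Subgroup G)) →
      ∀ z ∈ Z, g⁻¹ * (z * (y * z * y)) * g ∈ T0 := by
    intro g hg
    let K : Subgroup G :=
      { carrier := {d | d ∈ Q ∧ g⁻¹ * (d * (y * d * y)) * g ∈ T0}
        mul_mem' := by
          rintro a b ⟨ha, ha'⟩ ⟨hb, hb'⟩
          refine ⟨mul_mem ha hb, ?_⟩
          rw [W.phi_mul ha hb]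
          have h := mul_mem ha' hb'
          have e : g⁻¹ * (a * (y * a * y)) * g * (g⁻¹ * (b * (y * b * y)) * g) =
              g⁻¹ * (a * (y * a * y) * (b * (y * b * y))) * g := by group
          rwa [e] at h
        one_mem' := by
          refine ⟨one_mem _, ?_⟩
          rw [W.phi_one, mul_one, inv_mul_cancel]
          exact one_mem _
        inv_mem' := by
          rintro a ⟨ha, ha'⟩
          refine ⟨inv_mem ha, ?_⟩
          rw [W.phi_inv ha]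
          have h := inv_mem ha'
          have e : (g⁻¹ * (a * (y * a * y)) * g)⁻¹ = g⁻¹ * (a * (y * a * y))⁻¹ * g := by group
          rwa [e] at h }
    have hK : ⁅Q, Q⁆ ≤ K := by
      rw [Subgroup.commutator_le]
      intro a ha b hb
      refine ⟨mul_mem (mul_mem (mul_mem ha hb) (inv_mem ha)) (inv_mem hb), ?_⟩
      have h := hcom _ (hg _ (hphiS a ha)) _ (hg _ (hphiS b hb))
      have e : ⁅g⁻¹ * (a * (y * a * y)) * g, g⁻¹ * (b * (y * b * y)) * g⁆ =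
          g⁻¹ * (⁅a, b⁆ * (y * ⁅a, b⁆ * y)) * g := by
        rw [commutatorElement_def, commutatorElement_def, W.phi_mul (mul_mem (mul_mem ha hb) (inv_mem ha)) (inv_mem hb),
          W.phi_mul (mul_mem ha hb) (inv_mem ha), W.phi_mul ha hb, W.phi_inv ha, W.phi_inv hb]
        group
      rwa [e] at h
    intro z hz
    rw [← W.der] at hz
    exact (hK hz).2
  -- class `I` is dead
  have caseI : ∀ g : G, (∀ t ∈ (S : Subgroup G) ⊓ centralizer {y}, g⁻¹ * t * g ∈ (S : Subgroup G)) →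
      ∀ a0 ∈ Z, g⁻¹ * y * g = a0 → False := by
    intro g hg a0 ha0 hu
    -- every `z ≠ 1` has first component `a0`
    have h1 : ∀ z ∈ Z, z ≠ 1 → ∃ b ∈ Z, g⁻¹ * (z * (y * z * y)) * g = a0 * (y * b * y) := by
      intro z hz hz1
      have hv := key g hg z hz
      have hsq : g⁻¹ * (z * (y * z * y)) * g * (g⁻¹ * (z * (y * z * y)) * g) = 1 := by
        have e : g⁻¹ * (z * (y * z * y)) * g * (g⁻¹ * (z * (y * z * y)) * g) =
            g⁻¹ * (z * (y * z * y) * (z * (y * z * y))) * g := by group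
        rw [e, ← W.phi_mul (W.ZQ hz) (W.ZQ hz), W.sq hz, W.phi_one, mul_one, inv_mul_cancel]
      obtain ⟨a, ha, b, hb, hab⟩ := W.mem_inv hv hsq
      refine ⟨b, hb, ?_⟩
      have hb1 : b ≠ 1 := by
        rintro rfl
        refine W.diag z hz z hz hz1 hz1 g⁻¹ ?_
        rw [inv_inv, hab, mul_one, W.hyy, mul_one]
        exact W.ZQ ha
      by_cases h2 : a0 * a = 1
      · have h3 : a = a0 := by
          rw [← inv_eq_of_mul_eq_one_right h2]
          exact inv_eq_of_mul_eq_one_left (W.sq ha0)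
        rw [hab, h3]
      · exfalso
        refine W.diag (a0 * a) (mul_mem ha0 ha) b hb h2 hb1 (g⁻¹ * z * g)⁻¹ ?_
        have h3 : a0 * a * (y * b * y) = g⁻¹ * (z * y * z⁻¹) * g := by
          rw [mul_assoc, ← hab, ← hu, ← W.y_phi hz]
          group
        have h4 : (g⁻¹ * z * g)⁻¹ * (a0 * a * (y * b * y)) * (g⁻¹ * z * g)⁻¹⁻¹ = a0 := by
          rw [h3, ← hu]
          group
        rw [h4]
        exact W.ZQ ha0
    -- two of them
    obtain ⟨z1, hz1, z2, hz2, n1, n2, n3⟩ : ∃ z1 ∈ Z, ∃ z2 ∈ Z, z1 ≠ 1 ∧ z2 ≠ 1 ∧ z1 ≠ z2 := by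
      have h2 : 1 < Nat.card Z := by have := W.four; omega
      rw [Subgroup.one_lt_card_iff_ne_bot] at h2
      obtain ⟨⟨z1, hz1⟩, n1'⟩ := (Subgroup.ne_bot_iff_exists_ne_one).1 h2
      have n1 : z1 ≠ 1 := fun h => n1' (Subtype.ext h)
      by_contra hcon
      push Not at hcon
      have h3 : ∀ z ∈ Z, z = 1 ∨ z = z1 := by
        intro z hz
        by_contra h4
        push Not at h4
        exact h4.2 (hcon _ hz1 z hz n1 h4.1).symm
      have h4 : Nat.card Z ≤ 2 := by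
        have h5 : (Z : Set G) ⊆ {1, (z1 : G)} := fun z hz => by
          rcases h3 z hz with h | h <;> simp [h]
        calc Nat.card Z = (Z : Set G).ncard := rfl
          _ ≤ ({1, (z1 : G)} : Set G).ncard := Set.ncard_le_ncard h5 (Set.toFinite _)
          _ ≤ 2 := Set.ncard_insert_le _ _ |>.trans (by simp)
      have := W.four
      omega
    obtain ⟨b1, hb1, e1⟩ := h1 z1 hz1 n1
    obtain ⟨b2, hb2, e2⟩ := h1 z2 hz2 n2
    have n4 : z1 * z2 ≠ 1 := by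
      intro h
      apply n3
      have h5 := eq_inv_of_mul_eq_one_left h
      rw [h5]
      exact inv_eq_of_mul_eq_one_left (W.sq hz2)
    refine W.diag _ (mul_mem hz1 hz2) _ (mul_mem hz1 hz2) n4 n4 (y * g⁻¹) ?_
    have e3 : g⁻¹ * (z1 * z2 * (y * (z1 * z2) * y)) * g = y * (b1 * b2) * y := by
      rw [W.phi_mul (W.ZQ hz1) (W.ZQ hz2)]
      calc g⁻¹ * (z1 * (y * z1 * y) * (z2 * (y * z2 * y))) * g
          = (g⁻¹ * (z1 * (y * z1 * y)) * g) * (g⁻¹ * (z2 * (y * z2 * y)) * g) := by group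
        _ = a0 * (y * b1 * y) * (a0 * (y * b2 * y)) := by rw [e1, e2]
        _ = a0 * (y * b1 * y * a0) * (y * b2 * y) := by group
        _ = a0 * (a0 * (y * b1 * y)) * (y * b2 * y) := by rw [W.comm a0 (W.ZQ ha0) b1 (W.ZQ hb1)]
        _ = a0 * a0 * (y * b1 * (y * y) * b2 * y) := by group
        _ = y * (b1 * b2) * y := by rw [W.sq ha0, W.hyy]; group
    have e4 : y * g⁻¹ * (z1 * z2 * (y * (z1 * z2) * y)) * (y * g⁻¹)⁻¹ = b1 * b2 := by
      calc y * g⁻¹ * (z1 * z2 * (y * (z1 * z2) * y)) * (y * g⁻¹)⁻¹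
          = y * (g⁻¹ * (z1 * z2 * (y * (z1 * z2) * y)) * g) * y⁻¹ := by group
        _ = y * (y * (b1 * b2) * y) * y := by rw [e3, hyi]
        _ = (y * y) * (b1 * b2) * (y * y) := by group
        _ = b1 * b2 := by rw [W.hyy]; group
    rw [e4]
    exact W.ZQ (mul_mem hb1 hb2)
  -- `u = g⁻¹ y g`
  have hu2 : g₀⁻¹ * y * g₀ * (g₀⁻¹ * y * g₀) = 1 := by
    have e : g₀⁻¹ * y * g₀ * (g₀⁻¹ * y * g₀) = g₀⁻¹ * (y * y) * g₀ := by group
    rw [e, W.hyy]
    group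
  obtain ⟨a0, ha0, b0, hb0, hu⟩ := W.mem_inv hg2 hu2
  by_cases hb01 : b0 = 1
  · refine caseI g₀ hg1 a0 ha0 ?_
    rw [hu, hb01, mul_one, W.hyy, mul_one]
  by_cases ha01 : a0 = 1
  · refine caseI (g₀ * y) ?_ b0 hb0 ?_
    · intro t ht
      have h := mul_mem (mul_mem hyS (hg1 t ht)) hyS
      have e : (g₀ * y)⁻¹ * t * (g₀ * y) = y * (g₀⁻¹ * t * g₀) * y := by
        calc (g₀ * y)⁻¹ * t * (g₀ * y) = y⁻¹ * (g₀⁻¹ * t * g₀) * y := by group
          _ = _ := by rw [hyi]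
      rw [e]
      exact h
    · calc (g₀ * y)⁻¹ * y * (g₀ * y) = y⁻¹ * (g₀⁻¹ * y * g₀) * y := by group
        _ = y * (a0 * (y * b0 * y)) * y := by rw [hyi, hu]
        _ = (y * y) * b0 * (y * y) := by rw [ha01]; group
        _ = b0 := by rw [W.hyy]; group
  -- class `D`
  have h1 : ∀ z : Z, ∃ a ∈ Z, ∃ b ∈ Z, g₀⁻¹ * ((z : G) * (y * z * y)) * g₀ = a * (y * b * y) := by
    intro z
    refine W.mem_inv (key g₀ hg1 z z.2) ?_
    have e : g₀⁻¹ * ((z : G) * (y * z * y)) * g₀ * (g₀⁻¹ * (z * (y * z * y)) * g₀) =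
        g₀⁻¹ * (z * (y * z * y) * (z * (y * z * y))) * g₀ := by group
    rw [e, ← W.phi_mul (W.ZQ z.2) (W.ZQ z.2), W.sq z.2, W.phi_one, mul_one, inv_mul_cancel]
  choose A hA B hB hAB using h1
  have hinj : Function.Injective (fun z : Z => (⟨A z, hA z⟩ : Z)) := by
    intro z z' h
    have h2 : A z = A z' := congrArg Subtype.val h
    by_contra hne
    have h3 : (z : G) * (z' : G)⁻¹ ≠ 1 := fun h4 => hne (Subtype.ext (mul_inv_eq_one.1 h4))
    have h4 : (z : G) * (z' : G)⁻¹ ∈ Z := mul_mem z.2 (inv_mem z'.2)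
    refine W.diag _ h4 _ h4 h3 h3 (y * (A z)⁻¹ * g₀⁻¹) ?_
    have e1 : g₀⁻¹ * ((z : G) * (z' : G)⁻¹ * (y * ((z : G) * (z' : G)⁻¹) * y)) * g₀ =
        A z * (y * (B z * (B z')⁻¹) * y) * (A z)⁻¹ := by
      rw [W.phi_mul (W.ZQ z.2) (inv_mem (W.ZQ z'.2)), W.phi_inv (W.ZQ z'.2)]
      calc g₀⁻¹ * ((z : G) * (y * z * y) * ((z' : G) * (y * z' * y))⁻¹) * g₀
          = (g₀⁻¹ * ((z : G) * (y * z * y)) * g₀) * (g₀⁻¹ * ((z' : G) * (y * z' * y)) * g₀)⁻¹ := by group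
        _ = A z * (y * B z * y) * (A z' * (y * B z' * y))⁻¹ := by rw [hAB z, hAB z']
        _ = A z * (y * B z * (y * y⁻¹) * (B z')⁻¹ * y⁻¹) * (A z')⁻¹ := by group
        _ = A z * (y * (B z * (B z')⁻¹) * y) * (A z)⁻¹ := by rw [← h2, hyi, W.hyy]; group
    have e2 : y * (A z)⁻¹ * g₀⁻¹ * ((z : G) * (z' : G)⁻¹ * (y * ((z : G) * (z' : G)⁻¹) * y)) *
        (y * (A z)⁻¹ * g₀⁻¹)⁻¹ = B z * (B z')⁻¹ := by
      calc y * (A z)⁻¹ * g₀⁻¹ * ((z : G) * (z' : G)⁻¹ * (y * ((z : G) * (z' : G)⁻¹) * y)) *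
            (y * (A z)⁻¹ * g₀⁻¹)⁻¹
          = y * (A z)⁻¹ * (g₀⁻¹ * ((z : G) * (z' : G)⁻¹ * (y * ((z : G) * (z' : G)⁻¹) * y)) * g₀) *
            A z * y⁻¹ := by group
        _ = (y * y) * (B z * (B z')⁻¹) * (y * y) := by rw [e1, hyi]; group
        _ = B z * (B z')⁻¹ := by rw [W.hyy]; group
    rw [e2]
    exact W.ZQ (mul_mem (hB z) (inv_mem (hB z')))
  obtain ⟨z, hz⟩ := (Finite.injective_iff_surjective.1 hinj) ⟨a0, ha0⟩
  have hz' : A z = a0 := congrArg Subtype.val hz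
  -- `u f(z)` is conjugate to `u` and lies in `Q ^ y`
  refine W.diag a0 ha0 b0 hb0 ha01 hb01 (y * (g₀⁻¹ * z * g₀)) ?_
  have e1 : g₀⁻¹ * z * g₀ * (a0 * (y * b0 * y)) * (g₀⁻¹ * z * g₀)⁻¹ = y * (b0 * B z) * y := by
    rw [← hu]
    calc g₀⁻¹ * z * g₀ * (g₀⁻¹ * y * g₀) * (g₀⁻¹ * z * g₀)⁻¹ = g₀⁻¹ * (z * y * (z : G)⁻¹) * g₀ := by group
      _ = g₀⁻¹ * y * g₀ * (g₀⁻¹ * (z * (y * z * y)) * g₀) := by rw [← W.y_phi z.2]; group
      _ = a0 * (y * b0 * y) * (a0 * (y * B z * y)) := by rw [hu, hAB z, hz']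
      _ = a0 * (y * b0 * y * a0) * (y * B z * y) := by group
      _ = a0 * (a0 * (y * b0 * y)) * (y * B z * y) := by rw [W.comm a0 (W.ZQ ha0) b0 (W.ZQ hb0)]
      _ = a0 * a0 * (y * b0 * (y * y) * B z * y) := by group
      _ = y * (b0 * B z) * y := by rw [W.sq ha0, W.hyy]; group
  have e2 : y * (g₀⁻¹ * z * g₀) * (a0 * (y * b0 * y)) * (y * (g₀⁻¹ * z * g₀))⁻¹ = b0 * B z := by
    calc y * (g₀⁻¹ * z * g₀) * (a0 * (y * b0 * y)) * (y * (g₀⁻¹ * z * g₀))⁻¹
        = y * (g₀⁻¹ * z * g₀ * (a0 * (y * b0 * y)) * (g₀⁻¹ * z * g₀)⁻¹) * y⁻¹ := by group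
      _ = (y * y) * (b0 * B z) * (y * y) := by rw [e1, hyi]; group
      _ = b0 * B z := by rw [W.hyy]; group
  rw [e2]
  exact W.ZQ (mul_mem hb0 (hB z))

end Cfsg.Agent.OddHalf.D4.Sz.Wreath
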