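import Cfsg.Agent.OddHalf.D4.Sz.PairA
import Cfsg.Agent.OddHalf.D4.Sz.Wreath

/-!
# ODD, D4, `K = Sz(q)`, `q ≥ 32`: case (a) of the pair

`T = Q × {p a b}` Sylow in `N(K)` and `{p a b}` is a conjugate of `Q`: contradiction.
-/

set_option autoImplicit false
set_option linter.unusedSectionVars false

namespace Cfsg.Agent.OddHalf.D4.Sz.PairDefs

open Subgroup Cfsg.Agent.OddHalf.D4 Cfsg.Agent.OddHalf.D4.Basic
open Cfsg.Agent.OddHalf.D4.CommConj (Tight cj mem_cj cj_mul card_cj cj_eq_of_mem_normalizer mem_normalizer_of_cj_eq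
  mem_cj_mul)

variable {G : Type*} [Group G] [Finite G] {F : Type*} [Field F] [Fintype F] [CharP F 2] {m : ℕ} {K : Subgroup G}

/-- case (a): `cj x Q = {p a b}`, `x ∉ N(K)`, `T ≤ N(K ^ x)` -/
structure CaseA (D : KFr F m K) (Q T : Subgroup G) (x : G) : Prop where
  base : Base D Q T
  tight : TightAt K
  nmem : x ∉ normalizer (K : Set G)
  le : T ≤ normalizer ((cj x K : Subgroup G) : Set G)
  eq : cj x Q = D.SK

namespace CaseA

variable {D : KFr F m K} {Q T : Subgroup G} {x : G} (A : CaseA D Q T x)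

include A

theorem mem_Q {r : G} : r ∈ Q ↔ ∃ a b, r = x⁻¹ * D.p a b * x := by
  have h1 : r ∈ Q ↔ x * r * x⁻¹ ∈ D.SK := by
    rw [← A.eq, mem_cj]
    have e : x⁻¹ * (x * r * x⁻¹) * x = r := by group
    rw [e]
  rw [h1, D.mem_SK]
  constructor
  · rintro ⟨a, b, h⟩
    exact ⟨a, b, by rw [← h]; group⟩
  · rintro ⟨a, b, rfl⟩
    exact ⟨a, b, by group⟩

/-- coordinates of `Q` -/
theorem q_mem (a b : F) : x⁻¹ * D.p a b * x ∈ Q := A.mem_Q.mpr ⟨a, b, rfl⟩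

theorem q_comm (a b c d : F) :
    x⁻¹ * D.p a b * x * D.p c d = D.p c d * (x⁻¹ * D.p a b * x) := A.base.comm (A.q_mem a b) c d

theorem q_sq_iff {r : G} (hr : r ∈ Q) : r * r = 1 ↔ ∃ b, r = x⁻¹ * D.p 0 b * x := by
  obtain ⟨a, b, rfl⟩ := A.mem_Q.mp hr
  constructor
  · intro h
    have h1 : D.p a b * D.p a b = 1 := by
      have e : D.p a b * D.p a b = x * (x⁻¹ * D.p a b * x * (x⁻¹ * D.p a b * x)) * x⁻¹ := by group
      rw [e, h]; group
    rw [D.eq_zero_of_sq h1]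
    exact ⟨b, rfl⟩
  · rintro ⟨c, hc⟩
    rw [hc]
    have e : x⁻¹ * D.p 0 c * x * (x⁻¹ * D.p 0 c * x) = x⁻¹ * (D.p 0 c * D.p 0 c) * x := by group
    rw [e, D.z_self]; group

/-- `pQ 0 a * p 0 b` is central in `T` -/
theorem cent (a b : F) {t : G} (ht : t ∈ T) :
    x⁻¹ * D.p 0 a * x * D.p 0 b * t = t * (x⁻¹ * D.p 0 a * x * D.p 0 b) := by
  obtain ⟨r, hr, c, d, rfl⟩ := (A.base.mem t).mp ht
  obtain ⟨e, f, rfl⟩ := A.mem_Q.mp hr
  have h1 := A.q_comm e f 0 b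
  have h2 := A.q_comm 0 a c d
  have h3 : x⁻¹ * D.p 0 a * x * (x⁻¹ * D.p e f * x) = x⁻¹ * D.p e f * x * (x⁻¹ * D.p 0 a * x) := by
    have e1 : x⁻¹ * D.p 0 a * x * (x⁻¹ * D.p e f * x) = x⁻¹ * (D.p 0 a * D.p e f) * x := by group
    rw [e1, D.z_comm]; group
  set P := x⁻¹ * D.p 0 a * x
  set R := x⁻¹ * D.p e f * x
  calc P * D.p 0 b * (R * D.p c d) = P * (D.p 0 b * R) * D.p c d := by group
    _ = P * (R * D.p 0 b) * D.p c d := by rw [h1]
    _ = (P * R) * (D.p 0 b * D.p c d) := by group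
    _ = (R * P) * (D.p c d * D.p 0 b) := by rw [h3, D.z_comm]
    _ = R * (P * D.p c d) * D.p 0 b := by group
    _ = R * (D.p c d * P) * D.p 0 b := by rw [h2]
    _ = R * D.p c d * (P * D.p 0 b) := by group

theorem inv_mem' {t : G} (ht : t ∈ T) (h : t * t = 1) : ∃ a b, t = x⁻¹ * D.p 0 a * x * D.p 0 b := by
  obtain ⟨q, hq, hqq, b, rfl⟩ := A.base.of_sq ht h
  obtain ⟨a, rfl⟩ := (A.q_sq_iff hq).mp hqq
  exact ⟨a, b, rfl⟩

theorem phi_mem (a b : F) : x⁻¹ * D.p 0 a * x * D.p 0 b ∈ T :=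
  T.mul_mem (A.base.Q_le (A.q_mem 0 a)) (A.base.p_mem 0 b)

omit A in
theorem phi_mul' (A : CaseA D Q T x) (a b c d : F) : x⁻¹ * D.p 0 a * x * D.p 0 b * (x⁻¹ * D.p 0 c * x * D.p 0 d) =
    x⁻¹ * D.p 0 (a + c) * x * D.p 0 (b + d) := by
  have h1 := A.q_comm 0 c 0 b
  calc x⁻¹ * D.p 0 a * x * D.p 0 b * (x⁻¹ * D.p 0 c * x * D.p 0 d)
      = x⁻¹ * D.p 0 a * x * (D.p 0 b * (x⁻¹ * D.p 0 c * x)) * D.p 0 d := by group
    _ = x⁻¹ * D.p 0 a * x * (x⁻¹ * D.p 0 c * x * D.p 0 b) * D.p 0 d := by rw [h1]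
    _ = x⁻¹ * (D.p 0 a * D.p 0 c) * x * (D.p 0 b * D.p 0 d) := by group
    _ = _ := by rw [D.z_mul, D.z_mul]

theorem phi_sq (a b : F) : x⁻¹ * D.p 0 a * x * D.p 0 b * (x⁻¹ * D.p 0 a * x * D.p 0 b) = 1 := by
  rw [phi_mul' A, CharTwo.add_self_eq_zero, CharTwo.add_self_eq_zero, D.p_zero]; group

theorem phi_inj {a b c d : F} (h : x⁻¹ * D.p 0 a * x * D.p 0 b = x⁻¹ * D.p 0 c * x * D.p 0 d) :
    a = c ∧ b = d := by
  obtain ⟨h1, -, h2⟩ := A.base.uniq (A.q_mem 0 a) (A.q_mem 0 c) h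
  exact ⟨D.z_inj (mul_left_cancel (mul_right_cancel h1)), h2⟩

/-- `Q ∩ {p a b} = 1` -/
theorem disj {r : G} (hr : r ∈ Q) (h : r ∈ D.SK) : r = 1 :=
  D.cen r (D.SK_le h) (A.base.sylQ.le hr)

/-- commutators of `T` -/
theorem comm_T {s t : G} (hs : s ∈ T) (ht : t ∈ T) :
    ∃ a b, s * t * s⁻¹ * t⁻¹ = x⁻¹ * D.p 0 a * x * D.p 0 b := by
  obtain ⟨q, hq, a, b, rfl⟩ := (A.base.mem s).mp hs
  obtain ⟨r, hr, c, d, rfl⟩ := (A.base.mem t).mp ht
  obtain ⟨e, f, rfl⟩ := A.mem_Q.mp hq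
  obtain ⟨g, i, rfl⟩ := A.mem_Q.mp hr
  have h1 := A.q_comm g i a b
  have h2 := A.q_comm e f c d
  have h3 := D.p_comm a b c d
  have h4 := D.p_comm e f g i
  refine ⟨e ^ 2 ^ (m + 1) * g + g ^ 2 ^ (m + 1) * e, a ^ 2 ^ (m + 1) * c + c ^ 2 ^ (m + 1) * a, ?_⟩
  rw [← h3, ← h4]
  have h5 : x⁻¹ * (D.p e f * D.p g i * (D.p e f)⁻¹ * (D.p g i)⁻¹) * x =
      (x⁻¹ * D.p e f * x) * (x⁻¹ * D.p g i * x) * (x⁻¹ * D.p e f * x)⁻¹ * (x⁻¹ * D.p g i * x)⁻¹ := by group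
  rw [h5]
  set P := x⁻¹ * D.p e f * x
  set R := x⁻¹ * D.p g i * x
  have e1 : P * D.p a b * (R * D.p c d) = P * R * (D.p a b * D.p c d) := by
    calc P * D.p a b * (R * D.p c d) = P * (D.p a b * R) * D.p c d := by group
      _ = P * (R * D.p a b) * D.p c d := by rw [h1]
      _ = _ := by group
  have e2 : R * D.p c d * (P * D.p a b) = R * P * (D.p c d * D.p a b) := by
    calc R * D.p c d * (P * D.p a b) = R * (D.p c d * P) * D.p a b := by group
      _ = R * (P * D.p c d) * D.p a b := by rw [h2]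
      _ = _ := by group
  have h6 : ∀ u v : F, P⁻¹ * D.p u v = D.p u v * P⁻¹ := by
    intro u v
    have h7 := A.q_comm e f u v
    rw [inv_mul_eq_iff_eq_mul, ← mul_assoc, h7, mul_inv_cancel_right]
  have h8 : ∀ u v : F, R⁻¹ * D.p u v = D.p u v * R⁻¹ := by
    intro u v
    have h7 := A.q_comm g i u v
    rw [inv_mul_eq_iff_eq_mul, ← mul_assoc, h7, mul_inv_cancel_right]
  have e3 : P * D.p a b * (R * D.p c d) * (P * D.p a b)⁻¹ * (R * D.p c d)⁻¹ =
      P * D.p a b * (R * D.p c d) * (R * D.p c d * (P * D.p a b))⁻¹ := by group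
  rw [e3, e1, e2]
  have h9 := D.p_comm a b c d
  calc P * R * (D.p a b * D.p c d) * (R * P * (D.p c d * D.p a b))⁻¹
      = P * R * ((D.p a b * D.p c d * (D.p a b)⁻¹ * (D.p c d)⁻¹) * (P⁻¹ * R⁻¹)) := by group
    _ = P * R * (P⁻¹ * R⁻¹ * (D.p a b * D.p c d * (D.p a b)⁻¹ * (D.p c d)⁻¹)) := by
        rw [h9]
        congr 1
        rw [mul_assoc P⁻¹, h8, ← mul_assoc P⁻¹, h6, mul_assoc]
    _ = _ := by group

/-- members: `T ∩ C(K ^ g)` is `Q` or `{p a b}` -/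
theorem members {g : G} (hg : g ∉ normalizer (K : Set G)) (hT : T ≤ normalizer ((cj g K : Subgroup G) : Set G))
    (y : G) : y ∈ T ⊓ centralizer ((cj g K : Subgroup G) : Set G) ↔ y ∈ D.SK := by
  rcases A.base.dichotomy A.tight hg hT with h | ⟨h, -⟩
  · exact h y
  · exfalso
    have h1 := h _ (A.q_mem 1 0)
    obtain ⟨b, hb⟩ := (A.q_sq_iff (A.q_mem 1 0)).mp h1
    have h2 : D.p 1 0 = D.p 0 b := mul_left_cancel (mul_right_cancel hb)
    exact one_ne_zero (D.p_inj _ _ _ _ h2).1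

variable {S : Subgroup G} (hS : IsPGroup 2 ↥S) (hTS : T ≤ S)

include hS hTS

/-- `S ∩ N(K) ≤ T` -/
theorem mem_T {s : G} (hs : s ∈ S) (hsK : s ∈ normalizer (K : Set G)) : s ∈ T :=
  A.base.sylT.max (S ⊓ normalizer (K : Set G)) (hS.to_le inf_le_left) (le_inf hTS A.base.sylT.le) inf_le_right
    ⟨hs, hsK⟩

/-- elements of `N_S(T) - T` swap `Q` and `{p a b}` -/
theorem swap {y : G} (hy : y ∈ S) (hyT : y ∉ T) (hyN : y ∈ normalizer (T : Set G)) {r : G} :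
    r ∈ Q ↔ y * r * y⁻¹ ∈ D.SK := by
  have h1 : y ∉ normalizer (K : Set G) := fun h => hyT (A.mem_T hS hTS hy h)
  have h2 : T ≤ normalizer ((cj y K : Subgroup G) : Set G) := by
    rw [normalizer_cj]
    intro t ht
    rw [mem_cj]
    exact A.base.sylT.le ((mem_normalizer_iff''.mp hyN t).mp ht)
  rw [← A.members h1 h2, A.base.eq_inf, mem_inf, mem_inf, centralizer_cj, mem_cj]
  have e : y⁻¹ * (y * r * y⁻¹) * y = r := by group
  rw [e, ← mem_normalizer_iff.mp hyN r]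

theorem inv_swap {y : G} (hy : y ∈ S) (hyT : y ∉ T) (hyN : y ∈ normalizer (T : Set G)) {r : G} :
    r ∈ D.SK ↔ y * r * y⁻¹ ∈ Q := by
  have h1 := A.swap hS hTS (inv_mem hy) (fun h => hyT (by simpa using inv_mem h)) (inv_mem hyN) (r := y * r * y⁻¹)
  rw [h1]
  have e : y⁻¹ * (y * r * y⁻¹) * y⁻¹⁻¹ = r := by group
  rw [e]

/-- `|N_S(T) : T| ≤ 2` -/
theorem mul_mem_T {y z : G} (hy : y ∈ S) (hyT : y ∉ T) (hyN : y ∈ normalizer (T : Set G)) (hz : z ∈ S)
    (hzT : z ∉ T) (hzN : z ∈ normalizer (T : Set G)) : y * z ∈ T := by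
  have hne : x⁻¹ * D.p 0 1 * x ≠ 1 := by
    intro h
    have h1 : D.p 0 1 = D.p 0 0 := by
      rw [D.p_zero]
      have e : D.p 0 1 = x * (x⁻¹ * D.p 0 1 * x) * x⁻¹ := by group
      rw [e, h]; group
    exact one_ne_zero (D.z_inj h1)
  have h1 : (y * z) * (x⁻¹ * D.p 0 1 * x) * (y * z)⁻¹ ∈ Q := by
    have h2 := (A.swap hS hTS hz hzT hzN).mp (A.q_mem 0 1)
    have h3 := (A.inv_swap hS hTS hy hyT hyN).mp h2
    have e : y * (z * (x⁻¹ * D.p 0 1 * x) * z⁻¹) * y⁻¹ = (y * z) * (x⁻¹ * D.p 0 1 * x) * (y * z)⁻¹ := by group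
    rwa [e] at h3
  apply A.mem_T hS hTS (mul_mem hy hz)
  refine A.tight.tight (y * z) _ (A.base.sylQ.le (A.q_mem 0 1)) ?_ (A.base.sylQ.le h1)
  apply orderOf_eq_prime
  · rw [pow_two]; exact (A.q_sq_iff (A.q_mem 0 1)).mpr ⟨1, rfl⟩
  · exact hne

/-- an involution swapping `Q` and `{p a b}` -/
theorem exists_invol {y : G} (hy : y ∈ S) (hyT : y ∉ T) (hyN : y ∈ normalizer (T : Set G)) :
    ∃ z ∈ S, z ∉ T ∧ z ∈ normalizer (T : Set G) ∧ z * z = 1 := by
  have h1 := A.mul_mem_T hS hTS hy hyT hyN hy hyT hyN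
  obtain ⟨q, hq, a, b, hqp⟩ := (A.base.mem _).mp h1
  have h2 := (A.swap hS hTS hy hyT hyN).mp hq
  have h3 := (A.inv_swap hS hTS hy hyT hyN).mp (D.p_mem_SK a b)
  obtain ⟨c, d, hcd⟩ := h2
  have h4 : (y * D.p a b * y⁻¹) * D.p c d = q * D.p a b := by
    rw [A.base.comm h3, ← hcd]
    calc y * q * y⁻¹ * (y * D.p a b * y⁻¹) = y * (q * D.p a b) * y⁻¹ := by group
      _ = y * (y * y) * y⁻¹ := by rw [hqp]
      _ = y * y := by group
      _ = q * D.p a b := hqp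
  obtain ⟨h5, h6, h7⟩ := A.base.uniq h3 hq h4
  refine ⟨q⁻¹ * y, S.mul_mem (S.inv_mem (hTS (A.base.Q_le hq))) hy, ?_, ?_, ?_⟩
  · intro h8
    apply hyT
    have h9 := T.mul_mem (A.base.Q_le hq) h8
    rwa [mul_inv_cancel_left] at h9
  · exact mul_mem (le_normalizer (inv_mem (A.base.Q_le hq))) hyN
  · have h10 : y * q⁻¹ * y⁻¹ = (D.p a b)⁻¹ := by
      have e : y * q⁻¹ * y⁻¹ = (y * q * y⁻¹)⁻¹ := by group
      rw [e, hcd, h6, h7]
    calc q⁻¹ * y * (q⁻¹ * y) = q⁻¹ * (y * q⁻¹ * y⁻¹) * (y * y) := by group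
      _ = q⁻¹ * (D.p a b)⁻¹ * (q * D.p a b) := by rw [h10, hqp]
      _ = q⁻¹ * (D.p a b)⁻¹ * (D.p a b * q) := by rw [A.base.comm hq]
      _ = 1 := by group

/-- `N_S(T) = S` -/
theorem le_norm : S ≤ normalizer (T : Set G) := by
  classical
  by_contra hcon
  -- `n ∈ S` normalizes `N_S(T)` but not `T`
  obtain ⟨n, hnS, hnT, hnN⟩ := exists_mem_normalizer (P := S ⊓ normalizer (T : Set G)) hS inf_le_left
    (fun h => hcon (h.trans inf_le_right))
  have hnT' : n ∉ normalizer (T : Set G) := fun h => hnT ⟨hnS, h⟩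
  have hconj : ∀ {t : G}, t ∈ T → n * t * n⁻¹ ∈ S ∧ n * t * n⁻¹ ∈ normalizer (T : Set G) := by
    intro t ht
    have h1 := (mem_normalizer_iff.mp hnN t).mp ⟨hTS ht, le_normalizer ht⟩
    exact ⟨h1.1, h1.2⟩
  -- the involutions of `T`
  have key : ∀ a b : F, n * (x⁻¹ * D.p 0 a * x * D.p 0 b) * n⁻¹ ∈ T := by
    by_contra hcon2
    push Not at hcon2
    obtain ⟨a0, b0, hab0⟩ := hcon2
    set y := n * (x⁻¹ * D.p 0 a0 * x * D.p 0 b0) * n⁻¹ with hy
    have hyS := hconj (A.phi_mem a0 b0)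
    rw [← hy] at hyS
    -- the map on the good pairs
    let H : Set (F × F) := {c | n * (x⁻¹ * D.p 0 c.1 * x * D.p 0 c.2) * n⁻¹ ∈ T}
    have hmul : ∀ c d : F × F, n * (x⁻¹ * D.p 0 c.1 * x * D.p 0 c.2) * n⁻¹ *
        (n * (x⁻¹ * D.p 0 d.1 * x * D.p 0 d.2) * n⁻¹) =
          n * (x⁻¹ * D.p 0 (c.1 + d.1) * x * D.p 0 (c.2 + d.2)) * n⁻¹ := by
      intro c d
      rw [← phi_mul' A]; group
    have hH : ∀ c : F × F, c ∉ H → c + (a0, b0) ∈ H := by
      intro c hc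
      have h1 := A.mul_mem_T hS hTS (hconj (A.phi_mem c.1 c.2)).1 hc (hconj (A.phi_mem c.1 c.2)).2 hyS.1 hab0 hyS.2
      have h2 := hmul c (a0, b0)
      show n * (x⁻¹ * D.p 0 (c + (a0, b0)).1 * x * D.p 0 (c + (a0, b0)).2) * n⁻¹ ∈ T
      rw [Prod.fst_add, Prod.snd_add, ← h2]
      exact h1
    have hform : ∀ c ∈ H, ∃ u v : F, n * (x⁻¹ * D.p 0 c.1 * x * D.p 0 c.2) * n⁻¹ =
        x⁻¹ * D.p 0 u * x * D.p 0 v ∧ y * (x⁻¹ * D.p 0 u * x) * y⁻¹ = D.p 0 v := by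
      intro c hc
      obtain ⟨u, v, huv⟩ := A.inv_mem' hc (by
        rw [hmul, CharTwo.add_self_eq_zero, CharTwo.add_self_eq_zero, D.p_zero]; group)
      refine ⟨u, v, huv, ?_⟩
      -- `y` centralizes it
      have h1 : y * (x⁻¹ * D.p 0 u * x * D.p 0 v) * y⁻¹ = x⁻¹ * D.p 0 u * x * D.p 0 v := by
        rw [← huv]
        have h2 := A.cent a0 b0 (A.phi_mem c.1 c.2)
        rw [hy]
        set P := x⁻¹ * D.p 0 a0 * x * D.p 0 b0
        set R := x⁻¹ * D.p 0 c.1 * x * D.p 0 c.2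
        calc n * P * n⁻¹ * (n * R * n⁻¹) * (n * P * n⁻¹)⁻¹ = n * (P * R) * P⁻¹ * n⁻¹ := by group
          _ = n * (R * P) * P⁻¹ * n⁻¹ := by rw [h2]
          _ = _ := by group
      have h2 : y * (x⁻¹ * D.p 0 u * x) * y⁻¹ ∈ D.SK := (A.swap hS hTS hyS.1 hab0 hyS.2).mp (A.q_mem 0 u)
      have h3 : y * D.p 0 v * y⁻¹ ∈ Q := (A.inv_swap hS hTS hyS.1 hab0 hyS.2).mp (D.p_mem_SK 0 v)
      obtain ⟨c', d', hcd⟩ := h2
      have h4 : y * D.p 0 v * y⁻¹ * D.p c' d' = x⁻¹ * D.p 0 u * x * D.p 0 v := by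
        rw [A.base.comm h3, ← hcd, ← h1]
        calc y * (x⁻¹ * D.p 0 u * x) * y⁻¹ * (y * D.p 0 v * y⁻¹)
            = y * (x⁻¹ * D.p 0 u * x * D.p 0 v) * y⁻¹ := by group
          _ = _ := rfl
      obtain ⟨-, h6, h7⟩ := A.base.uniq h3 (A.q_mem 0 u) h4
      rw [hcd, h6, h7]
    choose! α β hα hβ using hform
    have hinj : Set.InjOn α H := by
      intro c hc d hd hcd
      have h1 : β c = β d := by
        apply D.z_inj
        rw [← hβ c hc, ← hβ d hd, hcd]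
      have h2 : n * (x⁻¹ * D.p 0 c.1 * x * D.p 0 c.2) * n⁻¹ = n * (x⁻¹ * D.p 0 d.1 * x * D.p 0 d.2) * n⁻¹ := by
        rw [hα c hc, hα d hd, hcd, h1]
      obtain ⟨h3, h4⟩ := A.phi_inj (mul_left_cancel (mul_right_cancel h2))
      exact Prod.ext h3 h4
    let Φ : F × F → F × Bool := fun c => if c ∈ H then (α c, true) else (α (c + (a0, b0)), false)
    have hΦ : Function.Injective Φ := by
      intro c d hcd
      by_cases hc : c ∈ H <;> by_cases hd : d ∈ H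
      · simp only [Φ, hc, hd, if_true, Prod.mk.injEq, and_true] at hcd
        exact hinj hc hd hcd
      · simp [Φ, hc, hd] at hcd
      · simp [Φ, hc, hd] at hcd
      · simp only [Φ, hc, hd, if_false, Prod.mk.injEq, and_true] at hcd
        exact add_right_cancel (hinj (hH c hc) (hH d hd) hcd)
    have h1 := Fintype.card_le_of_injective Φ hΦ
    rw [Fintype.card_prod, Fintype.card_prod, Fintype.card_bool, D.hF] at h1
    have h2 : 2 ^ 5 ≤ 2 ^ (2 * m + 1) := Nat.pow_le_pow_right (by norm_num) (by have := D.hm; omega)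
    nlinarith
  -- all of `T`
  apply hnT'
  apply mem_normalizer_fintype
  intro t ht
  by_contra htn
  -- the images of the central involutions are all the central involutions
  let Ψ : F × F → {v : G // v ∈ T ∧ v * v = 1} := fun c =>
    ⟨n * (x⁻¹ * D.p 0 c.1 * x * D.p 0 c.2) * n⁻¹, key c.1 c.2, by
      have h1 := A.phi_sq c.1 c.2
      set P := x⁻¹ * D.p 0 c.1 * x * D.p 0 c.2
      calc n * P * n⁻¹ * (n * P * n⁻¹) = n * (P * P) * n⁻¹ := by group
        _ = 1 := by rw [h1]; group⟩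
  have hΨ : Function.Injective Ψ := by
    intro c d hcd
    obtain ⟨h1, h2⟩ := A.phi_inj (mul_left_cancel (mul_right_cancel (congrArg Subtype.val hcd)))
    exact Prod.ext h1 h2
  have hcard : Nat.card {v : G // v ∈ T ∧ v * v = 1} ≤ Nat.card (F × F) := by
    have h1 : ∀ v : {v : G // v ∈ T ∧ v * v = 1}, ∃ c : F × F, (v : G) = x⁻¹ * D.p 0 c.1 * x * D.p 0 c.2 := by
      rintro ⟨v, hv, hvv⟩
      obtain ⟨a, b, hab⟩ := A.inv_mem' hv hvv
      exact ⟨(a, b), hab⟩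
    choose g hg using h1
    apply Nat.card_le_card_of_injective g
    intro u v huv
    apply Subtype.ext
    rw [hg u, hg v, huv]
  have hbij := hΨ.bijective_of_nat_card_le hcard
  obtain ⟨c, hc⟩ := hbij.2 ⟨x⁻¹ * D.p 0 1 * x, A.base.Q_le (A.q_mem 0 1),
    (A.q_sq_iff (A.q_mem 0 1)).mpr ⟨1, rfl⟩⟩
  have hc' : n * (x⁻¹ * D.p 0 c.1 * x * D.p 0 c.2) * n⁻¹ = x⁻¹ * D.p 0 1 * x := congrArg Subtype.val hc
  have h1 := (A.swap hS hTS (hconj ht).1 htn (hconj ht).2).mp (A.q_mem 0 1)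
  rw [← hc'] at h1
  have h2 := A.cent c.1 c.2 ht
  have h3 : n * t * n⁻¹ * (n * (x⁻¹ * D.p 0 c.1 * x * D.p 0 c.2) * n⁻¹) * (n * t * n⁻¹)⁻¹ =
      n * (x⁻¹ * D.p 0 c.1 * x * D.p 0 c.2) * n⁻¹ := by
    set P := x⁻¹ * D.p 0 c.1 * x * D.p 0 c.2
    calc n * t * n⁻¹ * (n * P * n⁻¹) * (n * t * n⁻¹)⁻¹ = n * (t * P) * t⁻¹ * n⁻¹ := by group
      _ = n * (P * t) * t⁻¹ * n⁻¹ := by rw [h2]
      _ = _ := by group
  rw [h3, hc'] at h1
  have h4 := A.disj (A.q_mem 0 1) h1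
  have h5 : D.p 0 1 = D.p 0 0 := by
    rw [D.p_zero]
    have e : D.p 0 1 = x * (x⁻¹ * D.p 0 1 * x) * x⁻¹ := by group
    rw [e, h4]; group
  exact one_ne_zero (D.z_inj h5)

end CaseA

/-- **case (a) is impossible** -/
theorem CaseA.false {D : KFr F m K} {Q T : Subgroup G} {x : G} (A : CaseA D Q T x)
    (hG : ∀ H : Subgroup G, H.index ≠ 2)
    (hcl : ∀ S : Sylow 2 G, (∃ a ∈ (S : Subgroup G), ∃ b ∈ (S : Subgroup G), a * b ≠ b * a) →
      (∀ a ∈ (S : Subgroup G), ∀ b ∈ (S : Subgroup G), ∀ c ∈ (S : Subgroup G),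
        (a * b * a⁻¹ * b⁻¹) * c = c * (a * b * a⁻¹ * b⁻¹)) → False) : False := by
  classical
  obtain ⟨S, hTS⟩ := A.base.sylT.two.exists_le_sylow
  by_cases hST : (S : Subgroup G) ≤ T
  · -- `T` is a Sylow subgroup
    have hT : ∀ s ∈ (S : Subgroup G), s ∈ T := fun s hs => hST hs
    apply hcl S
    · obtain ⟨a, c, hac⟩ := D.exists_comm 1
      refine ⟨_, hTS (A.base.p_mem a 0), _, hTS (A.base.p_mem c 0), ?_⟩
      intro h
      rw [h] at hac
      have h1 : D.p 0 1 = D.p 0 0 := by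
        rw [← hac, D.p_zero]; group
      exact one_ne_zero (D.z_inj h1)
    · intro a ha b hb c hc
      obtain ⟨u, v, huv⟩ := A.comm_T (hT a ha) (hT b hb)
      rw [huv]
      exact A.cent u v (hT c hc)
  · obtain ⟨y0, hy0S, hy0T, hy0N⟩ := exists_mem_normalizer S.2 hTS hST
    obtain ⟨y, hyS, hyT, hyN, hyy⟩ := A.exists_invol S.2 hTS hy0S hy0T hy0N
    have hyi : y⁻¹ = y := inv_eq_of_mul_eq_one_left hyy
    have hSN := A.le_norm S.2 hTS
    have hrel : T.relIndex (S : Subgroup G) = 2 := by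
      rw [relIndex_eq_two_iff]
      refine ⟨y, hyS, fun b hb => ?_⟩
      by_cases hbT : b ∈ T
      · right
        refine ⟨hbT, fun h => hyT ?_⟩
        have := T.mul_mem (T.inv_mem hbT) h
        rwa [inv_mul_cancel_left] at this
      · left
        exact ⟨A.mul_mem_T S.2 hTS hb hbT (hSN hb) hyS hyT hyN, hbT⟩
    have hsw : ∀ r, r ∈ D.SK ↔ y * r * y ∈ Q := by
      intro r
      have h1 := A.inv_swap S.2 hTS hyS hyT hyN (r := r)
      rwa [hyi] at h1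
    have hsw' : ∀ r, r ∈ Q ↔ y * r * y ∈ D.SK := by
      intro r
      have h1 := A.swap S.2 hTS hyS hyT hyN (r := r)
      rwa [hyi] at h1
    have hyc : ∀ r : G, y * (y * r * y) * y = r := by
      intro r
      calc y * (y * r * y) * y = (y * y) * r * (y * y) := by group
        _ = r := by rw [hyy, one_mul, mul_one]
    -- the involutions of `Q`
    let Z : Subgroup G := ⁅Q, Q⁆
    have hZ : ∀ r, r ∈ Z ↔ ∃ b, r = x⁻¹ * D.p 0 b * x := by
      intro r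
      constructor
      · intro hr
        let Z' : Subgroup G :=
          { carrier := {r | ∃ b, r = x⁻¹ * D.p 0 b * x}
            one_mem' := ⟨0, by rw [D.p_zero]; group⟩
            mul_mem' := by
              rintro _ _ ⟨b, rfl⟩ ⟨c, rfl⟩
              refine ⟨b + c, ?_⟩
              rw [← D.z_mul]; group
            inv_mem' := by
              rintro _ ⟨b, rfl⟩
              refine ⟨b, ?_⟩
              have := D.z_inv b
              calc (x⁻¹ * D.p 0 b * x)⁻¹ = x⁻¹ * (D.p 0 b)⁻¹ * x := by group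
                _ = _ := by rw [this] }
        have h1 : ⁅Q, Q⁆ ≤ Z' := by
          rw [commutator_le]
          intro u hu v hv
          obtain ⟨a, b, rfl⟩ := A.mem_Q.mp hu
          obtain ⟨c, d, rfl⟩ := A.mem_Q.mp hv
          refine ⟨a ^ 2 ^ (m + 1) * c + c ^ 2 ^ (m + 1) * a, ?_⟩
          rw [← D.p_comm a b c d, commutatorElement_def]; group
        exact h1 hr
      · rintro ⟨b, rfl⟩
        obtain ⟨a, c, hac⟩ := D.exists_comm b
        rw [← hac]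
        have h1 := commutator_mem_commutator (A.q_mem a 0) (A.q_mem c 0)
        have h2 : (x⁻¹ * D.p a 0 * x) * (x⁻¹ * D.p c 0 * x) * (x⁻¹ * D.p a 0 * x)⁻¹ * (x⁻¹ * D.p c 0 * x)⁻¹ =
            x⁻¹ * (D.p a 0 * D.p c 0 * (D.p a 0)⁻¹ * (D.p c 0)⁻¹) * x := by
          group
        rw [commutatorElement_def, h2] at h1
        exact h1
    have hinv : ∀ a ∈ Q, a * a = 1 ↔ a ∈ Z := fun a ha => by rw [hZ]; exact A.q_sq_iff ha
    refine Cfsg.Agent.OddHalf.D4.Sz.Wreath.main hG S (T0 := T) (Q := Q) (Z := Z) (y := y) hTS hrel hyS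
      ⟨hyy, A.base.Q_le, ?_, ?_, ?_, rfl, hinv, ?_, ?_⟩
    · intro t ht
      obtain ⟨q, hq, a, b, rfl⟩ := (A.base.mem t).mp ht
      refine ⟨q, hq, y * D.p a b * y, (hsw _).mp (D.p_mem_SK a b), ?_⟩
      rw [hyc]
    · intro a ha b hb
      obtain ⟨c, d, hcd⟩ := (hsw' b).mp hb
      rw [hcd]
      exact A.base.comm ha c d
    · intro a ha h
      have h1 : a ∈ D.SK := (hsw a).mpr h
      exact A.disj ha h1
    · let g : F → ↥Z := fun b => ⟨x⁻¹ * D.p 0 b * x, (hZ _).mpr ⟨b, rfl⟩⟩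
      have hg : Function.Injective g := by
        intro b c h
        exact D.z_inj (mul_left_cancel (mul_right_cancel (congrArg Subtype.val h)))
      have h1 := Nat.card_le_card_of_injective g hg
      rw [Nat.card_eq_fintype_card, D.hF] at h1
      have h2 : 2 ^ 2 ≤ 2 ^ (2 * m + 1) := Nat.pow_le_pow_right (by norm_num) (by have := D.hm; omega)
      omega
    · intro a ha b hb ha1 hb1 g hg
      have haQ : a ∈ Q := by
        obtain ⟨c, rfl⟩ := (hZ a).mp ha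
        exact A.q_mem 0 c
      have hbQ : b ∈ Q := by
        obtain ⟨c, rfl⟩ := (hZ b).mp hb
        exact A.q_mem 0 c
      obtain ⟨u, hu⟩ := (hZ a).mp ha
      have hbS : y * b * y ∈ D.SK := (hsw' b).mp hbQ
      have hbb : y * b * y * (y * b * y) = 1 := by
        calc y * b * y * (y * b * y) = y * b * (y * y) * b * y := by group
          _ = y * (b * b) * y := by rw [hyy]; group
          _ = 1 := by rw [(hinv b hbQ).mpr hb, mul_one, hyy]
      obtain ⟨c, v, hcv⟩ := hbS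
      have hc0 : c = 0 := by rw [hcv] at hbb; exact D.eq_zero_of_sq hbb
      subst hc0
      have hd : a * (y * b * y) = x⁻¹ * D.p 0 u * x * D.p 0 v := by rw [hu, hcv]
      have hdT : a * (y * b * y) ∈ T := by rw [hd]; exact A.phi_mem u v
      have hdc : ∀ t ∈ T, a * (y * b * y) * t = t * (a * (y * b * y)) := fun t ht => by
        rw [hd]; exact A.cent u v ht
      have hd1 : a * (y * b * y) ≠ 1 := by
        intro h
        apply ha1
        apply A.disj haQ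
        have : a = (y * b * y)⁻¹ := eq_inv_of_mul_eq_one_left h
        rw [this, hcv]
        exact D.SK.inv_mem (D.p_mem_SK 0 v)
      -- `d ∈ C(K ^ g⁻¹)`
      have hdC : a * (y * b * y) ∈ centralizer ((cj g⁻¹ K : Subgroup G) : Set G) := by
        rw [centralizer_cj, mem_cj, inv_inv]
        exact A.base.sylQ.le hg
      have hd2 : orderOf (a * (y * b * y)) = 2 := by
        apply orderOf_eq_prime _ hd1
        rw [pow_two, hd]; exact A.phi_sq u v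
      have hTN : T ≤ normalizer ((cj g⁻¹ K : Subgroup G) : Set G) := by
        intro t ht
        exact (A.tight.cj g⁻¹).mem hdC hd2 (hdc t ht).symm
      by_cases hgK : g⁻¹ ∈ normalizer (K : Set G)
      · have h1 : a * (y * b * y) ∈ Q := by
          rw [A.base.mem_Q_iff hdT]
          rwa [cj_eq_of_mem_normalizer hgK] at hdC
        have h2 : y * b * y ∈ Q := by
          have := Q.mul_mem (Q.inv_mem haQ) h1
          rwa [inv_mul_cancel_left] at this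
        have h3 := A.disj hbQ ((hsw b).mpr h2)
        exact hb1 h3
      · have h1 := (A.members hgK hTN (a * (y * b * y))).mp ⟨hdT, hdC⟩
        have h2 : a ∈ D.SK := by
          have := D.SK.mul_mem h1 (D.SK.inv_mem ((hsw' b).mp hbQ))
          rwa [mul_inv_cancel_right] at this
        exact ha1 (A.disj haQ h2)

/-- **the pair is of type (b)** -/
theorem Base.graph {D : KFr F m K} {Q T : Subgroup G} (B : Base D Q T) (ht : TightAt K)
    (hG : ∀ H : Subgroup G, H.index ≠ 2)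
    (hcl : ∀ S : Sylow 2 G, (∃ a ∈ (S : Subgroup G), ∃ b ∈ (S : Subgroup G), a * b ≠ b * a) →
      (∀ a ∈ (S : Subgroup G), ∀ b ∈ (S : Subgroup G), ∀ c ∈ (S : Subgroup G),
        (a * b * a⁻¹ * b⁻¹) * c = c * (a * b * a⁻¹ * b⁻¹)) → False)
    {x : G} (hx : x ∉ normalizer (K : Set G)) (hT : T ≤ normalizer ((cj x K : Subgroup G) : Set G)) :
    (∀ r ∈ Q, r * r = 1) ∧ ∃ f : G → F, (∀ r ∈ Q, ∀ s ∈ Q, f (r * s) = f r + f s) ∧
      (∀ r ∈ Q, f r = 0 → r = 1) ∧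
      ∀ y, y ∈ T ⊓ centralizer ((cj x K : Subgroup G) : Set G) ↔ ∃ r ∈ Q, y = r * D.p 0 (f r) := by
  rcases B.dichotomy ht hx hT with h | h
  · exfalso
    obtain ⟨y, hyK, hyQ⟩ := B.exists_cjQ hT
    have hy : y ∉ normalizer (K : Set G) := by
      intro hy
      apply hx
      apply mem_normalizer_of_cj_eq
      rw [← hyK, cj_eq_of_mem_normalizer hy]
    refine CaseA.false (D := D) (Q := Q) (T := T) (x := y) ⟨B, ht, hy, by rw [hyK]; exact hT, ?_⟩ hG hcl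
    rw [hyQ]
    ext z
    exact (h z).trans D.mem_SK.symm
  · exact h

end Cfsg.Agent.OddHalf.D4.Sz.PairDefs
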