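import Mathlib
import Cfsg.Agent.OddHalf.D4.Sz.Front
import Cfsg.Agent.OddHalf.D4.Sz.Kill1170
import Cfsg.Agent.OddHalf.D4.Sz.PairKill
import Cfsg.Agent.OddHalf.D4.Sz.End
import Cfsg.Agent.OddHalf.Front.FE

/-!
# ODD, D4: the row `K = Sz(q)`, `q ≥ 32`

`sze`: the row of `D4/Cut.lean` from `Kill` (the contradiction for `Mv`), S1173, S1170 and the theorem on simple
groups of order prime to 3. `KillB`: only the pairs of type (b) (`Base.graph`) are left.
-/

set_option autoImplicit false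

namespace Cfsg.Agent.OddHalf.D4.Sz.Row

open Cfsg Subgroup Cfsg.Agent.OddHalf.D4 Cfsg.Agent.OddHalf.D4.Sz Cfsg.Agent.OddHalf.D4.Sz.PairDefs
open Cfsg.Agent.OddHalf.D4.CommConj (cj mem_cj cj_mul cj_eq_of_mem_normalizer mem_cj_mul)

universe u

/-- the contradiction for `Mv` -/
def Kill : Prop :=
  ∀ {G : Type u} [Group G] [Finite G] {F : Type} [Field F] [Fintype F] [CharP F 2] {m : ℕ} {K : Subgroup G}
    (D : KFr F m K) (Q T : Subgroup G) (g : G), Mv D Q T g → (∀ H : Subgroup G, H.index ≠ 2) → NoClassTwo G → False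

/-- the contradiction for `Mv` in the case of a graph -/
def KillB : Prop :=
  ∀ {G : Type u} [Group G] [Finite G] {F : Type} [Field F] [Fintype F] [CharP F 2] {m : ℕ} {K : Subgroup G}
    (D : KFr F m K) (Q T : Subgroup G) (g : G), Mv D Q T g →
    (∀ r ∈ Q, ∃ s ∈ Q, ∃ b, g * r * g⁻¹ = s * D.p 0 b) → (∀ H : Subgroup G, H.index ≠ 2) → NoClassTwo G → False

/-- `g Q g⁻¹` is a graph -/
theorem graph_of_mv {G : Type u} [Group G] [Finite G] {F : Type} [Field F] [Fintype F] [CharP F 2] {m : ℕ}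
    {K : Subgroup G} {D : KFr F m K} {Q T : Subgroup G} {g : G} (M : Mv D Q T g)
    (hG : ∀ H : Subgroup G, H.index ≠ 2) (hcl : NoClassTwo G) :
    ∀ r ∈ Q, ∃ s ∈ Q, ∃ b, g * r * g⁻¹ = s * D.p 0 b := by
  have hT : T ≤ normalizer ((cj g K : Subgroup G) : Set G) := by
    intro t ht
    rw [normalizer_cj, mem_cj]
    exact M.base.sylT.le ((mem_normalizer_iff''.mp M.gT t).mp ht)
  obtain ⟨-, f, -, -, hf⟩ := M.base.graph M.tight hG hcl M.gM hT
  intro r hr
  obtain ⟨s, hs, h1⟩ := (hf (g * r * g⁻¹)).mp ⟨(mem_normalizer_iff.mp M.gT r).mp (M.base.Q_le hr), by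
    rw [centralizer_cj]
    exact mem_cj_mul (M.base.Q_cent hr)⟩
  exact ⟨s, hs, _, h1⟩

theorem kill_of_killB (h : KillB.{u}) : Kill.{u} := fun D Q T g M hG hcl =>
  h D Q T g M (graph_of_mv M hG hcl) hG hcl

/-- **the row `K = Sz(q)`, `q ≥ 32`** -/
theorem sze (h1173 : Start.P1173.{u}) (h1170 : Cfsg.Agent.StdSz.Out.S1170Stmt.{u}) (h3p : Kill1170.ThreeStmt.{u})
    (hk : Kill.{u}) : Cut.Row1.{u} (fun K _ => Cut.Sze K) := by
  intro G _ C K hK hrk _ hP
  have := C.fin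
  obtain ⟨F, i1, i2, m, hm, hF, ⟨e⟩⟩ := hP
  obtain ⟨D, Q, T, g, M⟩ := Front.exists_mv_std h1173 C hK hrk hm hF e
  have hch : CharP F 2 := CharTwo.of_one_ne_zero_of_two_eq_zero one_ne_zero
    (Cfsg.Agent.LieRecognition.SzMatrix.two_eq_zero hF)
  exact hk D Q T g M (fun H => Cfsg.Agent.OddHalf.Front.FE.index_ne_two C H)
    (fun S h1 h2 => Kill1170.false_of_sylow C h1170 h3p S h1 h2)

theorem kill : Kill.{u} := fun _ _ _ _ M hG hcl => M.false hG hcl

/-- **the row `K = Sz(q)`, `q ≥ 32`**, from S1173, S1170 and the theorem on simple groups of order prime to 3 -/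
theorem row (h1173 : Start.P1173.{u}) (h1170 : Cfsg.Agent.StdSz.Out.S1170Stmt.{u}) (h3p : Kill1170.ThreeStmt.{u}) :
    Cut.Row1.{u} (fun K _ => Cut.Sze K) := sze h1173 h1170 h3p kill

end Cfsg.Agent.OddHalf.D4.Sz.Row
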