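import Cfsg.Agent.OddHalf.D4.Sz.Crd
import Mathlib.Algebra.Polynomial.Roots

/-!
# ODD, D4, `K = Sz(q)`, `q ≥ 32`: a second block

`Y ≤ T₁` elementary of order `|Q|`, `Y ∩ Q Z = 1`, the elements of `Y - 1` have the same centralizer `D` in `T₁`,
`|D| = |Q| q²`. Then `s = λ = 0`, `|Q| = q` and `Y ≤ E₀`.
-/

set_option autoImplicit false
set_option linter.unusedSectionVars false

namespace Cfsg.Agent.OddHalf.D4.Sz

open Cfsg.Agent.StdSz.EquivMaps Cfsg.Agent.StdSz.SzMaps

section Field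

variable {F : Type*} [Field F] [Fintype F] [CharP F 2] {m : ℕ}

theorem tau_eq (hF : Fintype.card F = 2 ^ (2 * m + 1)) {t : F} (h : t ^ (2 ^ m) = t) : t = 0 ∨ t = 1 := by
  apply Cfsg.Agent.StdSz.FormAlg.eq_of_th_eq hF
  have h1 : (t ^ (2 ^ m)) ^ (2 ^ (m + 1)) = t := by
    rw [← pow_mul, ← _root_.pow_add]
    have : m + (m + 1) = 2 * m + 1 := by ring
    rw [this, ← hF, FiniteField.pow_card]
  rwa [h] at h1

/-- `c ^ τ / c` is injective -/
theorem tau_inj (hF : Fintype.card F = 2 ^ (2 * m + 1)) {c d : F} (hc : c ≠ 0) (hd : d ≠ 0)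
    (h : c ^ (2 ^ m) * d = d ^ (2 ^ m) * c) : c = d := by
  have h1 : (c / d) ^ (2 ^ m) = c / d := by
    rw [div_pow, div_eq_div_iff (pow_ne_zero _ hd) hd, h]
    ring
  rcases tau_eq hF h1 with h2 | h2
  · exact absurd ((div_eq_zero_iff.mp h2).resolve_right hd) hc
  · exact (div_eq_one_iff_eq hd).mp h2

/-- two distinct nonzero solutions of `X c + Y c ^ τ = 0` -/
theorem eq_zero_of_two (hF : Fintype.card F = 2 ^ (2 * m + 1)) {X Y c d : F} (hc : c ≠ 0) (hd : d ≠ 0)
    (hne : c ≠ d) (h1 : X * c + Y * c ^ (2 ^ m) = 0) (h2 : X * d + Y * d ^ (2 ^ m) = 0) : X = 0 ∧ Y = 0 := by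
  have hY : Y = 0 := by
    by_contra hY
    apply hne
    apply tau_inj hF hc hd
    have h3 : Y * (c ^ (2 ^ m) * d - d ^ (2 ^ m) * c) = 0 := by linear_combination d * h1 - c * h2
    exact sub_eq_zero.mp ((mul_eq_zero.mp h3).resolve_left hY)
  subst hY
  rw [zero_mul, add_zero] at h1
  exact ⟨(mul_eq_zero.mp h1).resolve_right hc, rfl⟩

omit [CharP F 2] in
open Polynomial in
/-- an additive polynomial with many roots vanishes -/
theorem coeff_zero_of_roots (hm : 1 ≤ m) {x y w : F} {S : Set F} (hS : 2 ^ (m + 1) < Nat.card S)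
    (h : ∀ a ∈ S, x * a ^ (2 ^ (m + 1)) + y * a + w * a ^ (2 ^ m) = 0) : x = 0 ∧ y = 0 ∧ w = 0 := by
  classical
  set p : F[X] := C x * X ^ (2 ^ (m + 1)) + C y * X + C w * X ^ (2 ^ m) with hp
  have hp0 : p = 0 := by
    by_contra hne
    have h1 : S ⊆ (p.roots.toFinset : Set F) := by
      intro a ha
      rw [Finset.mem_coe, Multiset.mem_toFinset, mem_roots hne, IsRoot.def, hp]
      simp only [eval_add, eval_mul, eval_C, eval_pow, eval_X]
      exact h a ha
    have h2 : Nat.card S ≤ p.roots.toFinset.card := by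
      have := Set.ncard_le_ncard h1 (Finset.finite_toSet _)
      rwa [Set.ncard_coe_finset, ← Nat.card_coe_set_eq] at this
    have h3 : p.roots.toFinset.card ≤ p.natDegree :=
      (Multiset.toFinset_card_le _).trans (card_roots' p)
    have h4 : p.natDegree ≤ 2 ^ (m + 1) := by
      have e1 : (C x * X ^ (2 ^ (m + 1)) : F[X]).natDegree ≤ 2 ^ (m + 1) := natDegree_C_mul_X_pow_le _ _
      have e2 : (C y * X : F[X]).natDegree ≤ 2 ^ (m + 1) := by
        have := natDegree_C_mul_X_pow_le y 1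
        rw [pow_one] at this
        exact this.trans Nat.one_le_two_pow
      have e3 : (C w * X ^ (2 ^ m) : F[X]).natDegree ≤ 2 ^ (m + 1) :=
        (natDegree_C_mul_X_pow_le _ _).trans (Nat.pow_le_pow_right (by norm_num) (by omega))
      exact natDegree_add_le_of_degree_le (natDegree_add_le_of_degree_le e1 e2) e3
    omega
  have k1 : 1 < 2 ^ m := by
    calc 1 < 2 ^ 1 := by norm_num
      _ ≤ 2 ^ m := Nat.pow_le_pow_right (by norm_num) hm
  have k2 : 2 ^ m < 2 ^ (m + 1) := Nat.pow_lt_pow_right (by norm_num) (by omega)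
  have c1 := congrArg (fun p => p.coeff (2 ^ (m + 1))) hp0
  have c2 := congrArg (fun p => p.coeff 1) hp0
  have c3 := congrArg (fun p => p.coeff (2 ^ m)) hp0
  simp only [hp, coeff_add, coeff_C_mul, coeff_X_pow, coeff_zero, coeff_X] at c1 c2 c3
  rw [if_pos trivial, if_neg (by omega), if_neg (by omega)] at c1
  rw [if_neg (by omega), if_pos trivial, if_neg (by omega)] at c2
  rw [if_neg (by omega), if_neg (by omega), if_pos trivial] at c3
  refine ⟨by simpa using c1, by simpa using c2, by simpa using c3⟩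

end Field

/-- kernel and image of an additive function on a subgroup -/
theorem exists_ker {G F : Type*} [Group G] [Finite G] [AddGroup F] (H : Subgroup G) (g : G → F)
    (hg : ∀ x ∈ H, ∀ y ∈ H, g (x * y) = g x + g y) :
    ∃ K : Subgroup G, (∀ x, x ∈ K ↔ x ∈ H ∧ g x = 0) ∧ Nat.card H = Nat.card K * Nat.card (g '' (H : Set G)) := by
  let φ : H →* Multiplicative F := MonoidHom.mk' (fun x => Multiplicative.ofAdd (g x)) (by
    intro x y
    show Multiplicative.ofAdd (g ((x : G) * y)) = _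
    rw [hg _ x.2 _ y.2]; rfl)
  refine ⟨φ.ker.map H.subtype, fun x => ?_, ?_⟩
  · constructor
    · rintro ⟨y, hy, rfl⟩
      exact ⟨y.2, hy⟩
    · rintro ⟨hx, h⟩
      exact ⟨⟨x, hx⟩, h, rfl⟩
  · rw [Subgroup.card_map_of_injective H.subtype_injective, ← Subgroup.card_mul_index φ.ker, Subgroup.index_ker]
    congr 1
    refine Nat.card_congr ⟨fun y => ⟨Multiplicative.toAdd y.1, ?_⟩, fun y => ⟨Multiplicative.ofAdd y.1, ?_⟩,
      fun y => rfl, fun y => rfl⟩
    · obtain ⟨x, hx⟩ := y.2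
      exact ⟨x, x.2, by rw [← hx]; rfl⟩
    · obtain ⟨x, hx, hxy⟩ := y.2
      exact ⟨⟨x, hx⟩, by rw [← hxy]; rfl⟩

namespace Pre

variable {G : Type*} [Group G] [Finite G] {F : Type*} [Field F] [Fintype F] [CharP F 2] {m : ℕ} (P : Pre G F m)

/-- the data of a second block -/
structure Blk (Y D : Subgroup G) : Prop where
  le : Y ≤ P.T
  sq : ∀ y ∈ Y, y * y = 1
  inf : ∀ y ∈ Y, ∀ r ∈ P.Q, ∀ b, y = r * P.p 0 b → y = 1
  two : ∃ u ∈ Y, ∃ v ∈ Y, u ≠ 1 ∧ v ≠ 1 ∧ u ≠ v
  Dle : D ≤ P.T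
  cen : ∀ u ∈ Y, u ≠ 1 → ∀ x ∈ P.T, x ∈ D ↔ u * x = x * u
  card : Nat.card D = Nat.card P.Q * Fintype.card F ^ 2
  cardQ : 3 ≤ Nat.card P.Q

variable {P} {Y D : Subgroup G}

namespace Blk

theorem act_ne (B : P.Blk Y D) {u : G} (hu : u ∈ Y) (hu1 : u ≠ 1) : P.act u ≠ 0 := by
  intro h
  apply hu1
  obtain ⟨r, hr, a, b, h1⟩ := P.T_ker u (B.le hu) h
  have h2 := B.sq u hu
  have h3 : P.sq u = 0 := P.sq_eq (B.le hu) (by rw [h2, P.p_zero])
  have h4 : P.aC u = a := by rw [h1, P.aC_PP (P.rp_mem hr a b), P.aP_rp hr]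
  rw [P.sq_crd (B.le hu), h, h4] at h3
  unfold qf at h3
  have h5 : a ^ (1 + 2 ^ (m + 1)) = 0 := by simpa using h3
  have h6 : a = 0 := by
    rw [pow_eq_zero_iff (by positivity)] at h5; exact h5
  subst h6
  exact B.inf u hu r hr b h1

theorem act_inj (B : P.Blk Y D) {u v : G} (hu : u ∈ Y) (hv : v ∈ Y) (h : P.act u = P.act v) : u = v := by
  by_contra hne
  have h1 : u * v⁻¹ ≠ 1 := fun h => hne (mul_inv_eq_one.mp h)
  apply B.act_ne (mul_mem hu (inv_mem hv)) h1
  rw [P.act_mul (B.le hu) (inv_mem (B.le hv)), P.act_inv (B.le hv), h, CharTwo.add_self_eq_zero]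

theorem cm_zero (B : P.Blk Y D) {u x : G} (hu : u ∈ Y) (hx : x ∈ D) : P.cm u x = 0 := by
  by_cases hu1 : u = 1
  · rw [hu1, ← P.p_zero, P.cm_z_left 0 (B.Dle hx)]
  apply P.cm_eq (B.le hu) (B.Dle hx)
  rw [P.p_zero, one_mul]
  exact (B.cen u hu hu1 x (B.Dle hx)).mp hx

theorem qf_zero (B : P.Blk Y D) {u : G} (hu : u ∈ Y) : qf m P.s P.lam (P.fC u) (P.aC u) (P.act u) = 0 := by
  rw [← P.sq_crd (B.le hu)]
  exact P.sq_eq (B.le hu) (by rw [B.sq u hu, P.p_zero])

variable (P) in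
theorem card_Z_le {K : Subgroup G} (hK : ∀ x ∈ K, ∃ b, x = P.p 0 b) : Nat.card K ≤ Fintype.card F := by
  classical
  choose b hb using hK
  rw [← Nat.card_eq_fintype_card]
  apply Nat.card_le_card_of_injective (fun x : K => b x.1 x.2)
  intro x y h
  apply Subtype.ext
  rw [hb x.1 x.2, hb y.1 y.2]
  exact congrArg _ h

variable (P) in
theorem card_FR : Nat.card P.FR = Nat.card P.Q := by
  symm
  apply Nat.card_congr
  refine Equiv.ofBijective (fun r : P.Q => (⟨P.f r, P.f_mem_FR r.2⟩ : P.FR)) ⟨?_, ?_⟩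
  · intro r s h
    have h1 : P.f r = P.f s := congrArg Subtype.val h
    have h2 : P.f ((r : G) * s) = 0 := by rw [P.f_mul r r.2 s s.2, h1, CharTwo.add_self_eq_zero]
    have h3 := P.f_inj _ (mul_mem r.2 s.2) h2
    apply Subtype.ext
    rw [eq_inv_of_mul_eq_one_left h3, P.Q_inv s.2]
  · rintro ⟨_, r, hr, rfl⟩
    exact ⟨⟨r, hr⟩, rfl⟩

/-- Step I -/
theorem stepI (B : P.Blk Y D) {u v : G} (hu : u ∈ Y) (hv : v ∈ Y) (hu1 : u ≠ 1) (hv1 : v ≠ 1) (hne : u ≠ v) :
    P.fC u * P.act v = P.fC v * P.act u ∧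
      P.lam * P.aC u ^ (2 ^ m) * P.act v = P.lam * P.aC v ^ (2 ^ m) * P.act u := by
  have hu0 := B.act_ne hu hu1
  have hv0 := B.act_ne hv hv1
  -- elements of `D` with `aC = 0`
  obtain ⟨K1, hK1, hc1⟩ := exists_ker D P.aC (fun x hx y hy => P.aC_mul (B.Dle hx) (B.Dle hy))
  have hK1D : ∀ x ∈ K1, x ∈ D := fun x hx => ((hK1 x).mp hx).1
  obtain ⟨K2, hK2, hc2⟩ := exists_ker K1 P.act
    (fun x hx y hy => P.act_mul (B.Dle (hK1D x hx)) (B.Dle (hK1D y hy)))
  have hK2Z : ∀ x ∈ K2, ∃ b, x = P.p 0 b := by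
    intro x hx
    have h1 := (hK2 x).mp hx
    have h2 := (hK1 x).mp h1.1
    have hxT := B.Dle h2.1
    have h3 := B.cm_zero hu h2.1
    rw [P.cm_crd (B.le hu) hxT, h2.2, h1.2] at h3
    unfold bf at h3
    have h4 : P.act u * P.fC x = 0 := by simpa using h3
    exact P.eq_z_of hxT ((mul_eq_zero.mp h4).resolve_left hu0) h2.2 h1.2
  have hq := card_Z_le P hK2Z
  have him : Nat.card (P.aC '' (D : Set G)) ≤ Fintype.card F := by
    rw [← Nat.card_eq_fintype_card]
    exact Nat.card_le_card_of_injective (fun x : P.aC '' (D : Set G) => (x : F)) Subtype.val_injective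
  have hqpos : 0 < Fintype.card F := Fintype.card_pos
  have h3 : 3 ≤ Nat.card (P.act '' (K1 : Set G)) := by
    have e1 : Nat.card P.Q * Fintype.card F ^ 2 ≤
        (Fintype.card F * Nat.card (P.act '' (K1 : Set G))) * Fintype.card F := by
      rw [← B.card, hc1, hc2]
      exact Nat.mul_le_mul (Nat.mul_le_mul_right _ hq) him
    have e2 : Nat.card P.Q * Fintype.card F ^ 2 ≤ Nat.card (P.act '' (K1 : Set G)) * Fintype.card F ^ 2 := by
      calc Nat.card P.Q * Fintype.card F ^ 2 ≤ _ := e1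
        _ = _ := by ring
    exact B.cardQ.trans (Nat.le_of_mul_le_mul_right e2 (by positivity))
  -- two distinct nonzero values
  obtain ⟨c, d, hcS, hdS, hc0, hd0, hcd⟩ : ∃ c d : F, c ∈ P.act '' (K1 : Set G) ∧ d ∈ P.act '' (K1 : Set G) ∧
      c ≠ 0 ∧ d ≠ 0 ∧ c ≠ d := by
    classical
    set S := P.act '' (K1 : Set G) with hS
    have h4 : 3 ≤ S.ncard := h3
    have h5 : 2 ≤ (S \ {0}).ncard := by
      have := Set.le_ncard_sdiff {(0 : F)} S
      rw [Set.ncard_singleton] at this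
      omega
    obtain ⟨c, d, hc, hd, hcd⟩ := (Set.one_lt_ncard_iff (Set.toFinite _)).mp h5
    exact ⟨c, d, hc.1, hd.1, hc.2, hd.2, hcd⟩
  have key : ∀ c ∈ P.act '' (K1 : Set G), (P.fC u * P.act v + P.fC v * P.act u) * c +
      (P.lam * P.aC u ^ (2 ^ m) * P.act v + P.lam * P.aC v ^ (2 ^ m) * P.act u) * c ^ (2 ^ m) = 0 := by
    rintro _ ⟨x, hx, rfl⟩
    have h2 := (hK1 x).mp hx
    have hxT := B.Dle h2.1
    have h4 := B.cm_zero hu h2.1
    have h5 := B.cm_zero hv h2.1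
    rw [P.cm_crd (B.le hu) hxT, h2.2] at h4
    rw [P.cm_crd (B.le hv) hxT, h2.2] at h5
    unfold bf at h4 h5
    have z1 : (0 : F) ^ (2 ^ (m + 1)) = 0 := zero_pow (by positivity)
    have z2 : (0 : F) ^ (2 ^ m) = 0 := zero_pow (by positivity)
    simp only [z1, zero_mul, mul_zero, zero_add, add_zero, z2, mul_pow] at h4 h5
    have h2' : (2 : F) = 0 := CharTwo.two_eq_zero
    linear_combination P.act v * h4 + P.act u * h5 - (P.act u * P.act v * P.fC x) * h2'
  obtain ⟨h6, h7⟩ := eq_zero_of_two P.hF hc0 hd0 hcd (key c hcS) (key d hdS)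
  constructor
  · have := eq_neg_of_add_eq_zero_left h6
    rwa [CharTwo.neg_eq] at this
  · have := eq_neg_of_add_eq_zero_left h7
    rwa [CharTwo.neg_eq] at this

/-- Step II -/
theorem stepII (B : P.Blk Y D) {u v : G} (hu : u ∈ Y) (hv : v ∈ Y) (hu1 : u ≠ 1) (hv1 : v ≠ 1) (hne : u ≠ v) :
    P.fC u = 0 ∧ P.lam * P.aC u ^ (2 ^ m) = 0 := by
  have hm := P.hm
  have hu0 := B.act_ne hu hu1
  have hv0 := B.act_ne hv hv1
  have hcc : P.act u ≠ P.act v := fun h => hne (B.act_inj hu hv h)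
  obtain ⟨hI1, hI2⟩ := B.stepI hu hv hu1 hv1 hne
  by_contra hcon
  have hcon' : P.fC u ≠ 0 ∨ P.lam * P.aC u ^ (2 ^ m) ≠ 0 := by
    by_contra h
    push Not at h
    exact hcon h
  -- elements of `D` with `fC = 0`
  obtain ⟨K1, hK1, hc1⟩ := exists_ker D P.fC (fun x hx y hy => P.fC_mul (B.Dle hx) (B.Dle hy))
  have hK1D : ∀ x ∈ K1, x ∈ D := fun x hx => ((hK1 x).mp hx).1
  obtain ⟨K2, hK2, hc2⟩ := exists_ker K1 P.aC
    (fun x hx y hy => P.aC_mul (B.Dle (hK1D x hx)) (B.Dle (hK1D y hy)))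
  have hK2D : ∀ x ∈ K2, x ∈ D := fun x hx => hK1D x ((hK2 x).mp hx).1
  obtain ⟨K3, hK3, hc3⟩ := exists_ker K2 P.act
    (fun x hx y hy => P.act_mul (B.Dle (hK2D x hx)) (B.Dle (hK2D y hy)))
  have hK3Z : ∀ x ∈ K3, ∃ b, x = P.p 0 b := by
    intro x hx
    have h1 := (hK3 x).mp hx
    have h2 := (hK2 x).mp h1.1
    have h3 := (hK1 x).mp h2.1
    exact P.eq_z_of (B.Dle h3.1) h3.2 h2.2 h1.2
  have hq := card_Z_le P hK3Z
  have him1 : Nat.card (P.fC '' (D : Set G)) ≤ Nat.card P.Q := by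
    rw [← card_FR P]
    exact Nat.card_mono (Set.toFinite _) (by
      rintro _ ⟨x, -, rfl⟩
      exact P.fC_FR x)
  have him3 : Nat.card (P.act '' (K2 : Set G)) ≤ 2 := by
    by_contra hlt
    push Not at hlt
    classical
    set S := P.act '' (K2 : Set G) with hS
    have h4 : 3 ≤ S.ncard := hlt
    have h5 : 2 ≤ (S \ {0}).ncard := by
      have := Set.le_ncard_sdiff {(0 : F)} S
      rw [Set.ncard_singleton] at this
      omega
    obtain ⟨c, d, hc, hd, hcd⟩ := (Set.one_lt_ncard_iff (Set.toFinite _)).mp h5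
    have key : ∀ c ∈ S, P.fC u * c + P.lam * P.aC u ^ (2 ^ m) * c ^ (2 ^ m) = 0 := by
      rintro _ ⟨x, hx, rfl⟩
      have h1 := (hK2 x).mp hx
      have h2 := (hK1 x).mp h1.1
      have hxT := B.Dle h2.1
      have h4 := B.cm_zero hu h2.1
      rw [P.cm_crd (B.le hu) hxT, h2.2, h1.2] at h4
      unfold bf at h4
      have z1 : (0 : F) ^ (2 ^ (m + 1)) = 0 := zero_pow (by positivity)
      have z2 : (0 : F) ^ (2 ^ m) = 0 := zero_pow (by positivity)
      simp only [z1, zero_mul, mul_zero, zero_add, add_zero, z2, mul_pow] at h4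
      linear_combination h4
    obtain ⟨h6, h7⟩ := eq_zero_of_two P.hF hc.2 hd.2 hcd (key c hc.1) (key d hd.1)
    rcases hcon' with h | h
    · exact h h6
    · exact h h7
  have hqpos : 0 < Fintype.card F := Fintype.card_pos
  have hQpos : 0 < Nat.card P.Q := by have := B.cardQ; omega
  have hbig : 2 ^ (m + 1) < Nat.card (P.aC '' (K1 : Set G)) := by
    have e1 : Nat.card P.Q * Fintype.card F ^ 2 ≤
        ((Fintype.card F * 2) * Nat.card (P.aC '' (K1 : Set G))) * Nat.card P.Q := by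
      rw [← B.card, hc1, hc2, hc3]
      exact Nat.mul_le_mul (Nat.mul_le_mul_right _ (Nat.mul_le_mul hq him3)) him1
    have e2 : Fintype.card F * (Nat.card P.Q * Fintype.card F) ≤
        (2 * Nat.card (P.aC '' (K1 : Set G))) * (Nat.card P.Q * Fintype.card F) := by
      calc Fintype.card F * (Nat.card P.Q * Fintype.card F) = Nat.card P.Q * Fintype.card F ^ 2 := by ring
        _ ≤ _ := e1
        _ = _ := by ring
    have e3 := Nat.le_of_mul_le_mul_right e2 (by positivity)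
    rw [P.hF] at e3
    have e4 : 2 ^ (m + 2) < 2 ^ (2 * m + 1) := Nat.pow_lt_pow_right (by norm_num) (by omega)
    have e5 : 2 ^ (m + 2) = 2 * 2 ^ (m + 1) := by rw [← pow_succ']
    omega
  have key : ∀ a ∈ P.aC '' (K1 : Set G),
      (P.aC u * P.act v + P.aC v * P.act u) * a ^ (2 ^ (m + 1)) +
      (P.aC u ^ (2 ^ (m + 1)) * P.act v + P.aC v ^ (2 ^ (m + 1)) * P.act u) * a +
      (P.lam * (P.act u ^ (2 ^ m) * P.act v + P.act v ^ (2 ^ m) * P.act u)) * a ^ (2 ^ m) = 0 := by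
    rintro _ ⟨x, hx, rfl⟩
    have h2 := (hK1 x).mp hx
    have hxT := B.Dle h2.1
    have h4 := B.cm_zero hu h2.1
    have h5 := B.cm_zero hv h2.1
    rw [P.cm_crd (B.le hu) hxT, h2.2] at h4
    rw [P.cm_crd (B.le hv) hxT, h2.2] at h5
    unfold bf at h4 h5
    simp only [mul_zero, zero_add, mul_pow] at h4 h5
    have h2' : (2 : F) = 0 := CharTwo.two_eq_zero
    linear_combination P.act v * h4 + P.act u * h5 - P.act x * hI1 - (P.act x) ^ (2 ^ m) * hI2 -
      (P.act x * P.fC v * P.act u + (P.act x) ^ (2 ^ m) * (P.lam * P.aC v ^ (2 ^ m) * P.act u)) * h2'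
  obtain ⟨k1, k2, k3⟩ := coeff_zero_of_roots (by omega) hbig key
  have hlam : P.lam = 0 := by
    by_contra hl
    have h3 := (mul_eq_zero.mp k3).resolve_left hl
    apply hcc
    apply tau_inj P.hF hu0 hv0
    have := eq_neg_of_add_eq_zero_left h3
    rwa [CharTwo.neg_eq] at this
  have e1 : P.aC u * P.act v = P.aC v * P.act u := by
    have := eq_neg_of_add_eq_zero_left k1
    rwa [CharTwo.neg_eq] at this
  have e2 : P.aC u ^ (2 ^ (m + 1)) * P.act v = P.aC v ^ (2 ^ (m + 1)) * P.act u := by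
    have := eq_neg_of_add_eq_zero_left k2
    rwa [CharTwo.neg_eq] at this
  have hau : P.aC u = 0 := by
    by_contra ha
    have hav : P.aC v ≠ 0 := by
      intro h
      rw [h, zero_mul] at e1
      exact (mul_ne_zero ha hv0) e1
    apply hcc
    -- `t = aC v / aC u`
    have h3 : (P.aC v / P.aC u) ^ (2 ^ (m + 1)) = P.aC v / P.aC u := by
      rw [div_pow, div_eq_div_iff (pow_ne_zero _ ha) ha]
      have h4 : P.act u * (P.aC v ^ (2 ^ (m + 1)) * P.aC u - P.aC v * P.aC u ^ (2 ^ (m + 1))) = 0 := by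
        linear_combination -P.aC u * e2 + P.aC u ^ (2 ^ (m + 1)) * e1
      exact sub_eq_zero.mp ((mul_eq_zero.mp h4).resolve_left hu0)
    rcases Cfsg.Agent.StdSz.FormAlg.eq_of_th_eq P.hF h3 with h4 | h4
    · exact absurd ((div_eq_zero_iff.mp h4).resolve_right ha) hav
    · have h5 := (div_eq_one_iff_eq ha).mp h4
      rw [h5] at e1
      exact (mul_left_cancel₀ ha e1).symm
  have hav : P.aC v = 0 := by
    rw [hau, zero_mul] at e1
    exact (mul_eq_zero.mp e1.symm).resolve_right hu0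
  have q1 := B.qf_zero hu
  have q2 := B.qf_zero hv
  rw [hau, hlam] at q1
  rw [hav, hlam] at q2
  unfold qf at q1 q2
  have z1 : (0 : F) ^ (1 + 2 ^ (m + 1)) = 0 := zero_pow (by positivity)
  simp only [z1, zero_mul, zero_add, add_zero] at q1 q2
  have s1 : P.fC u = P.s := by
    have h3 : P.act u * (P.fC u - P.s) = 0 := by
      have h2' : (2 : F) = 0 := CharTwo.two_eq_zero
      linear_combination q1 - P.s * P.act u * h2'
    exact sub_eq_zero.mp ((mul_eq_zero.mp h3).resolve_left hu0)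
  have s2 : P.fC v = P.s := by
    have h3 : P.act v * (P.fC v - P.s) = 0 := by
      have h2' : (2 : F) = 0 := CharTwo.two_eq_zero
      linear_combination q2 - P.s * P.act v * h2'
    exact sub_eq_zero.mp ((mul_eq_zero.mp h3).resolve_left hv0)
  have hfu : P.fC u ≠ 0 := by
    rcases hcon' with h | h
    · exact h
    · rw [hlam, zero_mul] at h
      exact absurd rfl h
  rw [s1, s2] at hI1
  rw [s1] at hfu
  exact hcc (mul_left_cancel₀ hfu hI1).symm

theorem fC_zero (B : P.Blk Y D) {u : G} (hu : u ∈ Y) (hu1 : u ≠ 1) :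
    P.fC u = 0 ∧ P.lam * P.aC u ^ (2 ^ m) = 0 := by
  obtain ⟨v, hv, w, hw, hv1, hw1, hvw⟩ := B.two
  by_cases h : u = v
  · subst h
    exact B.stepII hv hw hv1 hw1 hvw
  · exact B.stepII hu hv hu1 hv1 h

/-- Step III -/
theorem stepIII (B : P.Blk Y D) : P.s = 0 ∧ ∀ u ∈ Y, P.aC u = 0 := by
  obtain ⟨v, hv, w, hw, hv1, hw1, hvw⟩ := B.two
  have hq : ∀ u ∈ Y, P.aC u ^ (1 + 2 ^ (m + 1)) = P.s * P.act u := by
    intro u hu
    by_cases hu1 : u = 1
    · rw [hu1, P.aC_one, P.act_one, mul_zero, zero_pow (by positivity)]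
    have h1 := B.qf_zero hu
    obtain ⟨h2, h3⟩ := B.fC_zero hu hu1
    rw [h2] at h1
    unfold qf at h1
    rw [mul_zero, add_zero, mul_pow, ← mul_assoc, h3, zero_mul, add_zero] at h1
    have := eq_neg_of_add_eq_zero_left h1
    rwa [CharTwo.neg_eq] at this
  have hs : P.s = 0 := by
    by_contra hs
    have a1 : P.aC v ≠ 0 := by
      intro h
      have := hq v hv
      rw [h, zero_pow (by positivity)] at this
      exact (mul_ne_zero hs (B.act_ne hv hv1)) this.symm
    have a2 : P.aC w ≠ 0 := by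
      intro h
      have := hq w hw
      rw [h, zero_pow (by positivity)] at this
      exact (mul_ne_zero hs (B.act_ne hw hw1)) this.symm
    have h1 := hq _ (mul_mem hv hw)
    rw [P.aC_mul (B.le hv) (B.le hw), P.act_mul (B.le hv) (B.le hw), mul_add, ← hq v hv, ← hq w hw] at h1
    have e1 : ∀ a b : F, (a + b) ^ (1 + 2 ^ (m + 1)) = a ^ (1 + 2 ^ (m + 1)) + b ^ (1 + 2 ^ (m + 1)) +
        (a * b ^ (2 ^ (m + 1)) + a ^ (2 ^ (m + 1)) * b) := by
      intro a b
      rw [_root_.pow_add (a + b) 1, _root_.pow_add a 1, _root_.pow_add b 1, add_pow_char_pow a b 2 (m + 1)]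
      ring
    rw [e1] at h1
    have h2 : P.aC v * P.aC w ^ (2 ^ (m + 1)) + P.aC v ^ (2 ^ (m + 1)) * P.aC w = 0 := by
      linear_combination h1
    have h3 : (P.aC v / P.aC w) ^ (2 ^ (m + 1)) = P.aC v / P.aC w := by
      rw [div_pow, div_eq_div_iff (pow_ne_zero _ a2) a2]
      have := eq_neg_of_add_eq_zero_right h2
      rwa [CharTwo.neg_eq] at this
    rcases Cfsg.Agent.StdSz.FormAlg.eq_of_th_eq P.hF h3 with h4 | h4
    · exact absurd ((div_eq_zero_iff.mp h4).resolve_right a2) a1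
    · have h5 := (div_eq_one_iff_eq a2).mp h4
      have h6 := hq v hv
      rw [h5, hq w hw] at h6
      exact hvw (B.act_inj hv hw (mul_left_cancel₀ hs h6).symm)
  refine ⟨hs, fun u hu => ?_⟩
  have := hq u hu
  rw [hs, zero_mul, pow_eq_zero_iff (by positivity)] at this
  exact this

/-- **the structure of a second block** -/
theorem main (B : P.Blk Y D) : P.s = 0 ∧ P.lam = 0 ∧ (∀ y : F, y ∈ P.FR) ∧ ∀ u ∈ Y, P.fC u = 0 ∧ P.aC u = 0 := by
  obtain ⟨hs, ha⟩ := B.stepIII
  have hf : ∀ u ∈ Y, P.fC u = 0 := by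
    intro u hu
    by_cases hu1 : u = 1
    · rw [hu1, P.fC_one]
    · exact (B.fC_zero hu hu1).1
  obtain ⟨u, hu, v, hv, hu1, hv1, hne⟩ := B.two
  have hu0 := B.act_ne hu hu1
  have hv0 := B.act_ne hv hv1
  have hcc : P.act u ≠ P.act v := fun h => hne (B.act_inj hu hv h)
  have hrel : ∀ w ∈ Y, w ≠ 1 → ∀ x ∈ D, P.act w * P.fC x + P.lam * P.aC x ^ (2 ^ m) * P.act w ^ (2 ^ m) = 0 := by
    intro w hw _ x hx
    have h1 := B.cm_zero hw hx
    rw [P.cm_crd (B.le hw) (B.Dle hx), hf w hw, ha w hw] at h1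
    unfold bf at h1
    have z1 : (0 : F) ^ (2 ^ (m + 1)) = 0 := zero_pow (by positivity)
    have z2 : (0 : F) ^ (2 ^ m) = 0 := zero_pow (by positivity)
    simp only [z1, zero_mul, mul_zero, zero_add, add_zero, z2, mul_pow] at h1
    linear_combination h1
  have hqpos : 0 < Fintype.card F := Fintype.card_pos
  have hlam : P.lam = 0 := by
    by_contra hl
    -- `D` has coordinates `(0, 0, *)`
    have h0 : ∀ x ∈ D, P.aC x = 0 ∧ P.fC x = 0 := by
      intro x hx
      have h1 := hrel u hu hu1 x hx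
      have h2 := hrel v hv hv1 x hx
      have h3 : P.aC x = 0 := by
        by_contra hax
        apply hcc
        apply tau_inj P.hF hu0 hv0
        have h4 : (P.lam * P.aC x ^ (2 ^ m)) * (P.act u ^ (2 ^ m) * P.act v - P.act v ^ (2 ^ m) * P.act u) = 0 := by
          linear_combination P.act v * h1 - P.act u * h2
        exact sub_eq_zero.mp ((mul_eq_zero.mp h4).resolve_left (mul_ne_zero hl (pow_ne_zero _ hax)))
      refine ⟨h3, ?_⟩
      rw [h3, zero_pow (by positivity), mul_zero, zero_mul, add_zero] at h1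
      exact (mul_eq_zero.mp h1).resolve_left hu0
    obtain ⟨K1, hK1, hc1⟩ := exists_ker D P.act (fun x hx y hy => P.act_mul (B.Dle hx) (B.Dle hy))
    have hq := card_Z_le P (K := K1) (by
      intro x hx
      have h1 := (hK1 x).mp hx
      exact P.eq_z_of (B.Dle h1.1) (h0 x h1.1).2 (h0 x h1.1).1 h1.2)
    have him : Nat.card (P.act '' (D : Set G)) ≤ Fintype.card F := by
      rw [← Nat.card_eq_fintype_card]
      exact Nat.card_le_card_of_injective (fun x : P.act '' (D : Set G) => (x : F)) Subtype.val_injective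
    have e1 : Nat.card P.Q * Fintype.card F ^ 2 ≤ 1 * Fintype.card F ^ 2 := by
      calc Nat.card P.Q * Fintype.card F ^ 2 = Nat.card K1 * Nat.card (P.act '' (D : Set G)) := by
            rw [← B.card, hc1]
        _ ≤ Fintype.card F * Fintype.card F := Nat.mul_le_mul hq him
        _ = _ := by ring
    have e2 := Nat.le_of_mul_le_mul_right e1 (by positivity)
    have := B.cardQ
    omega
  refine ⟨hs, hlam, ?_, fun u hu => ⟨hf u hu, ha u hu⟩⟩
  -- `D = {fC = 0}`
  have hD : ∀ x ∈ P.T, P.fC x = 0 → x ∈ D := by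
    intro x hx h
    rw [B.cen u hu hu1 x hx]
    have h1 := P.cm_spec (B.le hu) hx
    rw [P.cm_crd (B.le hu) hx, h, hf u hu, ha u hu, hlam] at h1
    unfold bf at h1
    have z1 : (0 : F) ^ (2 ^ (m + 1)) = 0 := zero_pow (by positivity)
    simp only [z1, zero_mul, mul_zero, add_zero] at h1
    rw [P.p_zero, one_mul] at h1
    exact h1
  -- count
  obtain ⟨K1, hK1, hc1⟩ := exists_ker D P.aC (fun x hx y hy => P.aC_mul (B.Dle hx) (B.Dle hy))
  have hK1D : ∀ x ∈ K1, x ∈ D := fun x hx => ((hK1 x).mp hx).1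
  obtain ⟨K2, hK2, hc2⟩ := exists_ker K1 P.act
    (fun x hx y hy => P.act_mul (B.Dle (hK1D x hx)) (B.Dle (hK1D y hy)))
  have hcard : Fintype.card F ^ 3 ≤ Nat.card D := by
    have i1 : Nat.card (P.aC '' (D : Set G)) = Fintype.card F := by
      have : P.aC '' (D : Set G) = Set.univ := by
        rw [Set.eq_univ_iff_forall]
        intro a
        refine ⟨P.p a 0, hD _ (P.T_p a 0) (P.fC_p a 0), P.aC_p a 0⟩
      rw [this, Nat.card_congr (Equiv.Set.univ F), Nat.card_eq_fintype_card]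
    have i2 : Nat.card (P.act '' (K1 : Set G)) = Fintype.card F := by
      have : P.act '' (K1 : Set G) = Set.univ := by
        rw [Set.eq_univ_iff_forall]
        intro c
        refine ⟨P.ee c, (hK1 _).mpr ⟨hD _ (P.ee_mem c) (P.fC_ee c), P.aC_ee c⟩, P.act_ee c⟩
      rw [this, Nat.card_congr (Equiv.Set.univ F), Nat.card_eq_fintype_card]
    have i3 : Fintype.card F ≤ Nat.card K2 := by
      rw [← Nat.card_eq_fintype_card]
      apply Nat.card_le_card_of_injective (fun b : F => (⟨P.p 0 b, (hK2 _).mpr ⟨(hK1 _).mpr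
        ⟨hD _ (P.T_p 0 b) (P.fC_p 0 b), P.aC_p 0 b⟩, P.act_p 0 b⟩⟩ : K2))
      intro b b' h
      exact P.z_inj (congrArg Subtype.val h)
    rw [hc1, hc2, i1, i2]
    calc Fintype.card F ^ 3 = Fintype.card F * Fintype.card F * Fintype.card F := by ring
      _ ≤ _ := Nat.mul_le_mul_right _ (Nat.mul_le_mul_right _ i3)
  rw [B.card] at hcard
  have hQ : Fintype.card F ≤ Nat.card P.Q := by
    have e : Fintype.card F * Fintype.card F ^ 2 ≤ Nat.card P.Q * Fintype.card F ^ 2 := by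
      calc Fintype.card F * Fintype.card F ^ 2 = Fintype.card F ^ 3 := by ring
        _ ≤ _ := hcard
    exact Nat.le_of_mul_le_mul_right e (by positivity)
  intro y
  rw [← card_FR P] at hQ
  have htop : P.FR = ⊤ := by
    apply AddSubgroup.eq_top_of_le_card
    rw [Nat.card_eq_fintype_card]
    exact hQ
  rw [htop]; trivial

end Blk

end Pre

end Cfsg.Agent.OddHalf.D4.Sz
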