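import Cfsg.Agent.OddHalf.D4.Sz.Pre
import Mathlib.GroupTheory.QuotientGroup.Basic
import Mathlib.LinearAlgebra.Basis.VectorSpace

/-!
# ODD, D4, `K = Sz(q)`, `q ≥ 32`: coordinates and the form on `T₁ / Z`

`fC, aC, act : T → F` additive, torus-equivariant of weights 0, 1, 2; kernel `Z`; values of `fC` in `f(Q)`.
`x * x = p 0 (q x)`, `q x = aC^(1+θ) + s act + act * fC + λ (aC act)^(2^m)`.
-/

set_option autoImplicit false
set_option linter.unusedSectionVars false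
set_option linter.style.haveILetI false

namespace Cfsg.Agent.OddHalf.D4.Sz

open Cfsg.Agent.StdSz.EquivMaps Cfsg.Agent.StdSz.SzMaps

/-- additive functions on a subgroup of an elementary abelian 2-group extend. -/
theorem exists_ext {A F : Type*} [Group A] [AddCommGroup F] (hF : ∀ x : F, x + x = 0)
    (hA : ∀ x : A, x * x = 1) (H : Subgroup A) (g : A → F)
    (hg : ∀ x ∈ H, ∀ y ∈ H, g (x * y) = g x + g y) :
    ∃ g' : A → F, (∀ x y, g' (x * y) = g' x + g' y) ∧ ∀ x ∈ H, g' x = g x := by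
  classical
  have hcomm : ∀ x y : A, x * y = y * x := by
    intro x y
    have h3 := hA (x * y)
    calc x * y = x * (x * y * (x * y)) * y := by rw [h3, mul_one]
      _ = (x * x) * (y * x) * (y * y) := by group
      _ = y * x := by rw [hA, hA, one_mul, mul_one]
  letI cg : CommGroup A := { (inferInstance : Group A) with mul_comm := hcomm }
  letI : Module (ZMod 2) (Additive A) := AddCommGroup.zmodModule (n := 2) (fun x => by
    rw [two_nsmul]; exact hA x.toMul)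
  letI : Module (ZMod 2) F := AddCommGroup.zmodModule (n := 2) (fun x => by
    rw [two_nsmul]; exact hF x)
  have hz : ∀ e : ZMod 2, e = 0 ∨ e = 1 := by decide
  let W : Submodule (ZMod 2) (Additive A) :=
    { carrier := {x | x.toMul ∈ H}
      add_mem' := fun {x y} hx hy => H.mul_mem hx hy
      zero_mem' := H.one_mem
      smul_mem' := by
        intro c x hx
        rcases hz c with rfl | rfl
        · rw [zero_smul]; exact H.one_mem
        · rw [one_smul]; exact hx }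
  let φ : W →+ F := AddMonoidHom.mk' (fun x => g (x : Additive A).toMul) (by
    intro x y
    exact hg _ x.2 _ y.2)
  obtain ⟨ψ, hψ⟩ := LinearMap.exists_extend (φ.toZModLinearMap 2)
  refine ⟨fun x => ψ (Additive.ofMul x), fun x y => ?_, fun x hx => ?_⟩
  · show ψ (Additive.ofMul x + Additive.ofMul y) = _
    rw [map_add]
  · exact LinearMap.congr_fun hψ ⟨Additive.ofMul x, hx⟩

namespace Pre

variable {G : Type*} [Group G] [Finite G] {F : Type*} [Field F] [Fintype F] [CharP F 2] {m : ℕ} (P : Pre G F m)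

/-- the subgroup `Z` inside `T`. -/
def Zs : Subgroup P.T where
  carrier := {g | ∃ b, (g : G) = P.p 0 b}
  one_mem' := ⟨0, by rw [P.p_zero]; rfl⟩
  mul_mem' := by
    rintro a b ⟨x, hx⟩ ⟨y, hy⟩
    exact ⟨x + y, by rw [Subgroup.coe_mul, hx, hy, P.z_mul]⟩
  inv_mem' := by
    rintro a ⟨x, hx⟩
    exact ⟨x, by rw [Subgroup.coe_inv, hx, P.z_inv]⟩

theorem mem_Zs {g : P.T} : g ∈ P.Zs ↔ ∃ b, (g : G) = P.p 0 b := Iff.rfl

instance Zs_normal : (P.Zs).Normal := ⟨by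
  rintro n ⟨b, hb⟩ g
  refine ⟨b, ?_⟩
  rw [Subgroup.coe_mul, Subgroup.coe_mul, hb, Subgroup.coe_inv, P.T_Z g g.2, mul_assoc,
    mul_inv_cancel, mul_one]⟩

theorem quot_sq (x : P.T ⧸ P.Zs) : x * x = 1 := by
  obtain ⟨g, rfl⟩ := QuotientGroup.mk_surjective x
  rw [← QuotientGroup.mk_mul, QuotientGroup.eq_one_iff]
  exact P.exists_sq g.2

/-- an additive function on `P`, trivial on `Z`, extends to `T`. -/
theorem exists_ext_T {E : Type*} [AddCommGroup E] (hE : ∀ x : E, x + x = 0) (g : G → E)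
    (hg : ∀ x ∈ P.PP, ∀ y ∈ P.PP, g (x * y) = g x + g y) (hz : ∀ b, g (P.p 0 b) = 0) :
    ∃ g' : G → E, (∀ x ∈ P.T, ∀ y ∈ P.T, g' (x * y) = g' x + g' y) ∧ ∀ x ∈ P.PP, g' x = g x := by
  classical
  let mk : P.T → P.T ⧸ P.Zs := QuotientGroup.mk
  -- `g` on the quotient
  let gq : P.T ⧸ P.Zs → E := fun y => if h : ∃ x : P.T, (x : G) ∈ P.PP ∧ mk x = y then g (h.choose : G) else 0
  have hgq : ∀ x : P.T, (x : G) ∈ P.PP → gq (mk x) = g (x : G) := by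
    intro x hx
    have h : ∃ x' : P.T, (x' : G) ∈ P.PP ∧ mk x' = mk x := ⟨x, hx, rfl⟩
    have h1 : gq (mk x) = g (h.choose : G) := dif_pos h
    rw [h1]
    obtain ⟨h2, h3⟩ := h.choose_spec
    set x' := h.choose with hx'
    have h4 : x'⁻¹ * x ∈ P.Zs := QuotientGroup.eq.mp h3
    obtain ⟨b, hb⟩ := h4
    have h5 : (x : G) = (x' : G) * P.p 0 b := by
      rw [← hb, Subgroup.coe_mul, Subgroup.coe_inv, mul_inv_cancel_left]
    rw [h5, hg _ h2 _ (P.p_mem 0 b), hz, add_zero]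
  obtain ⟨g', h1, h2⟩ := exists_ext hE P.quot_sq ((P.PP.subgroupOf P.T).map (QuotientGroup.mk' P.Zs)) gq (by
    rintro _ ⟨x, hx, rfl⟩ _ ⟨y, hy, rfl⟩
    have hx' : (x : G) ∈ P.PP := Subgroup.mem_subgroupOf.mp hx
    have hy' : (y : G) ∈ P.PP := Subgroup.mem_subgroupOf.mp hy
    rw [← map_mul]
    show gq (mk (x * y)) = gq (mk x) + gq (mk y)
    rw [hgq _ (by rw [Subgroup.coe_mul]; exact mul_mem hx' hy'), hgq _ hx', hgq _ hy', Subgroup.coe_mul,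
      hg _ hx' _ hy'])
  refine ⟨fun x => if h : x ∈ P.T then g' (mk ⟨x, h⟩) else 0, ?_, ?_⟩
  · intro x hx y hy
    simp only
    rw [dif_pos hx, dif_pos hy, dif_pos (mul_mem hx hy), ← h1]
    rfl
  · intro x hx
    simp only
    have hxT : x ∈ P.T := P.PP_le hx
    rw [dif_pos hxT]
    have h3 := h2 (QuotientGroup.mk' P.Zs ⟨x, hxT⟩)
      ⟨⟨x, hxT⟩, Subgroup.mem_subgroupOf.mpr hx, rfl⟩
    exact h3.trans (hgq ⟨x, hxT⟩ hx)

omit [Finite G] [CharP F 2] in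
/-- conjugation by the torus -/
def cj (l : Fˣ) (x : G) : G := P.h l * x * (P.h l)⁻¹

omit [Finite G] [CharP F 2] in
theorem cj_mem (l : Fˣ) {x : G} (hx : x ∈ P.T) : P.cj l x ∈ P.T := P.h_T l x hx

omit [Finite G] [CharP F 2] in
theorem cj_mul (l : Fˣ) (x y : G) : P.cj l (x * y) = P.cj l x * P.cj l y := by
  unfold cj; group

omit [Finite G] [CharP F 2] in
theorem cj_cj (l k : Fˣ) {x : G} (hx : x ∈ P.T) : P.cj l (P.cj k x) = P.cj (l * k) x :=
  (P.h_mul l k x hx).symm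

omit [CharP F 2] in
theorem card_units_F [CharP F 2] [Fintype Fˣ] : (((Fintype.card Fˣ : ℕ)) : F) = 1 := by
  classical
  have h1 : Fintype.card Fˣ = Fintype.card F - 1 := by
    have e := Nat.card_units F
    rwa [Nat.card_eq_fintype_card, Nat.card_eq_fintype_card] at e
  have h2 : 1 ≤ Fintype.card F := Fintype.card_pos
  have h3 : ((Fintype.card F : ℕ) : F) = 0 := Nat.cast_card_eq_zero F
  have h4 : ((Fintype.card Fˣ : ℕ) : F) + 1 = 0 := by
    rw [← h3, h1, Nat.cast_sub h2, Nat.cast_one, sub_add_cancel]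
  rw [eq_neg_of_add_eq_zero_left h4, CharTwo.neg_eq]

/-- the image of `f` -/
def FR : AddSubgroup F where
  carrier := {y | ∃ r ∈ P.Q, P.f r = y}
  zero_mem' := ⟨1, one_mem _, P.f_one⟩
  add_mem' := by
    rintro _ _ ⟨r, hr, rfl⟩ ⟨s, hs, rfl⟩
    exact ⟨r * s, mul_mem hr hs, P.f_mul r hr s hs⟩
  neg_mem' := by
    rintro _ ⟨r, hr, rfl⟩
    exact ⟨r, hr, by rw [CharTwo.neg_eq]⟩

theorem mem_FR {y : F} : y ∈ P.FR ↔ ∃ r ∈ P.Q, P.f r = y := Iff.rfl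

theorem f_mem_FR {r : G} (hr : r ∈ P.Q) : P.f r ∈ P.FR := ⟨r, hr, rfl⟩

theorem exists_aC : ∃ aC : G → F, (∀ x ∈ P.T, ∀ y ∈ P.T, aC (x * y) = aC x + aC y) ∧
    (∀ x ∈ P.PP, aC x = P.aP x) ∧
    ∀ (l : Fˣ), ∀ x ∈ P.T, aC (P.h l * x * (P.h l)⁻¹) = l * aC x := by
  classical
  obtain ⟨a0, h1, h2⟩ := P.exists_ext_T (fun x : F => CharTwo.add_self_eq_zero x) P.aP
    (fun x hx y hy => P.aP_mul hx hy) (fun b => P.aP_p 0 b)
  refine ⟨fun x => ∑ l : Fˣ, ((l⁻¹ : Fˣ) : F) * a0 (P.cj l x), ?_, ?_, ?_⟩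
  · intro x hx y hy
    simp only
    rw [← Finset.sum_add_distrib]
    refine Finset.sum_congr rfl fun l _ => ?_
    rw [P.cj_mul, h1 _ (P.cj_mem l hx) _ (P.cj_mem l hy), mul_add]
  · intro x hx
    simp only
    have : ∀ l : Fˣ, ((l⁻¹ : Fˣ) : F) * a0 (P.cj l x) = P.aP x := fun l => by
      show ((l⁻¹ : Fˣ) : F) * a0 (P.h l * x * (P.h l)⁻¹) = P.aP x
      rw [h2 _ (P.PP_h l hx)]
      rw [P.aP_h l hx, ← mul_assoc, Units.inv_mul, one_mul]
    rw [Finset.sum_congr rfl (fun l _ => this l), Finset.sum_const, Finset.card_univ,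
      nsmul_eq_mul, card_units_F, one_mul]
  · intro k x hx
    show ∑ l : Fˣ, ((l⁻¹ : Fˣ) : F) * a0 (P.cj l (P.cj k x)) =
      k * ∑ l : Fˣ, ((l⁻¹ : Fˣ) : F) * a0 (P.cj l x)
    rw [Finset.mul_sum]
    refine Fintype.sum_equiv (Equiv.mulRight k) _ _ fun l => ?_
    rw [P.cj_cj l k hx]
    show ((l⁻¹ : Fˣ) : F) * a0 (P.cj (l * k) x) =
      k * ((((l * k)⁻¹ : Fˣ) : F) * a0 (P.cj (l * k) x))
    rw [← mul_assoc, ← Units.val_mul]
    have : k * (l * k)⁻¹ = l⁻¹ := by rw [mul_inv]; rw [mul_comm l⁻¹, mul_inv_cancel_left]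
    rw [this]

theorem exists_fC : ∃ fC : G → F, (∀ x ∈ P.T, ∀ y ∈ P.T, fC (x * y) = fC x + fC y) ∧
    (∀ x ∈ P.PP, fC x = P.fP x) ∧
    (∀ (l : Fˣ), ∀ x ∈ P.T, fC (P.h l * x * (P.h l)⁻¹) = fC x) ∧ ∀ x, ∃ r ∈ P.Q, P.f r = fC x := by
  classical
  have hFR : ∀ x : P.FR, x + x = 0 := fun x => Subtype.ext (CharTwo.add_self_eq_zero (x : F))
  have hq : ∀ x, P.fP x ∈ P.FR := by
    intro x
    by_cases hx : x ∈ P.PP
    · exact ⟨P.qP x, (P.qP_spec hx).1, rfl⟩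
    · refine ⟨1, one_mem _, ?_⟩
      unfold fP qP
      rw [dif_neg hx]
  obtain ⟨r0, h1, h2⟩ := P.exists_ext_T hFR (fun x => (⟨P.fP x, hq x⟩ : P.FR))
    (fun x hx y hy => Subtype.ext (P.fP_mul hx hy)) (fun b => Subtype.ext (P.fP_p 0 b))
  refine ⟨fun x => ((∑ l : Fˣ, r0 (P.cj l x) : P.FR) : F), ?_, ?_, ?_, fun x => ?_⟩
  · intro x hx y hy
    simp only
    rw [← AddSubgroup.coe_add, ← Finset.sum_add_distrib]
    congr 1
    refine Finset.sum_congr rfl fun l _ => ?_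
    rw [P.cj_mul, h1 _ (P.cj_mem l hx) _ (P.cj_mem l hy)]
  · intro x hx
    simp only
    have : ∀ l : Fˣ, r0 (P.cj l x) = ⟨P.fP x, hq x⟩ := fun l => by
      show r0 (P.h l * x * (P.h l)⁻¹) = ⟨P.fP x, hq x⟩
      rw [h2 _ (P.PP_h l hx)]
      exact Subtype.ext (P.fP_h l hx)
    rw [Finset.sum_congr rfl (fun l _ => this l), Finset.sum_const, Finset.card_univ]
    rw [AddSubgroup.coe_nsmul, nsmul_eq_mul, card_units_F, one_mul]
  · intro k x hx
    show ((∑ l : Fˣ, r0 (P.cj l (P.cj k x)) : P.FR) : F) = ((∑ l : Fˣ, r0 (P.cj l x) : P.FR) : F)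
    congr 1
    refine Fintype.sum_equiv (Equiv.mulRight k) _ _ fun l => ?_
    rw [P.cj_cj l k hx]; rfl
  · exact P.mem_FR.mp (∑ l : Fˣ, r0 (P.cj l x) : P.FR).2

/-- the `A`-coordinate on `T` -/
noncomputable def aC : G → F := P.exists_aC.choose

theorem aC_mul {x y : G} (hx : x ∈ P.T) (hy : y ∈ P.T) : P.aC (x * y) = P.aC x + P.aC y :=
  P.exists_aC.choose_spec.1 x hx y hy

theorem aC_PP {x : G} (hx : x ∈ P.PP) : P.aC x = P.aP x := P.exists_aC.choose_spec.2.1 x hx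

theorem aC_h (l : Fˣ) {x : G} (hx : x ∈ P.T) : P.aC (P.h l * x * (P.h l)⁻¹) = l * P.aC x :=
  P.exists_aC.choose_spec.2.2 l x hx

/-- the `Q`-coordinate on `T` -/
noncomputable def fC : G → F := P.exists_fC.choose

theorem fC_mul {x y : G} (hx : x ∈ P.T) (hy : y ∈ P.T) : P.fC (x * y) = P.fC x + P.fC y :=
  P.exists_fC.choose_spec.1 x hx y hy

theorem fC_PP {x : G} (hx : x ∈ P.PP) : P.fC x = P.fP x := P.exists_fC.choose_spec.2.1 x hx

theorem fC_h (l : Fˣ) {x : G} (hx : x ∈ P.T) : P.fC (P.h l * x * (P.h l)⁻¹) = P.fC x :=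
  P.exists_fC.choose_spec.2.2.1 l x hx

theorem fC_FR (x : G) : P.fC x ∈ P.FR := P.exists_fC.choose_spec.2.2.2 x

theorem aC_p (a b : F) : P.aC (P.p a b) = a := by rw [P.aC_PP (P.p_mem a b), P.aP_p]

theorem aC_Q {r : G} (hr : r ∈ P.Q) : P.aC r = 0 := by rw [P.aC_PP (P.Q_le hr), P.aP_Q hr]

theorem fC_p (a b : F) : P.fC (P.p a b) = 0 := by rw [P.fC_PP (P.p_mem a b), P.fP_p]

theorem fC_Q {r : G} (hr : r ∈ P.Q) : P.fC r = P.f r := by rw [P.fC_PP (P.Q_le hr), P.fP_Q hr]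

theorem act_p (a b : F) : P.act (P.p a b) = 0 := (P.p_mem a b).2

theorem act_Q {r : G} (hr : r ∈ P.Q) : P.act r = 0 := (P.Q_le hr).2

theorem aC_one : P.aC 1 = 0 := by rw [← P.p_zero, P.aC_p]

theorem fC_one : P.fC 1 = 0 := by rw [← P.p_zero, P.fC_p]

theorem aC_inv {x : G} (hx : x ∈ P.T) : P.aC x⁻¹ = P.aC x := by
  have h1 := P.aC_mul (inv_mem hx) hx
  rw [inv_mul_cancel, P.aC_one] at h1
  rw [eq_neg_of_add_eq_zero_left h1.symm, CharTwo.neg_eq]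

theorem fC_inv {x : G} (hx : x ∈ P.T) : P.fC x⁻¹ = P.fC x := by
  have h1 := P.fC_mul (inv_mem hx) hx
  rw [inv_mul_cancel, P.fC_one] at h1
  rw [eq_neg_of_add_eq_zero_left h1.symm, CharTwo.neg_eq]

/-- the kernel of the coordinates -/
theorem eq_z_of {x : G} (hx : x ∈ P.T) (h1 : P.fC x = 0) (h2 : P.aC x = 0) (h3 : P.act x = 0) :
    ∃ b, x = P.p 0 b := by
  have h4 : x ∈ P.PP := ⟨hx, h3⟩
  rw [P.fC_PP h4] at h1
  rw [P.aC_PP h4] at h2
  exact P.eq_z h4 h2 h1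

theorem exists_z_mul {x y : G} (hx : x ∈ P.T) (hy : y ∈ P.T) (h1 : P.fC x = P.fC y) (h2 : P.aC x = P.aC y)
    (h3 : P.act x = P.act y) : ∃ b, x = P.p 0 b * y := by
  obtain ⟨b, hb⟩ := P.eq_z_of (mul_mem hx (inv_mem hy))
    (by rw [P.fC_mul hx (inv_mem hy), P.fC_inv hy, h1, CharTwo.add_self_eq_zero])
    (by rw [P.aC_mul hx (inv_mem hy), P.aC_inv hy, h2, CharTwo.add_self_eq_zero])
    (by rw [P.act_mul hx (inv_mem hy), P.act_inv hy, h3, CharTwo.add_self_eq_zero])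
  exact ⟨b, mul_inv_eq_iff_eq_mul.mp hb⟩

/-- surjectivity of the coordinates -/
theorem exists_el {r : F} (hr : r ∈ P.FR) (a c : F) : ∃ x ∈ P.T, P.fC x = r ∧ P.aC x = a ∧ P.act x = c := by
  obtain ⟨r1, hr1, rfl⟩ := hr
  obtain ⟨s, hs, hs2⟩ := P.fC_FR (P.xc c)
  have h1 : P.xc c ∈ P.T := P.xc_mem c
  have h2 : r1 * s ∈ P.Q := mul_mem hr1 hs
  have h2' : r1 * s ∈ P.T := P.T_Q h2
  have h3 : P.p (a + P.aC (P.xc c)) 0 ∈ P.T := P.T_p _ _
  refine ⟨P.xc c * (r1 * s) * P.p (a + P.aC (P.xc c)) 0, mul_mem (mul_mem h1 h2') h3, ?_, ?_, ?_⟩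
  · rw [P.fC_mul (mul_mem h1 h2') h3, P.fC_mul h1 h2', P.fC_p, P.fC_Q h2, P.f_mul r1 hr1 s hs, ← hs2, add_zero,
      add_comm (P.f r1), ← add_assoc, CharTwo.add_self_eq_zero, zero_add]
  · rw [P.aC_mul (mul_mem h1 h2') h3, P.aC_mul h1 h2', P.aC_p, P.aC_Q h2, add_zero, add_comm a, ← add_assoc,
      CharTwo.add_self_eq_zero, zero_add]
  · rw [P.act_mul (mul_mem h1 h2') h3, P.act_mul h1 h2', P.act_p, P.act_Q h2, add_zero, add_zero, P.act_xc]

/-! ### squares and commutators -/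

/-- `x * x = p 0 (sq x)` -/
noncomputable def sq (x : G) : F := by
  classical exact if h : x ∈ P.T then (P.exists_sq h).choose else 0

theorem sq_spec {x : G} (hx : x ∈ P.T) : x * x = P.p 0 (P.sq x) := by
  classical
  have : P.sq x = (P.exists_sq hx).choose := by unfold sq; exact dif_pos hx
  rw [this]
  exact (P.exists_sq hx).choose_spec

theorem sq_eq {x : G} (hx : x ∈ P.T) {b : F} (h : x * x = P.p 0 b) : P.sq x = b :=
  P.z_inj (by rw [← P.sq_spec hx, h])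

/-- the commutator form -/
noncomputable def cm (x y : G) : F := P.sq (x * y) + P.sq x + P.sq y

theorem cm_spec {x y : G} (hx : x ∈ P.T) (hy : y ∈ P.T) : x * y = P.p 0 (P.cm x y) * (y * x) := by
  obtain ⟨b, hb⟩ := P.exists_comm hx hy
  have h1 : x * y * (x * y) = P.p 0 (b + P.sq y + P.sq x) := by
    calc x * y * (x * y) = x * (y * x) * y := by group
      _ = x * (P.p 0 b * (P.p 0 b * (y * x))) * y := by
        rw [← mul_assoc (P.p 0 b) (P.p 0 b), P.z_self, one_mul]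
      _ = x * (P.p 0 b * (x * y)) * y := by rw [← hb]
      _ = (x * P.p 0 b) * x * (y * y) := by group
      _ = P.p 0 b * (x * x) * (y * y) := by rw [P.T_Z x hx]; group
      _ = _ := by rw [P.sq_spec hx, P.sq_spec hy, P.z_mul, P.z_mul]; congr 1; ring
  have h2 : P.cm x y = b := by
    unfold cm
    rw [P.sq_eq (mul_mem hx hy) h1]
    have : b + P.sq y + P.sq x + P.sq x + P.sq y = b + (P.sq x + P.sq x) + (P.sq y + P.sq y) := by ring
    rw [this, CharTwo.add_self_eq_zero, CharTwo.add_self_eq_zero, add_zero, add_zero]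
  rw [h2]; exact hb

theorem cm_eq {x y : G} (hx : x ∈ P.T) (hy : y ∈ P.T) {b : F} (h : x * y = P.p 0 b * (y * x)) : P.cm x y = b := by
  have h1 := P.cm_spec hx hy
  rw [h] at h1
  exact (P.z_inj (mul_right_cancel h1)).symm

theorem cm_comm {x y : G} (hx : x ∈ P.T) (hy : y ∈ P.T) : P.cm x y = P.cm y x := by
  apply P.cm_eq hx hy
  have := P.cm_spec hy hx
  rw [this, ← mul_assoc, P.z_self, one_mul]

theorem cm_self {x : G} (hx : x ∈ P.T) : P.cm x x = 0 := by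
  apply P.cm_eq hx hx
  rw [P.p_zero, one_mul]

theorem cm_mul_left {x x' y : G} (hx : x ∈ P.T) (hx' : x' ∈ P.T) (hy : y ∈ P.T) :
    P.cm (x * x') y = P.cm x y + P.cm x' y := by
  apply P.cm_eq (mul_mem hx hx') hy
  calc x * x' * y = x * (x' * y) := by group
    _ = x * (P.p 0 (P.cm x' y) * (y * x')) := by rw [← P.cm_spec hx' hy]
    _ = (x * P.p 0 (P.cm x' y)) * y * x' := by group
    _ = P.p 0 (P.cm x' y) * (x * y) * x' := by rw [P.T_Z x hx]; group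
    _ = P.p 0 (P.cm x' y) * (P.p 0 (P.cm x y) * (y * x)) * x' := by rw [← P.cm_spec hx hy]
    _ = (P.p 0 (P.cm x' y) * P.p 0 (P.cm x y)) * (y * (x * x')) := by group
    _ = _ := by rw [P.z_mul, add_comm (P.cm x' y)]

theorem cm_mul_right {x y y' : G} (hx : x ∈ P.T) (hy : y ∈ P.T) (hy' : y' ∈ P.T) :
    P.cm x (y * y') = P.cm x y + P.cm x y' := by
  rw [P.cm_comm hx (mul_mem hy hy'), P.cm_mul_left hy hy' hx, P.cm_comm hy hx, P.cm_comm hy' hx]

theorem sq_mul (x y : G) : P.sq (x * y) = P.sq x + P.sq y + P.cm x y := by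
  unfold cm
  have : P.sq x + P.sq y + (P.sq (x * y) + P.sq x + P.sq y) =
      P.sq (x * y) + (P.sq x + P.sq x) + (P.sq y + P.sq y) := by ring
  rw [this, CharTwo.add_self_eq_zero, CharTwo.add_self_eq_zero, add_zero, add_zero]

theorem sq_p (a b : F) : P.sq (P.p a b) = a ^ (1 + 2 ^ (m + 1)) := P.sq_eq (P.T_p a b) (P.p_sq a b)

theorem sq_Q {r : G} (hr : r ∈ P.Q) : P.sq r = 0 := by
  apply P.sq_eq (P.T_Q hr)
  rw [P.Q_sq r hr, P.p_zero]

theorem cm_z_left (b : F) {x : G} (hx : x ∈ P.T) : P.cm (P.p 0 b) x = 0 := by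
  apply P.cm_eq (P.T_p 0 b) hx
  rw [P.p_zero, one_mul, P.T_Z x hx]

theorem sq_z (b : F) : P.sq (P.p 0 b) = 0 := by
  rw [P.sq_p, zero_pow (by positivity)]

/-- `sq` depends only on the coordinates -/
theorem sq_congr {x y : G} (hx : x ∈ P.T) (hy : y ∈ P.T) (h1 : P.fC x = P.fC y) (h2 : P.aC x = P.aC y)
    (h3 : P.act x = P.act y) : P.sq x = P.sq y := by
  obtain ⟨b, rfl⟩ := P.exists_z_mul hx hy h1 h2 h3
  rw [P.sq_mul, P.sq_z, P.cm_z_left b hy, add_zero, zero_add]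

theorem cm_congr {x y x' y' : G} (hx : x ∈ P.T) (hy : y ∈ P.T) (hx' : x' ∈ P.T) (hy' : y' ∈ P.T)
    (h1 : P.fC x = P.fC x') (h2 : P.aC x = P.aC x') (h3 : P.act x = P.act x')
    (h4 : P.fC y = P.fC y') (h5 : P.aC y = P.aC y') (h6 : P.act y = P.act y') : P.cm x y = P.cm x' y' := by
  unfold cm
  rw [P.sq_congr hx hx' h1 h2 h3, P.sq_congr hy hy' h4 h5 h6,
    P.sq_congr (mul_mem hx hy) (mul_mem hx' hy') (by rw [P.fC_mul hx hy, P.fC_mul hx' hy', h1, h4])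
      (by rw [P.aC_mul hx hy, P.aC_mul hx' hy', h2, h5]) (by rw [P.act_mul hx hy, P.act_mul hx' hy', h3, h6])]

theorem sq_h (l : Fˣ) {x : G} (hx : x ∈ P.T) :
    P.sq (P.h l * x * (P.h l)⁻¹) = (l : F) ^ (1 + 2 ^ (m + 1)) * P.sq x := by
  apply P.sq_eq (P.h_T l x hx)
  have : P.h l * x * (P.h l)⁻¹ * (P.h l * x * (P.h l)⁻¹) = P.h l * (x * x) * (P.h l)⁻¹ := by group
  rw [this, P.sq_spec hx, P.h_p, mul_zero]

theorem cm_h (l : Fˣ) {x y : G} (hx : x ∈ P.T) (hy : y ∈ P.T) :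
    P.cm (P.h l * x * (P.h l)⁻¹) (P.h l * y * (P.h l)⁻¹) = (l : F) ^ (1 + 2 ^ (m + 1)) * P.cm x y := by
  unfold cm
  have : P.h l * x * (P.h l)⁻¹ * (P.h l * y * (P.h l)⁻¹) = P.h l * (x * y) * (P.h l)⁻¹ := by group
  rw [this, P.sq_h l hx, P.sq_h l hy, P.sq_h l (mul_mem hx hy)]
  ring

/-- the elements `e_c` -/
noncomputable def ee (c : F) : G := (P.exists_el P.FR.zero_mem 0 c).choose

theorem ee_mem (c : F) : P.ee c ∈ P.T := (P.exists_el P.FR.zero_mem 0 c).choose_spec.1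
theorem fC_ee (c : F) : P.fC (P.ee c) = 0 := (P.exists_el P.FR.zero_mem 0 c).choose_spec.2.1
theorem aC_ee (c : F) : P.aC (P.ee c) = 0 := (P.exists_el P.FR.zero_mem 0 c).choose_spec.2.2.1
theorem act_ee (c : F) : P.act (P.ee c) = c := (P.exists_el P.FR.zero_mem 0 c).choose_spec.2.2.2

include P in
theorem scal {l : F} (hl : l ≠ 0) : ∃ k : Fˣ, (k : F) ^ (1 + 2 ^ (m + 1)) = l :=
  ⟨Units.mk0 _ (pow_ne_zero (2 ^ (m + 1) - 1) hl), norm_surj P.hF l⟩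

theorem exists_s : ∃ s : F, ∀ c, P.sq (P.ee c) = s * c ∧ ∀ d, P.cm (P.ee c) (P.ee d) = 0 := by
  have hm := P.hm
  have hF := P.hF
  have f0 : ∀ c, P.fC (P.ee c) = 0 := P.fC_ee
  have hf0 : ∀ u v, P.cm (P.ee u) (P.ee v) = 0 := by
    apply alternating_same (by omega) hF (fun u v => P.cm (P.ee u) (P.ee v))
    · intro x x' y
      show P.cm _ _ = P.cm _ _ + P.cm _ _
      rw [← P.cm_mul_left (P.ee_mem _) (P.ee_mem _) (P.ee_mem _)]
      apply P.cm_congr (P.ee_mem _) (P.ee_mem _) (mul_mem (P.ee_mem _) (P.ee_mem _)) (P.ee_mem _) _ _ _ rfl rfl rfl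
      · rw [P.fC_mul (P.ee_mem _) (P.ee_mem _), f0, f0, f0, add_zero]
      · rw [P.aC_mul (P.ee_mem _) (P.ee_mem _), P.aC_ee, P.aC_ee, P.aC_ee, add_zero]
      · rw [P.act_mul (P.ee_mem _) (P.ee_mem _), P.act_ee, P.act_ee, P.act_ee]
    · intro x y y'
      show P.cm _ _ = P.cm _ _ + P.cm _ _
      rw [← P.cm_mul_right (P.ee_mem _) (P.ee_mem _) (P.ee_mem _)]
      apply P.cm_congr (P.ee_mem _) (P.ee_mem _) (P.ee_mem _) (mul_mem (P.ee_mem _) (P.ee_mem _)) rfl rfl rfl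
      · rw [P.fC_mul (P.ee_mem _) (P.ee_mem _), f0, f0, f0, add_zero]
      · rw [P.aC_mul (P.ee_mem _) (P.ee_mem _), P.aC_ee, P.aC_ee, P.aC_ee, add_zero]
      · rw [P.act_mul (P.ee_mem _) (P.ee_mem _), P.act_ee, P.act_ee, P.act_ee]
    · intro l x y hl
      obtain ⟨k, hk⟩ := P.scal hl
      show P.cm _ _ = _ * P.cm _ _
      rw [← hk, ← P.cm_h k (P.ee_mem _) (P.ee_mem _)]
      apply P.cm_congr (P.ee_mem _) (P.ee_mem _) (P.h_T _ _ (P.ee_mem _)) (P.h_T _ _ (P.ee_mem _))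
      · rw [P.fC_h k (P.ee_mem _), f0, f0]
      · rw [P.aC_h k (P.ee_mem _), P.aC_ee, P.aC_ee, mul_zero]
      · rw [P.act_h k (P.ee_mem _), P.act_ee, P.act_ee]
      · rw [P.fC_h k (P.ee_mem _), f0, f0]
      · rw [P.aC_h k (P.ee_mem _), P.aC_ee, P.aC_ee, mul_zero]
      · rw [P.act_h k (P.ee_mem _), P.act_ee, P.act_ee]
    · intro x
      exact P.cm_self (P.ee_mem _)
  have hadd : ∀ u v, P.sq (P.ee (u + v)) = P.sq (P.ee u) + P.sq (P.ee v) := by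
    intro u v
    rw [P.sq_congr (P.ee_mem _) (mul_mem (P.ee_mem u) (P.ee_mem v))
      (by rw [P.fC_mul (P.ee_mem _) (P.ee_mem _), f0, f0, f0, add_zero])
      (by rw [P.aC_mul (P.ee_mem _) (P.ee_mem _), P.aC_ee, P.aC_ee, P.aC_ee, add_zero])
      (by rw [P.act_mul (P.ee_mem _) (P.ee_mem _), P.act_ee, P.act_ee, P.act_ee]),
      P.sq_mul, hf0, add_zero]
  refine ⟨P.sq (P.ee 1), fun u => ⟨?_, fun v => hf0 u v⟩⟩
  rcases eq_or_ne u 0 with rfl | hu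
  · rw [mul_zero]
    have h1 := hadd 0 0
    rw [add_zero, CharTwo.add_self_eq_zero] at h1
    exact h1
  · obtain ⟨k, hk⟩ := P.scal hu
    have h1 := P.sq_h k (P.ee_mem 1)
    rw [hk] at h1
    rw [mul_comm, ← h1]
    apply P.sq_congr (P.ee_mem _) (P.h_T _ _ (P.ee_mem _))
    · rw [P.fC_h k (P.ee_mem _), f0, f0]
    · rw [P.aC_h k (P.ee_mem _), P.aC_ee, P.aC_ee, mul_zero]
    · rw [P.act_h k (P.ee_mem _), P.act_ee, P.act_ee, hk, mul_one]

theorem exists_lam : ∃ d : F, ∀ a c, P.cm (P.p a 0) (P.ee c) = d * (a * c) ^ (2 ^ m) := by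
  have hm := P.hm
  have hF := P.hF
  apply pairing_122 (by omega) hF (fun a c => P.cm (P.p a 0) (P.ee c))
  · intro a a' c
    show P.cm _ _ = P.cm _ _ + P.cm _ _
    rw [← P.cm_mul_left (P.T_p _ _) (P.T_p _ _) (P.ee_mem _)]
    apply P.cm_congr (P.T_p _ _) (P.ee_mem _) (mul_mem (P.T_p _ _) (P.T_p _ _)) (P.ee_mem _) _ _ _ rfl rfl rfl
    · rw [P.fC_mul (P.T_p _ _) (P.T_p _ _), P.fC_p, P.fC_p, P.fC_p, add_zero]
    · rw [P.aC_mul (P.T_p _ _) (P.T_p _ _), P.aC_p, P.aC_p, P.aC_p]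
    · rw [P.act_mul (P.T_p _ _) (P.T_p _ _), P.act_p, P.act_p, P.act_p, add_zero]
  · intro a c c'
    show P.cm _ _ = P.cm _ _ + P.cm _ _
    rw [← P.cm_mul_right (P.T_p _ _) (P.ee_mem _) (P.ee_mem _)]
    apply P.cm_congr (P.T_p _ _) (P.ee_mem _) (P.T_p _ _) (mul_mem (P.ee_mem _) (P.ee_mem _)) rfl rfl rfl
    · rw [P.fC_mul (P.ee_mem _) (P.ee_mem _), P.fC_ee, P.fC_ee, P.fC_ee, add_zero]
    · rw [P.aC_mul (P.ee_mem _) (P.ee_mem _), P.aC_ee, P.aC_ee, P.aC_ee, add_zero]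
    · rw [P.act_mul (P.ee_mem _) (P.ee_mem _), P.act_ee, P.act_ee, P.act_ee]
  · intro l a c hl
    show P.cm _ _ = _ * P.cm _ _
    have h1 := P.cm_h (Units.mk0 l hl) (P.T_p a 0) (P.ee_mem c)
    rw [Units.val_mk0] at h1
    rw [← h1]
    apply P.cm_congr (P.T_p _ _) (P.ee_mem _) (P.h_T _ _ (P.T_p _ _)) (P.h_T _ _ (P.ee_mem _))
    · rw [P.fC_h _ (P.T_p _ _), P.fC_p, P.fC_p]
    · rw [P.aC_h _ (P.T_p _ _), P.aC_p, P.aC_p, Units.val_mk0]
    · rw [P.act_h _ (P.T_p _ _), P.act_p, P.act_p, mul_zero]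
    · rw [P.fC_h _ (P.ee_mem _), P.fC_ee, P.fC_ee]
    · rw [P.aC_h _ (P.ee_mem _), P.aC_ee, P.aC_ee, mul_zero]
    · rw [P.act_h _ (P.ee_mem _), P.act_ee, P.act_ee, Units.val_mk0]

/-- the constant `s` -/
noncomputable def s : F := P.exists_s.choose

/-- the constant `λ` -/
noncomputable def lam : F := P.exists_lam.choose

theorem sq_ee (c : F) : P.sq (P.ee c) = P.s * c := (P.exists_s.choose_spec c).1

theorem cm_ee_ee (c d : F) : P.cm (P.ee c) (P.ee d) = 0 := (P.exists_s.choose_spec c).2 d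

theorem cm_p_ee (a c : F) : P.cm (P.p a 0) (P.ee c) = P.lam * (a * c) ^ (2 ^ m) := P.exists_lam.choose_spec a c

theorem cm_Q {r x : G} (hr : r ∈ P.Q) (hx : x ∈ P.T) : P.cm r x = P.act x * P.f r := by
  rw [P.cm_comm (P.T_Q hr) hx]
  apply P.cm_eq hx (P.T_Q hr)
  have h1 := P.T_act x hx r hr
  rw [mul_inv_eq_iff_eq_mul] at h1
  rw [h1, P.T_Z r (P.T_Q hr), mul_assoc]

/-- the quadratic form -/
def qf (m : ℕ) (s lam : F) (r a c : F) : F := a ^ (1 + 2 ^ (m + 1)) + s * c + c * r + lam * (a * c) ^ (2 ^ m)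

/-- its polarization -/
def bf (m : ℕ) (lam : F) (r a c r' a' c' : F) : F :=
  a * a' ^ (2 ^ (m + 1)) + a ^ (2 ^ (m + 1)) * a' + (c * r' + c' * r) +
    (lam * (a * c') ^ (2 ^ m) + lam * (a' * c) ^ (2 ^ m))

theorem sq_crd {x : G} (hx : x ∈ P.T) : P.sq x = qf m P.s P.lam (P.fC x) (P.aC x) (P.act x) := by
  obtain ⟨r, hr, hr2⟩ := P.fC_FR x
  have h1 : P.p (P.aC x) 0 ∈ P.T := P.T_p _ _
  have h2 := P.ee_mem (P.act x)
  have h3 : r ∈ P.T := P.T_Q hr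
  rw [P.sq_congr hx (mul_mem h3 (mul_mem h1 h2))
    (by rw [P.fC_mul h3 (mul_mem h1 h2), P.fC_mul h1 h2, P.fC_p, P.fC_ee, P.fC_Q hr, hr2, add_zero, add_zero])
    (by rw [P.aC_mul h3 (mul_mem h1 h2), P.aC_mul h1 h2, P.aC_p, P.aC_ee, P.aC_Q hr, add_zero, zero_add])
    (by rw [P.act_mul h3 (mul_mem h1 h2), P.act_mul h1 h2, P.act_p, P.act_ee, P.act_Q hr, zero_add, zero_add])]
  rw [P.sq_mul, P.sq_mul, P.sq_Q hr, P.sq_p, P.sq_ee, P.cm_p_ee, P.cm_Q hr (mul_mem h1 h2), P.act_mul h1 h2,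
    P.act_p, P.act_ee, hr2]
  unfold qf
  ring

theorem cm_crd {x y : G} (hx : x ∈ P.T) (hy : y ∈ P.T) :
    P.cm x y = bf m P.lam (P.fC x) (P.aC x) (P.act x) (P.fC y) (P.aC y) (P.act y) := by
  have h1 : P.cm x y = P.sq (x * y) + P.sq x + P.sq y := rfl
  rw [h1, P.sq_crd (mul_mem hx hy), P.sq_crd hx, P.sq_crd hy, P.fC_mul hx hy, P.aC_mul hx hy, P.act_mul hx hy]
  unfold qf bf
  have e1 : ∀ a b : F, (a + b) ^ (1 + 2 ^ (m + 1)) = a ^ (1 + 2 ^ (m + 1)) + b ^ (1 + 2 ^ (m + 1)) +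
      (a * b ^ (2 ^ (m + 1)) + a ^ (2 ^ (m + 1)) * b) := by
    intro a b
    rw [_root_.pow_add (a + b) 1, _root_.pow_add a 1, _root_.pow_add b 1, add_pow_char_pow a b 2 (m + 1)]
    ring
  have e2 : ((P.aC x + P.aC y) * (P.act x + P.act y)) ^ (2 ^ m) =
      (P.aC x * P.act x) ^ (2 ^ m) + (P.aC y * P.act y) ^ (2 ^ m) +
      ((P.aC x * P.act y) ^ (2 ^ m) + (P.aC y * P.act x) ^ (2 ^ m)) := by
    have : (P.aC x + P.aC y) * (P.act x + P.act y) =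
      ((P.aC x * P.act x) + (P.aC y * P.act y)) + ((P.aC x * P.act y) + (P.aC y * P.act x)) := by ring
    rw [this, add_pow_char_pow _ _ 2 m, add_pow_char_pow _ _ 2 m, add_pow_char_pow _ _ 2 m]
  rw [e1, e2]
  have h2 : (2 : F) = 0 := CharTwo.two_eq_zero
  linear_combination (P.aC x ^ (1 + 2 ^ (m + 1)) + P.aC y ^ (1 + 2 ^ (m + 1)) + P.s * P.act x + P.s * P.act y
    + P.act x * P.fC x + P.act y * P.fC y + P.lam * (P.aC x * P.act x) ^ (2 ^ m)
    + P.lam * (P.aC y * P.act y) ^ (2 ^ m)) * h2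

/-- the centre of `T` is `Z` -/
theorem mem_Z_of_central {x : G} (hx : x ∈ P.T) (h : ∀ y ∈ P.T, x * y = y * x) : ∃ b, x = P.p 0 b := by
  have h0 : ∀ y ∈ P.T, P.cm x y = 0 := by
    intro y hy
    apply P.cm_eq hx hy
    rw [P.p_zero, one_mul, h y hy]
  obtain ⟨r, hr, hr1⟩ := P.Q_ne
  have hfr : P.f r ≠ 0 := fun h0 => hr1 (P.f_inj r hr h0)
  have h1 : P.act x = 0 := by
    have h2 := h0 r (P.T_Q hr)
    rw [P.cm_comm hx (P.T_Q hr), P.cm_Q hr hx] at h2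
    exact (mul_eq_zero.mp h2).resolve_right hfr
  have h2 : ∀ a : F, P.aC x * a ^ (2 ^ (m + 1)) + P.aC x ^ (2 ^ (m + 1)) * a = 0 := by
    intro a
    have h3 := h0 (P.p a 0) (P.T_p a 0)
    rw [P.cm_crd hx (P.T_p a 0), P.fC_p, P.aC_p, P.act_p, h1] at h3
    unfold bf at h3
    simpa using h3
  have h3 : P.aC x = 0 := by
    by_contra ha
    obtain ⟨g, hg0, hg, -⟩ := exists_gen P.hF
    have e1 := h2 1
    rw [one_pow, mul_one, mul_one] at e1
    have e2 := h2 g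
    have e3 : P.aC x ^ (2 ^ (m + 1)) = P.aC x := by
      have := eq_neg_of_add_eq_zero_right e1
      rwa [CharTwo.neg_eq] at this
    rw [e3, ← mul_add] at e2
    have e4 := (mul_eq_zero.mp e2).resolve_left ha
    have e5 : g ^ (2 ^ (m + 1)) = g := by
      have := eq_neg_of_add_eq_zero_left e4
      rwa [CharTwo.neg_eq] at this
    rcases Cfsg.Agent.StdSz.FormAlg.eq_of_th_eq P.hF e5 with e6 | e6
    · exact hg0 e6
    · have e7 : g ^ 1 = g ^ 0 := by rw [pow_one, pow_zero, e6]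
      rw [hg] at e7
      have hm := P.hm
      have h4 : 2 ^ 3 ≤ 2 ^ (2 * m + 1) := Nat.pow_le_pow_right (by norm_num) (by omega)
      have := Nat.ModEq.eq_of_lt_of_lt e7 (by omega) (by omega)
      omega
  have h4 : P.fC x = 0 := by
    have h5 := h0 (P.ee 1) (P.ee_mem 1)
    rw [P.cm_crd hx (P.ee_mem 1), P.fC_ee, P.aC_ee, P.act_ee, h1, h3] at h5
    unfold bf at h5
    simpa using h5
  exact P.eq_z_of hx h4 h3 h1

end Pre

end Cfsg.Agent.OddHalf.D4.Sz
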