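import Cfsg.Agent.OddHalf.D4.Sz.MvDef

/-!
# ODD, D4, `K = Sz(q)`, `q ≥ 32`, case (b): the members

`g ∈ N(T) - N(K)`, `Q ^ g ≤ Q Z`: `Q` is elementary abelian, `Q ^ g = {r * p 0 (f r)}`, `Z# ∩ C(K ^ x) = 1` for all `x`, and
for `x ∈ N(T)`, `Q ^ x = {r * p 0 (c * f r)}` for some `c ∈ F`.
-/

set_option autoImplicit false
set_option linter.unusedSectionVars false

namespace Cfsg.Agent.OddHalf.D4.Sz

open Subgroup Cfsg.Agent.OddHalf.D4 Cfsg.Agent.OddHalf.D4.Basic Cfsg.Agent.OddHalf.D4.Sz.PairDefs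
open Cfsg.Agent.OddHalf.D4.CommConj (cj mem_cj cj_mul card_cj cj_eq_of_mem_normalizer mem_normalizer_of_cj_eq
  mem_cj_mul)
open Cfsg.Agent.TwoFusion.StronglyEmbeddedBasic (orderOf_eq_two_of_mul_self)

/-- the form of a commutator of `S_K` is nondegenerate -/
theorem form_zero {F : Type*} [Field F] [Fintype F] [CharP F 2] {m : ℕ} (hm : 2 ≤ m)
    (hF : Fintype.card F = 2 ^ (2 * m + 1)) {a : F}
    (h : ∀ c : F, a ^ (2 ^ (m + 1)) * c + c ^ (2 ^ (m + 1)) * a = 0) : a = 0 := by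
  by_contra ha
  obtain ⟨g, hg0, hg, -⟩ := Cfsg.Agent.StdSz.EquivMaps.exists_gen hF
  have e1 := h (a * g)
  have e2 : a ^ (1 + 2 ^ (m + 1)) * (g ^ (2 ^ (m + 1)) + g) = 0 := by rw [← e1]; ring
  have e3 := (mul_eq_zero.mp e2).resolve_left (pow_ne_zero _ ha)
  have e5 : g ^ (2 ^ (m + 1)) = g := by
    have := eq_neg_of_add_eq_zero_left e3
    rwa [CharTwo.neg_eq] at this
  rcases Cfsg.Agent.StdSz.FormAlg.eq_of_th_eq hF e5 with e6 | e6
  · exact hg0 e6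
  · have e7 : g ^ 1 = g ^ 0 := by rw [pow_one, pow_zero, e6]
    rw [hg] at e7
    have h4 : 2 ^ 3 ≤ 2 ^ (2 * m + 1) := Nat.pow_le_pow_right (by norm_num) (by omega)
    have := Nat.ModEq.eq_of_lt_of_lt e7 (by omega) (by omega)
    omega

variable {G : Type*} [Group G] {F : Type*} [Field F] [Fintype F] {m : ℕ} {K : Subgroup G}
  {D : KFr F m K} {Q T : Subgroup G} {g : G}

variable (D Q T g) in
/-- case (b): `Q ^ g ≤ Q Z` -/
structure CaseB : Prop extends Mv D Q T g where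
  cB : ∀ r ∈ Q, ∃ s ∈ Q, ∃ b, g * r * g⁻¹ = s * D.p 0 b

namespace Mv

variable [Finite G] [CharP F 2]

/-- `Q ∩ Q ^ g = 1` -/
theorem eq_one (M : Mv D Q T g) {x : G} (hx : x ∈ Q) (hgx : g * x * g⁻¹ ∈ Q) : x = 1 := by
  by_contra hx1
  obtain ⟨n, hn⟩ := CommConj.exists_pow_involution M.base.sylQ.two hx hx1
  apply M.gM
  refine M.tight.tight g (x ^ n) (M.base.sylQ.le (pow_mem hx n)) hn ?_
  rw [← conj_pow]
  exact pow_mem (M.base.sylQ.le hgx) n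

/-- the involutions of `Q`: elements commuting with them normalize `K` -/
theorem mem_norm (M : Mv D Q T g) {r x : G} (hr : r ∈ Q) (hr2 : r * r = 1) (hr1 : r ≠ 1) (hx : x * r = r * x) :
    x ∈ normalizer (K : Set G) :=
  M.tight.mem (M.base.sylQ.le hr) (orderOf_eq_two_of_mul_self hr2 hr1) hx

end Mv

namespace CaseB

variable [Finite G] [CharP F 2]

/-- `Q` is abelian -/
theorem comm_Q (M : CaseB D Q T g) {r s : G} (hr : r ∈ Q) (hs : s ∈ Q) : r * s = s * r := by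
  obtain ⟨r', hr', b, hb⟩ := M.cB r hr
  obtain ⟨s', hs', c, hc⟩ := M.cB s hs
  have h1 : g * (r * s * r⁻¹ * s⁻¹) * g⁻¹ = r' * s' * r'⁻¹ * s'⁻¹ := by
    calc g * (r * s * r⁻¹ * s⁻¹) * g⁻¹ = (g * r * g⁻¹) * (g * s * g⁻¹) * (g * r * g⁻¹)⁻¹ * (g * s * g⁻¹)⁻¹ := by
          group
      _ = (r' * D.p 0 b) * (s' * D.p 0 c) * (r' * D.p 0 b)⁻¹ * (s' * D.p 0 c)⁻¹ := by rw [hb, hc]
      _ = r' * (D.p 0 b * s') * (D.p 0 c * (D.p 0 b)⁻¹) * r'⁻¹ * ((D.p 0 c)⁻¹ * s'⁻¹) := by group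
      _ = r' * (s' * D.p 0 b) * (D.p 0 c * (D.p 0 b)⁻¹) * r'⁻¹ * (s'⁻¹ * (D.p 0 c)⁻¹) := by
          rw [← M.base.comm hs', D.z_inv c, ← M.base.comm (inv_mem hs')]
      _ = r' * s' * ((D.p 0 b * D.p 0 c) * (D.p 0 b)⁻¹) * r'⁻¹ * (s'⁻¹ * (D.p 0 c)⁻¹) := by group
      _ = r' * s' * ((D.p 0 c * D.p 0 b) * (D.p 0 b)⁻¹) * r'⁻¹ * (s'⁻¹ * (D.p 0 c)⁻¹) := by rw [D.z_comm b 0 c]
      _ = r' * s' * (D.p 0 c * (r'⁻¹ * s'⁻¹)) * (D.p 0 c)⁻¹ := by group
      _ = r' * s' * ((r'⁻¹ * s'⁻¹) * D.p 0 c) * (D.p 0 c)⁻¹ := by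
          rw [← M.base.comm (mul_mem (inv_mem hr') (inv_mem hs'))]
      _ = _ := by group
  have h2 := M.toMv.eq_one (mul_mem (mul_mem (mul_mem hr hs) (inv_mem hr)) (inv_mem hs))
    (by rw [h1]; exact mul_mem (mul_mem (mul_mem hr' hs') (inv_mem hr')) (inv_mem hs'))
  calc r * s = (r * s * r⁻¹ * s⁻¹) * (s * r) := by group
    _ = s * r := by rw [h2, one_mul]

/-- `Q` is elementary abelian -/
theorem sq_Q (M : CaseB D Q T g) {r : G} (hr : r ∈ Q) : r * r = 1 := by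
  obtain ⟨s, hs, b, hb⟩ := M.cB r hr
  apply M.toMv.eq_one (mul_mem hr hr)
  have h1 : g * (r * r) * g⁻¹ = s * s := by
    calc g * (r * r) * g⁻¹ = (g * r * g⁻¹) * (g * r * g⁻¹) := by group
      _ = s * D.p 0 b * (s * D.p 0 b) := by rw [hb]
      _ = s * (D.p 0 b * s) * D.p 0 b := by group
      _ = s * (s * D.p 0 b) * D.p 0 b := by rw [← M.base.comm hs]
      _ = s * s * (D.p 0 b * D.p 0 b) := by group
      _ = s * s := by rw [D.z_self, mul_one]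
  rw [h1]
  exact mul_mem hs hs

theorem inv_Q (M : CaseB D Q T g) {r : G} (hr : r ∈ Q) : r⁻¹ = r := inv_eq_of_mul_eq_one_left (M.sq_Q hr)

theorem conj_mem {x : G} (hx : x ∈ normalizer (T : Set G)) {t : G} (ht : t ∈ T) : x * t * x⁻¹ ∈ T :=
  (mem_normalizer_iff.mp hx t).mp ht

theorem conj_mem' {x : G} (hx : x ∈ normalizer (T : Set G)) {t : G} (ht : t ∈ T) : x⁻¹ * t * x ∈ T := by
  have := conj_mem (inv_mem hx) ht
  rwa [inv_inv] at this

/-- commutators of `T` lie in `Z` -/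
theorem comm_T (M : CaseB D Q T g) {s t : G} (hs : s ∈ T) (ht : t ∈ T) : ∃ b, s * t * s⁻¹ * t⁻¹ = D.p 0 b := by
  obtain ⟨q, hq, a, b, rfl⟩ := (M.base.mem s).mp hs
  obtain ⟨r, hr, c, d, rfl⟩ := (M.base.mem t).mp ht
  refine ⟨a ^ (2 ^ (m + 1)) * c + c ^ (2 ^ (m + 1)) * a, ?_⟩
  rw [← D.p_comm a b c d]
  have h1 := M.base.comm hq c d
  have h2 := M.base.comm hr a b
  have h3 := M.base.comm (inv_mem hq) c d
  have h4 := M.comm_Q hq hr
  calc q * D.p a b * (r * D.p c d) * (q * D.p a b)⁻¹ * (r * D.p c d)⁻¹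
      = q * (D.p a b * r) * D.p c d * (D.p a b)⁻¹ * q⁻¹ * (D.p c d)⁻¹ * r⁻¹ := by group
    _ = q * (r * D.p a b) * D.p c d * (D.p a b)⁻¹ * q⁻¹ * (D.p c d)⁻¹ * r⁻¹ := by rw [h2]
    _ = (q * r) * (D.p a b * D.p c d * (D.p a b)⁻¹) * (D.p c d * q)⁻¹ * r⁻¹ := by group
    _ = (r * q) * (D.p a b * D.p c d * (D.p a b)⁻¹) * (q * D.p c d)⁻¹ * r⁻¹ := by rw [← h1, h4]
    _ = r * (q * (D.p a b * D.p c d * (D.p a b)⁻¹ * (D.p c d)⁻¹) * q⁻¹) * r⁻¹ := by group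
    _ = _ := by
      rw [D.p_comm, M.base.comm hq, mul_inv_cancel_right, M.base.comm hr, mul_inv_cancel_right]

/-- `Z` is normalized by `N(T)` -/
theorem norm_Z (M : CaseB D Q T g) {x : G} (hx : x ∈ normalizer (T : Set G)) (b : F) :
    ∃ b', x * D.p 0 b * x⁻¹ = D.p 0 b' := by
  obtain ⟨a, c, hac⟩ := D.exists_comm b
  have h1 := conj_mem hx (M.base.p_mem a 0)
  have h2 := conj_mem hx (M.base.p_mem c 0)
  obtain ⟨b', hb'⟩ := M.comm_T h1 h2
  refine ⟨b', ?_⟩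
  rw [← hb', ← hac]
  group

/-- the elements of `T` commuting with `T` -/
theorem central (M : CaseB D Q T g) {x : G} (hx : x ∈ T) (h : ∀ t ∈ T, x * t = t * x) :
    ∃ r ∈ Q, ∃ b, x = r * D.p 0 b := by
  obtain ⟨r, hr, a, b, rfl⟩ := (M.base.mem x).mp hx
  refine ⟨r, hr, b, ?_⟩
  have ha : a = 0 := by
    apply form_zero D.hm D.hF
    intro c
    have h1 := h _ (M.base.p_mem c 0)
    have h2 : D.p a b * D.p c 0 * (D.p a b)⁻¹ * (D.p c 0)⁻¹ = 1 := by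
      have h3 := M.base.comm hr c 0
      have h4 : r * (D.p a b * D.p c 0) = r * (D.p c 0 * D.p a b) := by
        calc r * (D.p a b * D.p c 0) = r * D.p a b * D.p c 0 := by group
          _ = D.p c 0 * (r * D.p a b) := h1
          _ = (D.p c 0 * r) * D.p a b := by group
          _ = r * (D.p c 0 * D.p a b) := by rw [← h3]; group
      rw [mul_left_cancel h4]; group
    rw [D.p_comm, ← D.p_zero] at h2
    exact D.z_inj h2
  rw [ha]

theorem central' (M : CaseB D Q T g) {r : G} (hr : r ∈ Q) (b : F) {t : G} (ht : t ∈ T) :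
    r * D.p 0 b * t = t * (r * D.p 0 b) := by
  obtain ⟨q, hq, a, c, rfl⟩ := (M.base.mem t).mp ht
  have h1 := M.base.comm hq 0 b
  have h2 := M.base.comm hr a c
  calc r * D.p 0 b * (q * D.p a c) = r * (D.p 0 b * q) * D.p a c := by group
    _ = r * (q * D.p 0 b) * D.p a c := by rw [h1]
    _ = (r * q) * (D.p 0 b * D.p a c) := by group
    _ = (q * r) * (D.p a c * D.p 0 b) := by rw [M.comm_Q hr hq, D.z_comm]
    _ = q * (r * D.p a c) * D.p 0 b := by group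
    _ = q * (D.p a c * r) * D.p 0 b := by rw [h2]
    _ = _ := by group

/-- `V = Q Z` is normalized by `N(T)` -/
theorem norm_V (M : CaseB D Q T g) {x : G} (hx : x ∈ normalizer (T : Set G)) {r : G} (hr : r ∈ Q) (b : F) :
    ∃ s ∈ Q, ∃ c, x * (r * D.p 0 b) * x⁻¹ = s * D.p 0 c := by
  have hrT : r * D.p 0 b ∈ T := mul_mem (M.base.Q_le hr) (M.base.p_mem 0 b)
  apply M.central (conj_mem hx hrT)
  intro t ht
  have h1 := M.central' hr b (conj_mem' hx ht)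
  calc x * (r * D.p 0 b) * x⁻¹ * t = x * (r * D.p 0 b * (x⁻¹ * t * x)) * x⁻¹ := by group
    _ = x * (x⁻¹ * t * x * (r * D.p 0 b)) * x⁻¹ := by rw [h1]
    _ = _ := by group

theorem norm_Q' (M : CaseB D Q T g) {x : G} (hx : x ∈ normalizer (T : Set G)) {r : G} (hr : r ∈ Q) :
    ∃ s ∈ Q, ∃ c, x * r * x⁻¹ = s * D.p 0 c := by
  obtain ⟨s, hs, c, h⟩ := M.norm_V hx hr 0
  rw [D.p_zero, mul_one] at h
  exact ⟨s, hs, c, h⟩

/-- `Z ∩ Q = 1` -/
theorem z_Q (M : CaseB D Q T g) {b : F} (h : D.p 0 b ∈ centralizer (K : Set G)) : b = 0 := by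
  have h1 := D.cen _ (D.p_mem 0 b) h
  rw [← D.p_zero] at h1
  exact D.z_inj h1

/-- (PL): no involution of `Z` centralizes a conjugate of `K` -/
theorem PL (M : CaseB D Q T g) {x : G} {b : F} (h : D.p 0 b ∈ cj x (centralizer (K : Set G))) : b = 0 := by
  by_contra hb
  have hz1 : D.p 0 b ≠ 1 := by
    rw [← D.p_zero]
    exact fun h => hb (D.z_inj h)
  have hz2 : orderOf (D.p 0 b) = 2 := orderOf_eq_two_of_mul_self (D.z_self b) hz1
  have ht := M.tight.cj x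
  rw [← centralizer_cj] at h
  have hTN : T ≤ normalizer ((cj x K : Subgroup G) : Set G) := fun t ht' =>
    ht.mem h hz2 (M.base.z_cent ht' b)
  have hS : IsSyl (cj x T) (normalizer ((cj x K : Subgroup G) : Set G)) := by
    rw [normalizer_cj]
    exact M.base.sylT.cj x
  have hS2 : IsSyl T (normalizer ((cj x K : Subgroup G) : Set G)) :=
    hS.of_card M.base.sylT.two hTN (by rw [card_cj])
  obtain ⟨μ, hμ, hμT⟩ := hS2.exists_cj hS
  -- `x' = μ x`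
  have hx' : μ * x ∈ normalizer (T : Set G) := by
    apply mem_normalizer_of_cj_eq
    rw [cj_mul, hμT]
  have hK' : cj (μ * x) K = cj x K := by
    rw [cj_mul]
    exact cj_eq_of_mem_normalizer hμ
  rw [← hK', centralizer_cj, mem_cj] at h
  obtain ⟨b', hb'⟩ := M.norm_Z (inv_mem hx') b
  rw [inv_inv] at hb'
  rw [hb'] at h
  have h0 := M.z_Q h
  rw [h0, D.p_zero] at hb'
  apply hz1
  calc D.p 0 b = (μ * x) * ((μ * x)⁻¹ * D.p 0 b * (μ * x)) * (μ * x)⁻¹ := by group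
    _ = 1 := by rw [hb']; group

theorem PL' (M : CaseB D Q T g) {x : G} {b : F} (h : D.p 0 b ∈ cj x Q) : b = 0 :=
  M.PL (x := x) (map_mono M.base.sylQ.le h)

/-- for `s ∈ Q` some `s p 0 b` is in `Q ^ g` -/
theorem exists_f (M : CaseB D Q T g) {s : G} (hs : s ∈ Q) : ∃ b, s * D.p 0 b ∈ cj g Q := by
  choose! σ hσ using M.cB
  have hinj : Function.Injective (fun r : Q => (⟨σ r, (hσ r r.2).1⟩ : Q)) := by
    intro r s hrs
    have h1 : σ r = σ s := congrArg Subtype.val hrs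
    obtain ⟨h2, b, hb⟩ := hσ r r.2
    obtain ⟨h3, c, hc⟩ := hσ s s.2
    -- `g (r s⁻¹) g⁻¹ = p 0 (b + c)`
    have h4 : g * ((r : G) * (s : G)⁻¹) * g⁻¹ = D.p 0 (b + c) := by
      calc g * ((r : G) * (s : G)⁻¹) * g⁻¹ = (g * r * g⁻¹) * (g * s * g⁻¹)⁻¹ := by group
        _ = (σ r * D.p 0 b) * (σ s * D.p 0 c)⁻¹ := by rw [hb, hc]
        _ = σ r * (D.p 0 b * (D.p 0 c)⁻¹) * (σ s)⁻¹ := by group
        _ = σ r * D.p 0 (b + c) * (σ s)⁻¹ := by rw [D.z_inv, D.z_mul]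
        _ = σ r * (σ s)⁻¹ * D.p 0 (b + c) := by rw [mul_assoc, ← M.base.comm (inv_mem h3)]; group
        _ = D.p 0 (b + c) := by rw [h1]; group
    have h5 : b + c = 0 := M.PL' (x := g) (by
      rw [← h4]
      exact mem_cj_mul (mul_mem r.2 (inv_mem s.2)))
    rw [h5, D.p_zero] at h4
    have h6 : (r : G) * (s : G)⁻¹ = 1 := by
      calc (r : G) * (s : G)⁻¹ = g⁻¹ * (g * ((r : G) * (s : G)⁻¹) * g⁻¹) * g := by group
        _ = 1 := by rw [h4]; group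
    exact Subtype.ext (mul_inv_eq_one.mp h6)
  obtain ⟨r, hr⟩ := (Finite.injective_iff_surjective.mp hinj) ⟨s, hs⟩
  have h1 : σ r = s := congrArg Subtype.val hr
  obtain ⟨h2, b, hb⟩ := hσ r r.2
  refine ⟨b, ?_⟩
  rw [← h1, ← hb]
  exact mem_cj_mul r.2

open Classical in
variable (D Q g) in
/-- `Q ^ g = {s * p 0 (f s)}` -/
noncomputable def fB (s : G) : F := if h : ∃ b, s * D.p 0 b ∈ cj g Q then h.choose else 0

theorem fB_mem (M : CaseB D Q T g) {s : G} (hs : s ∈ Q) : s * D.p 0 (fB D Q g s) ∈ cj g Q := by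
  classical
  have h := M.exists_f hs
  have e : fB D Q g s = h.choose := by unfold fB; exact dif_pos h
  rw [e]
  exact h.choose_spec

theorem fB_eq (M : CaseB D Q T g) {s : G} (hs : s ∈ Q) {b : F} (h : s * D.p 0 b ∈ cj g Q) : fB D Q g s = b := by
  have h1 := M.fB_mem hs
  have h2 : D.p 0 (fB D Q g s + b) ∈ cj g Q := by
    have h3 := mul_mem (inv_mem h1) h
    have e : (s * D.p 0 (fB D Q g s))⁻¹ * (s * D.p 0 b) = D.p 0 (fB D Q g s + b) := by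
      rw [← D.z_mul, mul_inv_rev, D.z_inv]
      group
    rwa [e] at h3
  have h3 := eq_neg_of_add_eq_zero_left (M.PL' h2)
  rwa [CharTwo.neg_eq] at h3

theorem fB_mul (M : CaseB D Q T g) {r s : G} (hr : r ∈ Q) (hs : s ∈ Q) :
    fB D Q g (r * s) = fB D Q g r + fB D Q g s := by
  apply M.fB_eq (mul_mem hr hs)
  have h1 := mul_mem (M.fB_mem hr) (M.fB_mem hs)
  have e : r * D.p 0 (fB D Q g r) * (s * D.p 0 (fB D Q g s)) = r * s * D.p 0 (fB D Q g r + fB D Q g s) := by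
    rw [← D.z_mul]
    calc r * D.p 0 (fB D Q g r) * (s * D.p 0 (fB D Q g s))
        = r * (D.p 0 (fB D Q g r) * s) * D.p 0 (fB D Q g s) := by group
      _ = r * (s * D.p 0 (fB D Q g r)) * D.p 0 (fB D Q g s) := by rw [← M.base.comm hs]
      _ = _ := by group
  rwa [e] at h1

theorem fB_inj (M : CaseB D Q T g) {r : G} (hr : r ∈ Q) (h : fB D Q g r = 0) : r = 1 := by
  have h1 := M.fB_mem hr
  rw [h, D.p_zero, mul_one, mem_cj] at h1
  have h2 := M.toMv.eq_one h1 (by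
    have e : g * (g⁻¹ * r * g) * g⁻¹ = r := by group
    rw [e]; exact hr)
  calc r = g * (g⁻¹ * r * g) * g⁻¹ := by group
    _ = 1 := by rw [h2]; group

theorem mem_cjg (M : CaseB D Q T g) {v : G} : v ∈ cj g Q ↔ ∃ r ∈ Q, v = r * D.p 0 (fB D Q g r) := by
  constructor
  · intro hv
    obtain ⟨r, hr, b, hb⟩ := M.cB _ (mem_cj.mp hv)
    have e : g * (g⁻¹ * v * g) * g⁻¹ = v := by group
    rw [e] at hb
    refine ⟨r, hr, ?_⟩
    rw [M.fB_eq hr (b := b) (by rw [← hb]; exact hv)]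
    exact hb
  · rintro ⟨r, hr, rfl⟩
    exact M.fB_mem hr

/-- `h l ∈ N(T)` -/
theorem h_T (M : CaseB D Q T g) (l : Fˣ) : D.h l ∈ normalizer (T : Set G) := by
  apply mem_normalizer_fintype
  intro t ht
  obtain ⟨q, hq, a, b, rfl⟩ := (M.base.mem t).mp ht
  apply (M.base.mem _).mpr
  refine ⟨q, hq, l * a, (l : F) ^ (1 + 2 ^ (m + 1)) * b, ?_⟩
  have h1 := D.h_comm_of_cent (M.base.sylQ.le hq) l
  calc D.h l * (q * D.p a b) * (D.h l)⁻¹ = (D.h l * q) * D.p a b * (D.h l)⁻¹ := by group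
    _ = (q * D.h l) * D.p a b * (D.h l)⁻¹ := by rw [h1]
    _ = q * (D.h l * D.p a b * (D.h l)⁻¹) := by group
    _ = _ := by rw [D.h_p]

theorem h_z (l : Fˣ) (b : F) : D.h l * D.p 0 b * (D.h l)⁻¹ = D.p 0 ((l : F) ^ (1 + 2 ^ (m + 1)) * b) := by
  rw [D.h_p, mul_zero]

/-- conjugates of the graph by `h l` -/
theorem mem_cjh (M : CaseB D Q T g) (l : Fˣ) {v : G} :
    v ∈ cj (D.h l * g) Q ↔ ∃ r ∈ Q, v = r * D.p 0 ((l : F) ^ (1 + 2 ^ (m + 1)) * fB D Q g r) := by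
  rw [cj_mul, mem_cj, M.mem_cjg]
  constructor
  · rintro ⟨r, hr, h⟩
    refine ⟨r, hr, ?_⟩
    have h1 := D.h_comm_of_cent (M.base.sylQ.le hr) l
    calc v = D.h l * ((D.h l)⁻¹ * v * D.h l) * (D.h l)⁻¹ := by group
      _ = (D.h l * r) * D.p 0 (fB D Q g r) * (D.h l)⁻¹ := by rw [h]; group
      _ = r * (D.h l * D.p 0 (fB D Q g r) * (D.h l)⁻¹) := by rw [h1]; group
      _ = _ := by rw [h_z]
  · rintro ⟨r, hr, h⟩
    refine ⟨r, hr, ?_⟩
    have h1 := D.h_comm_of_cent (M.base.sylQ.le hr) l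
    rw [← h_z] at h
    calc (D.h l)⁻¹ * v * D.h l = (D.h l)⁻¹ * (r * D.h l) * D.p 0 (fB D Q g r) := by rw [h]; group
      _ = (D.h l)⁻¹ * (D.h l * r) * D.p 0 (fB D Q g r) := by rw [← h1]
      _ = _ := by group

/-- every graph is a member -/
theorem exists_graph (M : CaseB D Q T g) (c : F) : ∃ y ∈ normalizer (T : Set G), ∀ v, v ∈ cj y Q ↔
    ∃ r ∈ Q, v = r * D.p 0 (c * fB D Q g r) := by
  by_cases hc : c = 0
  · refine ⟨1, one_mem _, fun v => ?_⟩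
    rw [mem_cj, inv_one, one_mul, mul_one, hc]
    constructor
    · intro hv
      exact ⟨v, hv, by rw [zero_mul, D.p_zero, mul_one]⟩
    · rintro ⟨r, hr, rfl⟩
      rw [zero_mul, D.p_zero, mul_one]
      exact hr
  · obtain ⟨l, hl⟩ := D.exists_norm_unit hc
    refine ⟨D.h l * g, mul_mem (M.h_T l) M.gT, fun v => ?_⟩
    rw [M.mem_cjh, hl]

/-- elements of `N(T) ∩ N(K)` normalize `Q` -/
theorem norm_QM (M : CaseB D Q T g) {μ : G} (h1 : μ ∈ normalizer (T : Set G)) (h2 : μ ∈ normalizer (K : Set G)) :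
    cj μ Q = Q := by
  have h3 : ∀ {ν : G}, ν ∈ normalizer (T : Set G) → ν ∈ normalizer (K : Set G) → ∀ q ∈ Q, ν * q * ν⁻¹ ∈ Q := by
    intro ν h1 h2 q hq
    rw [M.base.mem_Q_iff (conj_mem h1 (M.base.Q_le hq))]
    exact norm_cent h2 (M.base.sylQ.le hq)
  apply cj_eq_of_mem_normalizer
  exact mem_normalizer_fintype fun q hq => h3 h1 h2 q hq

/-- **the members** -/
theorem members (M : CaseB D Q T g) {x : G} (hx : x ∈ normalizer (T : Set G)) :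
    ∃ c : F, ∀ v, v ∈ cj x Q ↔ ∃ r ∈ Q, v = r * D.p 0 (c * fB D Q g r) := by
  obtain ⟨r1, hr1, -, -, -, -, hr1', -, -⟩ := M.two
  obtain ⟨s, hs, b, hb⟩ := M.norm_Q' hx hr1
  have hs1 : s ≠ 1 := by
    rintro rfl
    rw [one_mul] at hb
    have h1 : b = 0 := M.PL' (x := x) (by rw [← hb]; exact mem_cj_mul hr1)
    rw [h1, D.p_zero] at hb
    apply hr1'
    calc r1 = x⁻¹ * (x * r1 * x⁻¹) * x := by group
      _ = 1 := by rw [hb]; group
  have hfs : fB D Q g s ≠ 0 := fun h => hs1 (M.fB_inj hs h)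
  obtain ⟨y, hy, hyQ⟩ := M.exists_graph (b / fB D Q g s)
  refine ⟨b / fB D Q g s, fun v => ?_⟩
  rw [← hyQ]
  have hv : x * r1 * x⁻¹ ∈ cj y Q := by
    rw [hyQ]
    exact ⟨s, hs, by rw [hb, div_mul_cancel₀ _ hfs]⟩
  have hμ : y⁻¹ * x ∈ normalizer (K : Set G) := by
    have hr2 := orderOf_eq_two_of_mul_self (M.sq_Q hr1) hr1'
    apply M.tight.tight (y⁻¹ * x) r1 (M.base.sylQ.le hr1) hr2
    have h1 := mem_cj.mp hv
    have e : y⁻¹ * x * r1 * (y⁻¹ * x)⁻¹ = y⁻¹ * (x * r1 * x⁻¹) * y := by group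
    rw [e]
    exact M.base.sylQ.le h1
  have h2 := M.norm_QM (mul_mem (inv_mem hy) hx) hμ
  have h3 : cj x Q = cj y Q := by
    have e : x = y * (y⁻¹ * x) := by group
    rw [e, cj_mul, h2]
  rw [h3]

end CaseB

end Cfsg.Agent.OddHalf.D4.Sz
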