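import Cfsg.Agent.OddHalf.D4.Sz.LocB
import Cfsg.Agent.OddHalf.D4.RkAff
import Cfsg.Agent.StdSz.Env
import Mathlib.GroupTheory.Nilpotent

/-!
# ODD, D4, `K = Sz(q)`, `q ≥ 32`, case (b): the groups `N₀`, `E`, `E₁`, `T₁`
-/

set_option autoImplicit false
set_option linter.unusedSectionVars false

namespace Cfsg.Agent.OddHalf.D4.Sz

open Subgroup Cfsg.Agent.OddHalf.D4 Cfsg.Agent.OddHalf.D4.Basic Cfsg.Agent.OddHalf.D4.Sz.PairDefs
open Cfsg.Agent.OddHalf.D4.CommConj (cj mem_cj cj_mul card_cj cj_eq_of_mem_normalizer mem_normalizer_of_cj_eq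
  mem_cj_mul)
open Cfsg.Agent.TwoFusion.StronglyEmbeddedBasic (orderOf_eq_two_of_mul_self)

/-- if the elements of odd order are central then the 2-elements form a subgroup -/
theorem exists_two_part {X : Type*} [Group X] [Finite X] (h : ∀ x : X, Odd (orderOf x) → x ∈ center X) :
    ∃ T : Subgroup X, IsPGroup 2 T ∧ ∀ x, x ∈ T ↔ ∃ k : ℕ, x ^ 2 ^ k = 1 := by
  have h2 : Fact (Nat.Prime 2) := ⟨Nat.prime_two⟩
  have hq : IsPGroup 2 (X ⧸ center X) := by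
    intro x
    obtain ⟨x, rfl⟩ := QuotientGroup.mk_surjective x
    obtain ⟨i, j, hij, hodd, k, hk⟩ := Cfsg.Agent.StdSz.Env.exists_decomp x
    refine ⟨k, ?_⟩
    have h1 : (QuotientGroup.mk x : X ⧸ center X) = QuotientGroup.mk (x ^ j) := by
      rw [QuotientGroup.eq]
      have h3 : (x ^ i)⁻¹ ∈ center X := inv_mem (h _ hodd)
      have e : x⁻¹ * x ^ j = (x ^ i)⁻¹ := by
        apply eq_inv_of_mul_eq_one_left
        have h4 : x ^ j * x ^ i = x := by rw [← _root_.pow_add, add_comm, _root_.pow_add, ← hij]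
        calc x⁻¹ * x ^ j * x ^ i = x⁻¹ * (x ^ j * x ^ i) := by group
          _ = 1 := by rw [h4]; group
      rw [e]; exact h3
    rw [h1, ← QuotientGroup.mk_pow, hk, QuotientGroup.mk_one]
  have hnil : Group.IsNilpotent (X ⧸ center X) := hq.isNilpotent
  have hnil2 : Group.IsNilpotent X := Group.of_quotient_center_nilpotent hnil
  have hnorm := (isNilpotent_of_finite_tfae (G := X)).out 0 3 |>.mp hnil2
  obtain ⟨S⟩ : Nonempty (Sylow 2 X) := inferInstance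
  have hS : (S : Subgroup X).Normal := hnorm 2 h2 S
  refine ⟨S, S.2, fun x => ⟨fun hx => ?_, fun hx => ?_⟩⟩
  · obtain ⟨k, hk⟩ := S.2 ⟨x, hx⟩
    exact ⟨k, by simpa using congrArg Subtype.val hk⟩
  · obtain ⟨k, hk⟩ := hx
    have h3 : IsPGroup 2 (zpowers x) := by
      rintro ⟨y, n, rfl⟩
      refine ⟨k, Subtype.ext ?_⟩
      show (x ^ n) ^ 2 ^ k = 1
      rw [← zpow_natCast, ← zpow_mul, mul_comm, zpow_mul, zpow_natCast, hk, one_zpow]
    obtain ⟨S', hS'⟩ := h3.exists_le_sylow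
    obtain ⟨y, hy⟩ := MulAction.exists_smul_eq X S S'
    have h4 : S = S' := by
      rw [← hy]
      apply Sylow.ext
      rw [Sylow.coe_subgroup_smul]
      ext z
      rw [Subgroup.mem_pointwise_smul_iff_inv_smul_mem]
      constructor
      · intro hz
        have := hS.conj_mem z hz y⁻¹
        simpa using this
      · intro hz
        have := hS.conj_mem _ hz y
        simpa [mul_assoc] using this
    rw [h4]
    exact hS' (mem_zpowers x)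

variable {G : Type*} [Group G] {F : Type*} [Field F] [Fintype F] {m : ℕ} {K : Subgroup G}
  {D : KFr F m K} {Q T : Subgroup G} {g : G}

namespace CaseB

variable [Finite G] [CharP F 2]

/-- elements normalizing `T` and acting trivially on `V / Z` -/
def N0 (M : CaseB D Q T g) : Subgroup G where
  carrier := {x | x ∈ normalizer (T : Set G) ∧ ∀ r ∈ Q, ∃ b, x * r * x⁻¹ = r * D.p 0 b}
  one_mem' := ⟨one_mem _, fun r _ => ⟨0, by rw [D.p_zero]; group⟩⟩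
  mul_mem' := by
    rintro x y ⟨hx, hx2⟩ ⟨hy, hy2⟩
    refine ⟨mul_mem hx hy, fun r hr => ?_⟩
    obtain ⟨b, hb⟩ := hy2 r hr
    obtain ⟨c, hc⟩ := hx2 r hr
    obtain ⟨d, hd⟩ := M.norm_Z hx b
    refine ⟨c + d, ?_⟩
    calc x * y * r * (x * y)⁻¹ = x * (y * r * y⁻¹) * x⁻¹ := by group
      _ = x * (r * D.p 0 b) * x⁻¹ := by rw [hb]
      _ = (x * r * x⁻¹) * (x * D.p 0 b * x⁻¹) := by group
      _ = r * (D.p 0 c * D.p 0 d) := by rw [hc, hd, mul_assoc]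
      _ = _ := by rw [D.z_mul]
  inv_mem' := by
    rintro x ⟨hx, hx2⟩
    refine ⟨inv_mem hx, fun r hr => ?_⟩
    obtain ⟨b, hb⟩ := hx2 r hr
    obtain ⟨c, hc⟩ := M.norm_Z (inv_mem hx) b
    refine ⟨c, ?_⟩
    have h1 : r = (x⁻¹ * r * x⁻¹⁻¹) * D.p 0 c := by
      rw [← hc]
      calc r = x⁻¹ * (x * r * x⁻¹) * x := by group
        _ = x⁻¹ * (r * D.p 0 b) * x := by rw [hb]
        _ = _ := by group
    calc x⁻¹ * r * x⁻¹⁻¹ = ((x⁻¹ * r * x⁻¹⁻¹) * D.p 0 c) * D.p 0 c := by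
          rw [mul_assoc (x⁻¹ * r * x⁻¹⁻¹), D.z_self, mul_one]
      _ = r * D.p 0 c := by rw [← h1]

theorem mem_N0 (M : CaseB D Q T g) {x : G} : x ∈ M.N0 ↔ x ∈ normalizer (T : Set G) ∧
    ∀ r ∈ Q, ∃ b, x * r * x⁻¹ = r * D.p 0 b := Iff.rfl

/-- `N₀` is normal in `N(T)` -/
theorem conj_N0 (M : CaseB D Q T g) {n x : G} (hn : n ∈ normalizer (T : Set G)) (hx : x ∈ M.N0) :
    n * x * n⁻¹ ∈ M.N0 := by
  refine ⟨mul_mem (mul_mem hn hx.1) (inv_mem hn), fun r hr => ?_⟩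
  obtain ⟨s, hs, b, hb⟩ := M.norm_Q' (inv_mem hn) hr
  rw [inv_inv] at hb
  obtain ⟨c, hc⟩ := hx.2 s hs
  obtain ⟨d, hd⟩ := M.norm_Z hx.1 b
  obtain ⟨e, he⟩ := M.norm_Z hn (c + d + b)
  refine ⟨e, ?_⟩
  have h1 : x * (n⁻¹ * r * n) * x⁻¹ = (n⁻¹ * r * n) * D.p 0 (c + d + b) := by
    rw [hb]
    calc x * (s * D.p 0 b) * x⁻¹ = (x * s * x⁻¹) * (x * D.p 0 b * x⁻¹) := by group
      _ = s * (D.p 0 c * D.p 0 d) := by rw [hc, hd, mul_assoc]
      _ = s * D.p 0 (b + (c + d + b)) := by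
          rw [D.z_mul]
          congr 2
          have := CharTwo.add_self_eq_zero b
          linear_combination -this
      _ = s * D.p 0 b * D.p 0 (c + d + b) := by rw [← D.z_mul, mul_assoc]
  calc n * x * n⁻¹ * r * (n * x * n⁻¹)⁻¹ = n * (x * (n⁻¹ * r * n) * x⁻¹) * n⁻¹ := by group
    _ = n * ((n⁻¹ * r * n) * D.p 0 (c + d + b)) * n⁻¹ := by rw [h1]
    _ = r * (n * D.p 0 (c + d + b) * n⁻¹) := by group
    _ = _ := by rw [he]

/-- elements of `N₀` act on `Q` as `r ↦ r * p 0 (c * f r)` -/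
theorem N0_act (M : CaseB D Q T g) {x : G} (hx : x ∈ M.N0) : ∃ c : F, ∀ r ∈ Q, x * r * x⁻¹ =
    r * D.p 0 (c * fB D Q g r) := by
  obtain ⟨c, hc⟩ := M.members hx.1
  refine ⟨c, fun r hr => ?_⟩
  obtain ⟨b, hb⟩ := hx.2 r hr
  obtain ⟨s, hs, h⟩ := (hc _).mp (mem_cj_mul hr)
  rw [hb] at h
  obtain ⟨h1, -, h2⟩ := M.base.uniq hr hs h
  rw [hb, h2, h1]

theorem h_N0 (M : CaseB D Q T g) (l : Fˣ) : D.h l ∈ M.N0 := by
  refine ⟨M.h_T l, fun r hr => ⟨0, ?_⟩⟩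
  rw [D.h_comm_of_cent (M.base.sylQ.le hr) l, D.p_zero, mul_one, mul_inv_cancel_right]

variable (D) in
/-- the torus, reparametrized -/
noncomputable def hh (c : Fˣ) : G := D.h (D.exists_norm_unit c.ne_zero).choose

omit [Finite G] in
theorem hh_z (c : Fˣ) (b : F) : hh D c * D.p 0 b * (hh D c)⁻¹ = D.p 0 (c * b) := by
  unfold hh
  rw [D.h_p, mul_zero, (D.exists_norm_unit c.ne_zero).choose_spec]

include D in
theorem q_ge : ∃ l : Fˣ, (l : F) ^ (1 + 2 ^ (m + 1)) ≠ 1 := by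
  obtain ⟨g, hg0, hg, -⟩ := Cfsg.Agent.StdSz.EquivMaps.exists_gen D.hF
  refine ⟨Units.mk0 g hg0, fun h => ?_⟩
  have h1 : g = 1 := D.norm_inj (by rw [one_pow]; exact h)
  have e7 : g ^ 1 = g ^ 0 := by rw [pow_one, pow_zero, h1]
  rw [hg] at e7
  have hm := D.hm
  have h4 : 2 ^ 3 ≤ 2 ^ (2 * m + 1) := Nat.pow_le_pow_right (by norm_num) (by omega)
  have := Nat.ModEq.eq_of_lt_of_lt e7 (by omega) (by omega)
  omega

theorem aff (M : CaseB D Q T g) : RkAff.Aff Q (fun b => D.p 0 b) (hh D) (fB D Q g) M.N0 where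
  u_add a b := (D.z_mul a b).symm
  u_inj a b h := D.z_inj h
  comm r hr a := (M.base.comm hr 0 a).symm
  disj a h := M.z_Q (M.base.sylQ.le h)
  h_u c a := hh_z c a
  h_R c r hr := D.h_comm_of_cent (M.base.sylQ.le hr) _
  h_N c := M.h_N0 _
  f_add r hr s hs := M.fB_mul hr hs
  f_inj r hr h := M.fB_inj hr h
  N_u x hx a := M.norm_Z hx.1 a
  N_R x hx := M.N0_act hx
  N_tr := by
    obtain ⟨l, hl⟩ := q_ge (D := D)
    obtain ⟨r, hr, -, -, -, -, hr1, -, -⟩ := M.two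
    refine ⟨g * D.h l * g⁻¹, M.conj_N0 M.gT (M.h_N0 l), r, hr, fun h => ?_⟩
    -- `g h g⁻¹` centralizes `r * p 0 (f r)`, so `p 0 (f r)`
    have h1 := M.fB_mem hr
    rw [mem_cj] at h1
    have h2 := D.h_comm_of_cent (M.base.sylQ.le h1) l
    have h3 : g * D.h l * g⁻¹ * (r * D.p 0 (fB D Q g r)) = r * D.p 0 (fB D Q g r) * (g * D.h l * g⁻¹) := by
      calc g * D.h l * g⁻¹ * (r * D.p 0 (fB D Q g r))
          = g * (D.h l * (g⁻¹ * (r * D.p 0 (fB D Q g r)) * g)) * g⁻¹ := by group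
        _ = g * ((g⁻¹ * (r * D.p 0 (fB D Q g r)) * g) * D.h l) * g⁻¹ := by rw [h2]
        _ = _ := by group
    have h4 : g * D.h l * g⁻¹ * D.p 0 (fB D Q g r) = D.p 0 (fB D Q g r) * (g * D.h l * g⁻¹) := by
      have e : r * (g * D.h l * g⁻¹ * D.p 0 (fB D Q g r)) = r * (D.p 0 (fB D Q g r) * (g * D.h l * g⁻¹)) := by
        calc r * (g * D.h l * g⁻¹ * D.p 0 (fB D Q g r)) = (r * (g * D.h l * g⁻¹)) * D.p 0 (fB D Q g r) := by group
          _ = (g * D.h l * g⁻¹ * r) * D.p 0 (fB D Q g r) := by rw [← h]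
          _ = g * D.h l * g⁻¹ * (r * D.p 0 (fB D Q g r)) := by group
          _ = r * D.p 0 (fB D Q g r) * (g * D.h l * g⁻¹) := h3
          _ = _ := by group
      exact mul_left_cancel e
    obtain ⟨b, hb⟩ := M.norm_Z (inv_mem M.gT) (fB D Q g r)
    rw [inv_inv] at hb
    have h5 : D.h l * D.p 0 b * (D.h l)⁻¹ = D.p 0 b := by
      rw [← hb]
      calc D.h l * (g⁻¹ * D.p 0 (fB D Q g r) * g) * (D.h l)⁻¹
          = g⁻¹ * (g * D.h l * g⁻¹ * D.p 0 (fB D Q g r)) * g * (D.h l)⁻¹ := by group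
        _ = g⁻¹ * (D.p 0 (fB D Q g r) * (g * D.h l * g⁻¹)) * g * (D.h l)⁻¹ := by rw [h4]
        _ = _ := by group
    rw [h_z] at h5
    have h6 := D.z_inj h5
    have h7 : b = 0 := by
      have h8 : ((l : F) ^ (1 + 2 ^ (m + 1)) - 1) * b = 0 := by linear_combination h6
      exact (mul_eq_zero.mp h8).resolve_left (sub_ne_zero.mpr hl)
    rw [h7, D.p_zero] at hb
    apply hr1
    apply M.fB_inj hr
    apply D.z_inj
    rw [D.p_zero]
    calc D.p 0 (fB D Q g r) = g * (g⁻¹ * D.p 0 (fB D Q g r) * g) * g⁻¹ := by group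
      _ = 1 := by rw [hb]; group
  two := by
    obtain ⟨r, hr, s, hs, hr2, hs2, hr1, hs1, hrs⟩ := M.two
    refine ⟨r, hr, s, hs, fun h => hr1 (M.fB_inj hr h), fun h => hs1 (M.fB_inj hs h), fun h => hrs ?_⟩
    have h1 : fB D Q g (r * s) = 0 := by rw [M.fB_mul hr hs, h, CharTwo.add_self_eq_zero]
    have h2 := M.fB_inj (mul_mem hr hs) h1
    have h3 := eq_inv_of_mul_eq_one_left h2
    rw [h3, M.inv_Q hs]

/-- `E` -/
def E (M : CaseB D Q T g) : Subgroup G where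
  carrier := {x | x ∈ M.N0 ∧ ∀ b, x * D.p 0 b = D.p 0 b * x}
  one_mem' := ⟨one_mem _, fun b => by group⟩
  mul_mem' := by
    rintro x y ⟨hx, hx2⟩ ⟨hy, hy2⟩
    refine ⟨mul_mem hx hy, fun b => ?_⟩
    rw [mul_assoc, hy2, ← mul_assoc, hx2, mul_assoc]
  inv_mem' := by
    rintro x ⟨hx, hx2⟩
    refine ⟨inv_mem hx, fun b => ?_⟩
    have := hx2 b
    calc x⁻¹ * D.p 0 b = x⁻¹ * (D.p 0 b * x) * x⁻¹ := by group
      _ = x⁻¹ * (x * D.p 0 b) * x⁻¹ := by rw [this]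
      _ = _ := by group

theorem mem_E (M : CaseB D Q T g) {x : G} : x ∈ M.E ↔ x ∈ M.N0 ∧ ∀ b, x * D.p 0 b = D.p 0 b * x := Iff.rfl

/-- `E` is normal in `N(T)` -/
theorem conj_E (M : CaseB D Q T g) {n x : G} (hn : n ∈ normalizer (T : Set G)) (hx : x ∈ M.E) :
    n * x * n⁻¹ ∈ M.E := by
  refine ⟨M.conj_N0 hn hx.1, fun b => ?_⟩
  obtain ⟨c, hc⟩ := M.norm_Z (inv_mem hn) b
  rw [inv_inv] at hc
  have h1 := hx.2 c
  rw [← hc] at h1
  calc n * x * n⁻¹ * D.p 0 b = n * (x * (n⁻¹ * D.p 0 b * n)) * n⁻¹ := by group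
    _ = n * ((n⁻¹ * D.p 0 b * n) * x) * n⁻¹ := by rw [h1]
    _ = _ := by group

open Classical in
variable (D Q g) in
/-- the parameter `c` of an element acting as `r ↦ r * p 0 (c * f r)` -/
noncomputable def ac (x : G) : F :=
  if h : ∃ c : F, ∀ r ∈ Q, x * r * x⁻¹ = r * D.p 0 (c * fB D Q g r) then h.choose else 0

theorem ac_spec (M : CaseB D Q T g) {x : G} (hx : x ∈ M.N0) {r : G} (hr : r ∈ Q) :
    x * r * x⁻¹ = r * D.p 0 (ac D Q g x * fB D Q g r) := by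
  classical
  have h := M.N0_act hx
  have e : ac D Q g x = h.choose := by unfold ac; exact dif_pos h
  rw [e]
  exact h.choose_spec r hr

theorem ac_eq (M : CaseB D Q T g) {x : G} (hx : x ∈ M.N0) {c : F}
    (h : ∀ r ∈ Q, x * r * x⁻¹ = r * D.p 0 (c * fB D Q g r)) : ac D Q g x = c := by
  obtain ⟨r, hr, -, -, -, -, hr1, -, -⟩ := M.two
  have h1 := M.ac_spec hx hr
  rw [h r hr] at h1
  have h2 := D.z_inj (mul_left_cancel h1)
  exact (mul_right_cancel₀ (fun h => hr1 (M.fB_inj hr h)) h2).symm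

theorem ac_mul (M : CaseB D Q T g) {x y : G} (hx : x ∈ M.E) (hy : y ∈ M.E) :
    ac D Q g (x * y) = ac D Q g x + ac D Q g y := by
  apply M.ac_eq (mul_mem hx.1 hy.1)
  intro r hr
  calc x * y * r * (x * y)⁻¹ = x * (y * r * y⁻¹) * x⁻¹ := by group
    _ = x * (r * D.p 0 (ac D Q g y * fB D Q g r)) * x⁻¹ := by rw [M.ac_spec hy.1 hr]
    _ = (x * r * x⁻¹) * (x * D.p 0 (ac D Q g y * fB D Q g r) * x⁻¹) := by group
    _ = (r * D.p 0 (ac D Q g x * fB D Q g r)) * D.p 0 (ac D Q g y * fB D Q g r) := by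
        rw [M.ac_spec hx.1 hr, hx.2, mul_inv_cancel_right]
    _ = _ := by rw [mul_assoc, D.z_mul, add_mul]

theorem ac_one (M : CaseB D Q T g) : ac D Q g 1 = 0 := by
  have := M.ac_mul M.E.one_mem M.E.one_mem
  rw [mul_one] at this
  exact add_eq_left.mp this.symm

theorem ac_inv (M : CaseB D Q T g) {x : G} (hx : x ∈ M.E) : ac D Q g x⁻¹ = ac D Q g x := by
  have h1 := M.ac_mul (inv_mem hx) hx
  rw [inv_mul_cancel, M.ac_one] at h1
  have h2 := eq_neg_of_add_eq_zero_left h1.symm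
  rwa [CharTwo.neg_eq] at h2

theorem ac_pow (M : CaseB D Q T g) {x : G} (hx : x ∈ M.E) (n : ℕ) : ac D Q g (x ^ n) = n * ac D Q g x := by
  induction n with
  | zero => rw [pow_zero, M.ac_one, Nat.cast_zero, zero_mul]
  | succ n ih =>
    rw [pow_succ, M.ac_mul (pow_mem hx n) hx, ih]
    push_cast
    ring

theorem ac_zero (M : CaseB D Q T g) {x : G} (hx : x ∈ M.N0) (h : ac D Q g x = 0) {r : G} (hr : r ∈ Q) :
    x * r = r * x := by
  have h1 := M.ac_spec hx hr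
  rw [h, zero_mul, D.p_zero, mul_one] at h1
  exact mul_inv_eq_iff_eq_mul.mp h1

/-- `T ≤ E` -/
theorem T_E (M : CaseB D Q T g) {t : G} (ht : t ∈ T) : t ∈ M.E ∧ ac D Q g t = 0 := by
  have h1 : ∀ r ∈ Q, t * r * t⁻¹ = r := by
    intro r hr
    have := M.central' hr 0 ht
    rw [D.p_zero, mul_one] at this
    rw [← this, mul_inv_cancel_right]
  have h2 : t ∈ M.N0 := ⟨le_normalizer ht, fun r hr => ⟨0, by rw [D.p_zero, mul_one, h1 r hr]⟩⟩
  refine ⟨⟨h2, fun b => M.base.z_cent ht b⟩, M.ac_eq h2 fun r hr => ?_⟩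
  rw [zero_mul, D.p_zero, mul_one, h1 r hr]

theorem exists_E (M : CaseB D Q T g) (c : F) : ∃ x ∈ M.E, ac D Q g x = c := by
  obtain ⟨x, hx, h1, h2⟩ := M.aff.exists_transl_all c
  exact ⟨x, ⟨hx, h1⟩, M.ac_eq hx h2⟩

theorem ac_h (M : CaseB D Q T g) (l : Fˣ) {x : G} (hx : x ∈ M.E) :
    ac D Q g (D.h l * x * (D.h l)⁻¹) = (l : F) ^ (1 + 2 ^ (m + 1)) * ac D Q g x := by
  apply M.ac_eq (M.conj_N0 (M.h_T l) hx.1)
  intro r hr
  have h1 := D.h_comm_of_cent (M.base.sylQ.le hr) l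
  have h2 : (D.h l)⁻¹ * r * D.h l = r := by rw [mul_assoc, ← h1, inv_mul_cancel_left]
  have h3 : D.h l * r * (D.h l)⁻¹ = r := by rw [h1, mul_inv_cancel_right]
  calc D.h l * x * (D.h l)⁻¹ * r * (D.h l * x * (D.h l)⁻¹)⁻¹
      = D.h l * (x * ((D.h l)⁻¹ * r * D.h l) * x⁻¹) * (D.h l)⁻¹ := by group
    _ = D.h l * (r * D.p 0 (ac D Q g x * fB D Q g r)) * (D.h l)⁻¹ := by rw [h2, M.ac_spec hx.1 hr]
    _ = (D.h l * r * (D.h l)⁻¹) * (D.h l * D.p 0 (ac D Q g x * fB D Q g r) * (D.h l)⁻¹) := by group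
    _ = _ := by rw [h3, h_z, mul_assoc]

/-- the elements of odd order centralizing `V` -/
def Od (_ : CaseB D Q T g) (o : G) : Prop :=
  (∀ r ∈ Q, o * r = r * o) ∧ (∀ b, o * D.p 0 b = D.p 0 b * o) ∧ Odd (orderOf o)

theorem eq_one_of_pow {x : G} {n k : ℕ} (hn : Odd n) (h1 : x ^ n = 1) (h2 : x ^ 2 ^ k = 1) : x = 1 := by
  have h3 : orderOf x ∣ n := orderOf_dvd_of_pow_eq_one h1
  have h4 : orderOf x ∣ 2 ^ k := orderOf_dvd_of_pow_eq_one h2
  have h5 : Nat.Coprime n (2 ^ k) := (Nat.Coprime.pow_right k (Nat.coprime_two_right.mpr hn))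
  have h6 := Nat.dvd_gcd h3 h4
  rw [h5.gcd_eq_one] at h6
  exact orderOf_eq_one_iff.mp (Nat.dvd_one.mp h6)

theorem Od.norm {M : CaseB D Q T g} {o : G} (h : M.Od o) : o ∈ normalizer (K : Set G) := by
  obtain ⟨r, hr, -, -, hr2, -, hr1, -, -⟩ := M.two
  exact M.mem_norm hr hr2 hr1 (h.1 r hr)

/-- the odd elements centralize `K` -/
theorem Od.cent {M : CaseB D Q T g} {o : G} (h : M.Od o) : o ∈ centralizer (K : Set G) := by
  obtain ⟨c, hc, a, b, hab⟩ := D.cz o h.norm h.2.1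
  have hcom : Commute c (D.p a b) := D.comm_of_cent hc a b
  have h1 : o ^ orderOf o = 1 := pow_orderOf_eq_one o
  set n := orderOf o with hn
  rw [hab, hcom.mul_pow] at h1
  have h2 : D.p a b ^ n ∈ centralizer (K : Set G) := by
    have e : D.p a b ^ n = (c ^ n)⁻¹ := (inv_eq_of_mul_eq_one_right h1).symm
    rw [e]
    exact inv_mem (pow_mem hc n)
  have h3 := D.cen _ (pow_mem (D.p_mem a b) n) h2
  have h4 : D.p a b ^ 2 ^ 2 = 1 := by
    have : (2 : ℕ) ^ 2 = 2 * 2 := by norm_num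
    rw [this, pow_mul, pow_two (D.p a b), D.p_sq, pow_two, D.z_self]
  have h5 := eq_one_of_pow h.2.2 h3 h4
  rw [hab, h5, mul_one]
  exact hc

/-- `T` centralizes the odd elements -/
theorem Od.comm_T {M : CaseB D Q T g} {o : G} (h : M.Od o) {t : G} (ht : t ∈ T) : t * o = o * t := by
  obtain ⟨q, hq, a, b, rfl⟩ := (M.base.mem t).mp ht
  have h1 := h.1 q hq
  have h2 := D.comm_of_cent h.cent a b
  rw [mul_assoc, ← h2, ← mul_assoc, ← h1, mul_assoc]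

theorem Od.conj {M : CaseB D Q T g} {o n : G} (h : M.Od o) (hn : n ∈ normalizer (T : Set G)) : M.Od (n * o * n⁻¹) := by
  refine ⟨fun r hr => ?_, fun b => ?_, ?_⟩
  · obtain ⟨s, hs, b, hb⟩ := M.norm_Q' (inv_mem hn) hr
    rw [inv_inv] at hb
    have h1 : o * (n⁻¹ * r * n) = (n⁻¹ * r * n) * o := by
      rw [hb, ← mul_assoc, h.1 s hs, mul_assoc, h.2.1 b, ← mul_assoc]
    calc n * o * n⁻¹ * r = n * (o * (n⁻¹ * r * n)) * n⁻¹ := by group
      _ = n * ((n⁻¹ * r * n) * o) * n⁻¹ := by rw [h1]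
      _ = _ := by group
  · obtain ⟨c, hc⟩ := M.norm_Z (inv_mem hn) b
    rw [inv_inv] at hc
    have h1 := h.2.1 c
    rw [← hc] at h1
    calc n * o * n⁻¹ * D.p 0 b = n * (o * (n⁻¹ * D.p 0 b * n)) * n⁻¹ := by group
      _ = n * ((n⁻¹ * D.p 0 b * n) * o) * n⁻¹ := by rw [h1]
      _ = _ := by group
  · rw [Cfsg.Agent.TwoFusion.StronglyEmbeddedBasic.orderOf_conj]
    exact h.2.2

/-- `E₁` -/
def E1 (M : CaseB D Q T g) : Subgroup G where
  carrier := {x | x ∈ M.E ∧ ∀ o, M.Od o → x * o = o * x}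
  one_mem' := ⟨one_mem _, fun o _ => by group⟩
  mul_mem' := by
    rintro x y ⟨hx, hx2⟩ ⟨hy, hy2⟩
    refine ⟨mul_mem hx hy, fun o ho => ?_⟩
    rw [mul_assoc, hy2 o ho, ← mul_assoc, hx2 o ho, mul_assoc]
  inv_mem' := by
    rintro x ⟨hx, hx2⟩
    refine ⟨inv_mem hx, fun o ho => ?_⟩
    have := hx2 o ho
    calc x⁻¹ * o = x⁻¹ * (o * x) * x⁻¹ := by group
      _ = x⁻¹ * (x * o) * x⁻¹ := by rw [this]
      _ = _ := by group

theorem conj_E1 (M : CaseB D Q T g) {n x : G} (hn : n ∈ normalizer (T : Set G)) (hx : x ∈ M.E1) :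
    n * x * n⁻¹ ∈ M.E1 := by
  refine ⟨M.conj_E hn hx.1, fun o ho => ?_⟩
  have h1 := hx.2 _ (ho.conj (inv_mem hn))
  rw [inv_inv] at h1
  calc n * x * n⁻¹ * o = n * (x * (n⁻¹ * o * n)) * n⁻¹ := by group
    _ = n * ((n⁻¹ * o * n) * x) * n⁻¹ := by rw [h1]
    _ = _ := by group

/-- odd elements of `E` -/
theorem od_of_E (M : CaseB D Q T g) {x : G} (hx : x ∈ M.E) (ho : Odd (orderOf x)) : M.Od x := by
  have h1 := M.ac_pow hx (orderOf x)
  rw [pow_orderOf_eq_one, M.ac_one] at h1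
  obtain ⟨k, hk⟩ := ho
  have h2 : ((orderOf x : ℕ) : F) = 1 := by
    rw [hk]
    push_cast
    have : (2 : F) = 0 := CharTwo.two_eq_zero
    rw [this, zero_mul, zero_add]
  rw [h2, one_mul] at h1
  exact ⟨fun r hr => M.ac_zero hx.1 h1.symm hr, hx.2, ⟨k, hk⟩⟩

theorem exists_T1 (M : CaseB D Q T g) : ∃ T1 : Subgroup G, IsPGroup 2 T1 ∧
    ∀ x, x ∈ T1 ↔ x ∈ M.E1 ∧ ∃ k : ℕ, x ^ 2 ^ k = 1 := by
  obtain ⟨T0, hT0, h⟩ := exists_two_part (X := M.E1) (by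
    intro x hx
    rw [mem_center_iff]
    intro y
    apply Subtype.ext
    have h1 := M.od_of_E x.2.1 (by rwa [Subgroup.orderOf_coe])
    exact y.2.2 _ h1)
  refine ⟨T0.map M.E1.subtype, hT0.map _, fun x => ⟨?_, ?_⟩⟩
  · rintro ⟨y, hy, rfl⟩
    obtain ⟨k, hk⟩ := (h y).mp hy
    exact ⟨y.2, k, by simpa using congrArg Subtype.val hk⟩
  · rintro ⟨hx, k, hk⟩
    exact ⟨⟨x, hx⟩, (h _).mpr ⟨k, Subtype.ext hk⟩, rfl⟩

/-- `T₁` -/
noncomputable def T1 (M : CaseB D Q T g) : Subgroup G := M.exists_T1.choose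

theorem T1_two (M : CaseB D Q T g) : IsPGroup 2 M.T1 := M.exists_T1.choose_spec.1

theorem mem_T1 (M : CaseB D Q T g) {x : G} : x ∈ M.T1 ↔ x ∈ M.E1 ∧ ∃ k : ℕ, x ^ 2 ^ k = 1 :=
  M.exists_T1.choose_spec.2 x

/-- `T₁` is normal in `N(T)` -/
theorem conj_T1 (M : CaseB D Q T g) {n x : G} (hn : n ∈ normalizer (T : Set G)) (hx : x ∈ M.T1) :
    n * x * n⁻¹ ∈ M.T1 := by
  rw [mem_T1] at hx ⊢
  obtain ⟨h1, k, hk⟩ := hx
  refine ⟨M.conj_E1 hn h1, k, ?_⟩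
  rw [conj_pow, hk]; group

/-- `T ≤ T₁` -/
theorem T_T1 (M : CaseB D Q T g) {t : G} (ht : t ∈ T) : t ∈ M.T1 := by
  rw [mem_T1]
  refine ⟨⟨(M.T_E ht).1, fun o ho => ho.comm_T ht⟩, ?_⟩
  obtain ⟨k, hk⟩ := M.base.sylT.two ⟨t, ht⟩
  exact ⟨k, by simpa using congrArg Subtype.val hk⟩

/-- `T₁` induces all translations -/
theorem T1_surj (M : CaseB D Q T g) (c : F) : ∃ x ∈ M.T1, ac D Q g x = c := by
  obtain ⟨l, hl⟩ := q_ge (D := D)
  set ν := (l : F) ^ (1 + 2 ^ (m + 1)) with hν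
  have hν1 : 1 + ν ≠ 0 := by
    intro h
    apply hl
    have := eq_neg_of_add_eq_zero_right h
    rwa [CharTwo.neg_eq] at this
  obtain ⟨e, he, hec⟩ := M.exists_E (c / (1 + ν))
  -- `x = [e, h]`
  have hhe : D.h l * e⁻¹ * (D.h l)⁻¹ ∈ M.E := M.conj_E (M.h_T l) (inv_mem he)
  have hx : e * (D.h l * e⁻¹ * (D.h l)⁻¹) ∈ M.E := mul_mem he hhe
  have hac : ac D Q g (e * (D.h l * e⁻¹ * (D.h l)⁻¹)) = c := by
    rw [M.ac_mul he hhe, M.ac_h l (inv_mem he), M.ac_inv he, hec, ← hν]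
    field_simp
  have hx1 : e * (D.h l * e⁻¹ * (D.h l)⁻¹) ∈ M.E1 := by
    refine ⟨hx, fun o ho => ?_⟩
    have h1 : D.h l * o = o * D.h l := D.h_comm_of_cent ho.cent l
    have ho2 := ho.conj (inv_mem he.1.1)
    rw [inv_inv] at ho2
    -- `h (e⁻¹ o' e) h⁻¹ = e⁻¹ o' e`
    have ho3 : M.Od ((D.h l)⁻¹ * o * D.h l) := by
      rw [mul_assoc, ← h1, inv_mul_cancel_left]; exact ho
    have h2 := D.h_comm_of_cent ho2.cent l
    calc e * (D.h l * e⁻¹ * (D.h l)⁻¹) * o = e * D.h l * e⁻¹ * ((D.h l)⁻¹ * o) := by group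
      _ = e * D.h l * e⁻¹ * (o * (D.h l)⁻¹) := by
        have e1 : (D.h l)⁻¹ * o = o * (D.h l)⁻¹ := by
          calc (D.h l)⁻¹ * o = (D.h l)⁻¹ * (o * D.h l) * (D.h l)⁻¹ := by group
            _ = (D.h l)⁻¹ * (D.h l * o) * (D.h l)⁻¹ := by rw [h1]
            _ = _ := by group
        rw [e1]
      _ = e * (D.h l * (e⁻¹ * o * e)) * e⁻¹ * (D.h l)⁻¹ := by group
      _ = e * ((e⁻¹ * o * e) * D.h l) * e⁻¹ * (D.h l)⁻¹ := by rw [h2]
      _ = _ := by group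
  set x := e * (D.h l * e⁻¹ * (D.h l)⁻¹) with hxd
  obtain ⟨i, j, hij, hodd, k, hk⟩ := Cfsg.Agent.StdSz.Env.exists_decomp x
  have hi : ac D Q g (x ^ i) = 0 := by
    have h1 := M.ac_pow (pow_mem hx i) (orderOf (x ^ i))
    rw [pow_orderOf_eq_one, M.ac_one] at h1
    obtain ⟨k, hk⟩ := hodd
    have h2 : ((orderOf (x ^ i) : ℕ) : F) = 1 := by
      rw [hk]
      push_cast
      have : (2 : F) = 0 := CharTwo.two_eq_zero
      rw [this, zero_mul, zero_add]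
    rw [h2, one_mul] at h1
    exact h1.symm
  refine ⟨x ^ j, M.mem_T1.mpr ⟨pow_mem hx1 j, k, hk⟩, ?_⟩
  have h3 : ac D Q g x = ac D Q g (x ^ i * x ^ j) := by rw [← hij]
  rw [M.ac_mul (pow_mem hx i) (pow_mem hx j), hi, zero_add, hac] at h3
  exact h3.symm

/-- the kernel is `T` -/
theorem T1_ker (M : CaseB D Q T g) {x : G} (hx : x ∈ M.T1) (h : ac D Q g x = 0) : x ∈ T := by
  obtain ⟨hx1, k, hk⟩ := M.mem_T1.mp hx
  obtain ⟨r, hr, -, -, hr2, -, hr1, -, -⟩ := M.two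
  have hxr : ∀ r ∈ Q, x * r = r * x := fun r hr => M.ac_zero hx1.1.1 h hr
  have hxM : x ∈ normalizer (K : Set G) := M.mem_norm hr hr2 hr1 (hxr r hr)
  obtain ⟨c, hc, a, b, hab⟩ := D.cz x hxM hx1.1.2
  have hpT := M.base.p_mem a b
  -- `c` commutes with `Q` and is a 2-element
  have hcr : ∀ r ∈ Q, c * r = r * c := by
    intro r hr
    have h1 := hxr r hr
    rw [hab] at h1
    have h2 := M.base.comm hr a b
    have h3 : c * r * D.p a b = r * c * D.p a b := by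
      calc c * r * D.p a b = c * (r * D.p a b) := by group
        _ = c * D.p a b * r := by rw [h2]; group
        _ = r * (c * D.p a b) := h1
        _ = _ := by group
    exact mul_right_cancel h3
  have hcom : Commute c (D.p a b) := D.comm_of_cent hc a b
  have hc2 : c ^ 2 ^ k = 1 := by
    rw [hab, hcom.mul_pow] at hk
    have h2 : D.p a b ^ 2 ^ k ∈ centralizer (K : Set G) := by
      have e : D.p a b ^ 2 ^ k = (c ^ 2 ^ k)⁻¹ := (inv_eq_of_mul_eq_one_right hk).symm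
      rw [e]
      exact inv_mem (pow_mem hc _)
    have h3 := D.cen _ (pow_mem (D.p_mem a b) _) h2
    rwa [h3, mul_one] at hk
  -- `c ∈ Q`
  have hcQ : c ∈ Q := by
    let W : Subgroup G := Q ⊔ zpowers c
    have hz2 : IsPGroup 2 (zpowers c) := by
      rintro ⟨y, n, rfl⟩
      refine ⟨k, Subtype.ext ?_⟩
      show (c ^ n) ^ 2 ^ k = 1
      rw [← zpow_natCast, ← zpow_mul, mul_comm, zpow_mul, zpow_natCast, hc2, one_zpow]
    have hzn : zpowers c ≤ normalizer (Q : Set G) := by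
      rw [zpowers_le]
      apply mem_normalizer_fintype
      intro q hq
      rw [hcr q hq, mul_inv_cancel_right]
      exact hq
    have hW2 : IsPGroup 2 W := by
      have := hz2.to_sup_of_normal_right' M.base.sylQ.two hzn
      rwa [sup_comm] at this
    have h1 := M.base.sylQ.max W hW2 le_sup_left (sup_le M.base.sylQ.le (by rwa [zpowers_le]))
    exact h1 (le_sup_right (a := Q) (mem_zpowers c))
  rw [hab]
  exact mul_mem (M.base.Q_le hcQ) hpT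

end CaseB

end Cfsg.Agent.OddHalf.D4.Sz
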