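import Mathlib

/-!
# LEMMA TV (helper216's text bb ODD #11407, typed by helper514)

`X` finite, `S` a Sylow 2-subgroup, `W ≤ S` elementary abelian of index 2, `y ∈ S - W` an involution with
`|W : C_W(y)| > 4`. Then no `X`-conjugate of `y` lies in `W`.
-/

set_option autoImplicit false

open Subgroup

namespace Cfsg.Agent.OddHalf.D4.Sz.TV

variable {X : Type*} [Group X]

/-- the data: `T` a group (later a Sylow 2-subgroup), `W` elementary abelian of index 2, `y` an involution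
outside `W` -/
structure Dat (T W : Subgroup X) (y : X) : Prop where
  hW : W ≤ T
  hi : W.relIndex T = 2
  he : ∀ w ∈ W, w * w = 1
  hy : y ∈ T
  hyW : y ∉ W
  hyy : y * y = 1
  hC : 4 < (W ⊓ centralizer {y}).relIndex W

/-- the axis `C_W(y)` -/
def HH (W : Subgroup X) (y : X) : Subgroup X := W ⊓ centralizer {y}

/-- `C_T(y)` -/
def EE (T : Subgroup X) (y : X) : Subgroup X := T ⊓ centralizer {y}

theorem mem_HH {W : Subgroup X} {y h : X} : h ∈ HH W y ↔ h ∈ W ∧ h * y = y * h := by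
  unfold HH
  rw [mem_inf, mem_centralizer_singleton_iff]

theorem mem_EE {T : Subgroup X} {y h : X} : h ∈ EE T y ↔ h ∈ T ∧ h * y = y * h := by
  unfold EE
  rw [mem_inf, mem_centralizer_singleton_iff]

namespace Dat

variable {T W : Subgroup X} {y : X} (D : Dat T W y)

include D

theorem mul_mem_iff {a b : X} (ha : a ∈ T) (hb : b ∈ T) : a * b ∈ W ↔ (a ∈ W ↔ b ∈ W) := by
  have h : (W.subgroupOf T).index = 2 := D.hi
  have h1 := Subgroup.mul_mem_iff_of_index_two h (a := ⟨a, ha⟩) (b := ⟨b, hb⟩)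
  simpa [mem_subgroupOf] using h1

theorem y_inv : y⁻¹ = y := inv_eq_of_mul_eq_one_left D.hyy

theorem inv_W {w : X} (hw : w ∈ W) : w⁻¹ = w := inv_eq_of_mul_eq_one_left (D.he w hw)

theorem comm_W {v w : X} (hv : v ∈ W) (hw : w ∈ W) : v * w = w * v := by
  have h := D.he _ (W.mul_mem hv hw)
  have h1 : v * w = (v * w)⁻¹ := (inv_eq_of_mul_eq_one_left h).symm
  rw [h1, mul_inv_rev, D.inv_W hv, D.inv_W hw]

theorem ymem {t : X} (ht : t ∈ T) (htW : t ∉ W) : y * t ∈ W := by
  rw [D.mul_mem_iff D.hy ht]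
  exact ⟨fun h => absurd h D.hyW, fun h => absurd h htW⟩

theorem yw {w : X} (hw : w ∈ W) : y * w * y ∈ W := by
  have h1 : y * w ∉ W := by
    rw [D.mul_mem_iff D.hy (D.hW hw)]
    exact fun h => D.hyW (h.2 hw)
  rw [D.mul_mem_iff (T.mul_mem D.hy (D.hW hw)) D.hy]
  exact ⟨fun h => absurd h h1, fun h => absurd h D.hyW⟩

/-- `[w, y]` -/
theorem delta_mem {w : X} (hw : w ∈ W) : w * (y * w * y) ∈ W := W.mul_mem hw (D.yw hw)

theorem delta_comm {w : X} (hw : w ∈ W) : w * (y * w * y) * y = y * (w * (y * w * y)) := by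
  have h := D.comm_W hw (D.yw hw)
  calc w * (y * w * y) * y = y * w * y * w * y := by rw [h]
    _ = y * (w * (y * w * y)) := by group

theorem delta_mem_HH {w : X} (hw : w ∈ W) : w * (y * w * y) ∈ HH W y :=
  mem_HH.2 ⟨D.delta_mem hw, D.delta_comm hw⟩

theorem delta_mul {v w : X} (hv : v ∈ W) (hw : w ∈ W) :
    v * w * (y * (v * w) * y) = v * (y * v * y) * (w * (y * w * y)) := by
  have h1 : y * (v * w) * y = (y * v * y) * (y * w * y) := by
    calc y * (v * w) * y = y * v * 1 * w * y := by group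
      _ = y * v * (y * y) * w * y := by rw [D.hyy]
      _ = (y * v * y) * (y * w * y) := by group
  rw [h1]
  calc v * w * ((y * v * y) * (y * w * y)) = v * (w * (y * v * y)) * (y * w * y) := by group
    _ = v * ((y * v * y) * w) * (y * w * y) := by rw [D.comm_W hw (D.yw hv)]
    _ = v * (y * v * y) * (w * (y * w * y)) := by group

theorem delta_of_HH {h : X} (hh : h ∈ HH W y) : h * (y * h * y) = 1 := by
  obtain ⟨h1, h2⟩ := mem_HH.1 hh
  calc h * (y * h * y) = h * (h * y * y) := by rw [h2]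
    _ = h * h * (y * y) := by group
    _ = 1 := by rw [D.he _ h1, D.hyy, mul_one]

theorem HH_le_EE : HH W y ≤ EE T y := fun h hh =>
  mem_EE.2 ⟨D.hW (mem_HH.1 hh).1, (mem_HH.1 hh).2⟩

theorem y_mem_EE : y ∈ EE T y := mem_EE.2 ⟨D.hy, rfl⟩

/-- `H` centralizes `T` -/
theorem comm_HH {h t : X} (hh : h ∈ HH W y) (ht : t ∈ T) : h * t = t * h := by
  obtain ⟨h1, h2⟩ := mem_HH.1 hh
  by_cases htW : t ∈ W
  · exact D.comm_W h1 htW
  · have h3 := D.comm_W h1 (D.ymem ht htW)
    have h4 : h * t = y * (h * (y * t)) := by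
      calc h * t = h * (y * y) * t := by rw [D.hyy, mul_one]
        _ = h * y * (y * t) := by group
        _ = y * h * (y * t) := by rw [h2]
        _ = y * (h * (y * t)) := by group
    rw [h4, h3]
    calc y * (y * t * h) = y * y * (t * h) := by group
      _ = t * h := by rw [D.hyy, one_mul]

theorem EE_cases {e : X} (he : e ∈ EE T y) : e ∈ HH W y ∨ y * e ∈ HH W y := by
  obtain ⟨h1, h2⟩ := mem_EE.1 he
  by_cases h : e ∈ W
  · exact Or.inl (mem_HH.2 ⟨h, h2⟩)
  · refine Or.inr (mem_HH.2 ⟨D.ymem h1 h, ?_⟩)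
    calc y * e * y = y * (e * y) := by group
      _ = y * (y * e) := by rw [h2]

theorem eq_of_EE {e : X} (he : e ∈ EE T y) (h : e ∉ HH W y) : ∃ k ∈ HH W y, e = y * k := by
  rcases D.EE_cases he with h1 | h1
  · exact absurd h1 h
  · exact ⟨_, h1, by rw [← mul_assoc, D.hyy, one_mul]⟩

theorem EE_comm {a b : X} (ha : a ∈ EE T y) (hb : b ∈ EE T y) : a * b = b * a := by
  rcases D.EE_cases ha with h | h
  · exact D.comm_HH h (mem_EE.1 hb).1
  · have h1 := D.comm_HH h (mem_EE.1 hb).1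
    have h2 := (mem_EE.1 hb).2
    calc a * b = y * y * a * b := by rw [D.hyy, one_mul]
      _ = y * (y * a * b) := by group
      _ = y * (b * (y * a)) := by rw [h1]
      _ = (y * b) * (y * a) := by group
      _ = b * y * (y * a) := by rw [h2]
      _ = b * (y * y) * a := by group
      _ = b * a := by rw [D.hyy, mul_one]

theorem EE_sq {a : X} (ha : a ∈ EE T y) : a * a = 1 := by
  by_cases h : a ∈ HH W y
  · exact D.he _ (mem_HH.1 h).1
  · obtain ⟨k, hk, rfl⟩ := D.eq_of_EE ha h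
    have h1 := (mem_HH.1 hk).2
    calc y * k * (y * k) = y * (k * y) * k := by group
      _ = y * (y * k) * k := by rw [h1]
      _ = (y * y) * (k * k) := by group
      _ = 1 := by rw [D.hyy, D.he _ (mem_HH.1 hk).1, mul_one]

theorem W_inf_EE : W ⊓ EE T y = HH W y := by
  ext x
  rw [mem_inf, mem_EE, mem_HH]
  exact ⟨fun h => ⟨h.1, h.2.2⟩, fun h => ⟨h.1, D.hW h.1, h.2⟩⟩

theorem y_not_mem_HH : y ∉ HH W y := fun h => D.hyW (mem_HH.1 h).1

theorem relIndex_HH_EE : (HH W y).relIndex (EE T y) = 2 := by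
  rw [← D.W_inf_EE, inf_relIndex_right]
  have h1 : W.relIndex (EE T y) ≤ 2 := by
    rw [← D.hi]
    exact relIndex_le_of_le_right inf_le_left (by rw [D.hi]; norm_num)
  have h2 : W.relIndex (EE T y) ≠ 0 := by
    intro h
    have := relIndex_eq_zero_of_le_right (K := EE T y) (L := T) inf_le_left h
    rw [D.hi] at this
    exact absurd this (by norm_num)
  have h3 : W.relIndex (EE T y) ≠ 1 := by
    intro h
    rw [relIndex_eq_one] at h
    exact D.hyW (h D.y_mem_EE)
  omega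

/-- conjugation by `w ∈ W` is trivial on `H` -/
theorem conj_W_in {w e : X} (hw : w ∈ W) (h : e ∈ HH W y) : w * e * w⁻¹ = e := by
  rw [← D.comm_HH h (D.hW hw), mul_inv_cancel_right]

/-- conjugation by `w ∈ W` on `E - H` is multiplication by `[w, y]` -/
theorem conj_W_out {w e : X} (hw : w ∈ W) (he : e ∈ EE T y) (h : e ∉ HH W y) :
    w * e * w⁻¹ = w * (y * w * y) * e := by
  rw [D.inv_W hw]
  obtain ⟨k, hk, rfl⟩ := D.eq_of_EE he h
  have h1 := D.comm_HH hk (D.hW hw)
  calc w * (y * k) * w = w * y * (k * w) := by group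
    _ = w * y * (w * k) := by rw [h1]
    _ = w * (y * w * y) * (y⁻¹ * k) := by group
    _ = w * (y * w * y) * (y * k) := by rw [D.y_inv]

theorem W_le_normalizer : W ≤ normalizer (EE T y : Set X) := by
  have key : ∀ w ∈ W, ∀ e ∈ EE T y, w * e * w⁻¹ ∈ EE T y := by
    intro w hw e he
    by_cases h : e ∈ HH W y
    · rw [D.conj_W_in hw h]
      exact he
    · rw [D.conj_W_out hw he h]
      exact mul_mem (D.HH_le_EE (D.delta_mem_HH hw)) he
  intro w hw
  rw [mem_normalizer_iff]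
  intro e
  refine ⟨fun h => key w hw e h, fun h => ?_⟩
  have h1 := key w⁻¹ (inv_mem hw) _ h
  have h2 : w⁻¹ * (w * e * w⁻¹) * w⁻¹⁻¹ = e := by group
  rwa [h2] at h1

omit D in
theorem EE_le_normalizer : EE T y ≤ normalizer (EE T y : Set X) := le_normalizer

theorem T_le_normalizer : T ≤ normalizer (EE T y : Set X) := by
  intro t ht
  by_cases h : t ∈ W
  · exact D.W_le_normalizer h
  · have h1 := D.W_le_normalizer (D.ymem ht h)
    have h2 := EE_le_normalizer D.y_mem_EE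
    have h3 := mul_mem h2 h1
    have h4 : y * (y * t) = t := by rw [← mul_assoc, D.hyy, one_mul]
    rwa [h4] at h3

/-- `C_W(E) = H` -/
theorem centralizer_inf {A : Subgroup X} (hA : A ≤ W) (hHA : HH W y ≤ A) :
    centralizer (EE T y : Set X) ⊓ A = HH W y := by
  ext x
  rw [mem_inf, mem_centralizer_iff]
  constructor
  · rintro ⟨h1, h2⟩
    exact mem_HH.2 ⟨hA h2, (h1 y D.y_mem_EE).symm⟩
  · intro h
    exact ⟨fun e he => (D.comm_HH h (mem_EE.1 he).1).symm, hHA h⟩

/-- `C_T(E) = E` -/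
theorem centralizer_inf_T : centralizer (EE T y : Set X) ⊓ T = EE T y := by
  ext x
  rw [mem_inf, mem_centralizer_iff]
  constructor
  · rintro ⟨h1, h2⟩
    exact mem_EE.2 ⟨h2, (h1 y D.y_mem_EE).symm⟩
  · intro h
    exact ⟨fun e he => D.EE_comm he h, (mem_EE.1 h).1⟩

theorem EE_le_centralizer : EE T y ≤ centralizer (EE T y : Set X) := fun _ hx =>
  mem_centralizer_iff.2 fun _ he => D.EE_comm he hx

/-- the elements of `W` whose commutator with `y` lies in `K` -/
def AA (D : Dat T W y) (K : Subgroup X) : Subgroup X where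
  carrier := {w | w ∈ W ∧ w * (y * w * y) ∈ K}
  mul_mem' := by
    rintro a b ⟨ha, ha'⟩ ⟨hb, hb'⟩
    exact ⟨W.mul_mem ha hb, by rw [D.delta_mul ha hb]; exact K.mul_mem ha' hb'⟩
  one_mem' := ⟨W.one_mem, by simp [D.hyy]⟩
  inv_mem' := by
    rintro a ⟨ha, ha'⟩
    rw [D.inv_W ha]
    exact ⟨ha, ha'⟩

theorem mem_AA {K : Subgroup X} {w : X} : w ∈ D.AA K ↔ w ∈ W ∧ w * (y * w * y) ∈ K := Iff.rfl

theorem AA_le (K : Subgroup X) : D.AA K ≤ W := fun _ h => h.1

theorem HH_le_AA (K : Subgroup X) : HH W y ≤ D.AA K := fun h hh =>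
  ⟨(mem_HH.1 hh).1, by rw [D.delta_of_HH hh]; exact K.one_mem⟩

theorem relIndex_AA {K : Subgroup X} (hK : K.relIndex (EE T y) = 2) : (D.AA K).relIndex W ∣ 2 := by
  have hmul : ∀ a ∈ EE T y, ∀ b ∈ EE T y, a ∉ K → b ∉ K → a * b ∈ K := by
    intro a ha b hb h1 h2
    have h : (K.subgroupOf (EE T y)).index = 2 := hK
    have h3 := Subgroup.mul_mem_iff_of_index_two h (a := ⟨a, ha⟩) (b := ⟨b, hb⟩)
    have h4 : a * b ∈ K ↔ (a ∈ K ↔ b ∈ K) := by simpa [mem_subgroupOf] using h3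
    exact h4.2 ⟨fun h => absurd h h1, fun h => absurd h h2⟩
  rw [relIndex_dvd_two_iff]
  by_cases h : ∀ b ∈ W, b * (y * b * y) ∈ K
  · exact ⟨1, W.one_mem, fun b hb => Or.inr ⟨hb, h b hb⟩⟩
  · push Not at h
    obtain ⟨a, ha, ha'⟩ := h
    refine ⟨a, ha, fun b hb => ?_⟩
    by_cases h1 : b * (y * b * y) ∈ K
    · exact Or.inr ⟨hb, h1⟩
    · refine Or.inl ⟨W.mul_mem hb ha, ?_⟩
      rw [D.delta_mul hb ha]
      exact hmul _ (D.HH_le_EE (D.delta_mem_HH hb)) _ (D.HH_le_EE (D.delta_mem_HH ha)) h1 ha'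

end Dat

section card

theorem centralizer_le (E : Subgroup X) : centralizer (E : Set X) ≤ normalizer (E : Set X) := by
  intro c hc
  rw [mem_normalizer_iff]
  intro e
  have h1 : ∀ e ∈ E, c * e * c⁻¹ = e := fun e he => by
    rw [← mem_centralizer_iff.1 hc e he, mul_inv_cancel_right]
  refine ⟨fun h => by rw [h1 e h]; exact h, fun h => ?_⟩
  have h2 : c⁻¹ * (c * e * c⁻¹) * c = c * e * c⁻¹ := by
    have := mem_centralizer_iff.1 hc _ h
    rw [mul_assoc, this, inv_mul_cancel_left]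
  have h3 : c⁻¹ * (c * e * c⁻¹) * c = e := by group
  rw [← h3, h2]
  exact h

variable [Finite X]

/-- `U ≤ C(E)` and `P` induced by `N(E)` on `E`, both 2-groups: `|U||P| ≤ |S|` -/
theorem card_mul_le (S : Sylow 2 X) (E : Subgroup X) {U : Subgroup X} (hU : IsPGroup 2 U)
    (hUC : U ≤ centralizer (E : Set X)) {P : Subgroup (MulAut E)} (hP : IsPGroup 2 P)
    (hPr : P ≤ E.normalizerMonoidHom.range) : Nat.card U * Nat.card P ≤ Nat.card S := by
  have h1 : Nat.card U ∣ Nat.card (centralizer (E : Set X)) := Subgroup.card_dvd_of_le hUC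
  have h2 : Nat.card P ∣ Nat.card E.normalizerMonoidHom.range := Subgroup.card_dvd_of_le hPr
  have h3 : Nat.card (centralizer (E : Set X)) * Nat.card E.normalizerMonoidHom.range =
      Nat.card (normalizer (E : Set X)) := by
    rw [← Subgroup.index_ker, normalizerMonoidHom_ker,
      ← Subgroup.card_mul_index ((centralizer (E : Set X)).subgroupOf (normalizer (E : Set X))),
      Nat.card_congr (subgroupOfEquivOfLe (centralizer_le E)).toEquiv]
  have h4 : Nat.card U * Nat.card P ∣ Nat.card X :=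
    (Nat.mul_dvd_mul h1 h2).trans (h3 ▸ Subgroup.card_subgroup_dvd_card _)
  obtain ⟨a, ha⟩ := hU.exists_card_eq
  obtain ⟨b, hb⟩ := hP.exists_card_eq
  rw [ha, hb, ← pow_add] at h4 ⊢
  rw [Sylow.card_eq_multiplicity S]
  exact Nat.pow_le_pow_right (by norm_num)
    ((Nat.prime_two.pow_dvd_iff_le_factorization Nat.card_pos.ne').1 h4)

omit [Finite X] in
theorem card_map {T W : Subgroup X} {y : X} (D : Dat T W y) (E : Subgroup X) (hE : EE T y = E)
    (K : Subgroup X) : Nat.card (((D.AA K).subgroupOf (normalizer (E : Set X))).map E.normalizerMonoidHom) =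
      (HH W y).relIndex (D.AA K) := by
  subst hE
  rw [← relIndex_ker, normalizerMonoidHom_ker, relIndex_subgroupOf ((D.AA_le K).trans D.W_le_normalizer),
    ← inf_relIndex_right, D.centralizer_inf (D.AA_le K) (D.HH_le_AA K)]

omit [Finite X] in
theorem card_mul_relIndex {A B : Subgroup X} (h : A ≤ B) : Nat.card A * A.relIndex B = Nat.card B := by
  have h1 := Subgroup.card_mul_index (A.subgroupOf B)
  rwa [Nat.card_congr (subgroupOfEquivOfLe h).toEquiv] at h1

theorem card_mul_le_sup {G : Type*} [Group G] [Finite G] {P Q : Subgroup G}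
    (h0 : ∀ x ∈ P, x ∈ Q → x = 1) : Nat.card P * Nat.card Q ≤ Nat.card ↥(P ⊔ Q) := by
  rw [← Nat.card_prod]
  refine Nat.card_le_card_of_injective
    (fun x : P × Q => (⟨x.1 * x.2, mul_mem (mem_sup_left x.1.2) (mem_sup_right x.2.2)⟩ : ↥(P ⊔ Q))) ?_
  rintro ⟨a, b⟩ ⟨c, d⟩ h
  have h1 : (a : G) * b = c * d := congrArg Subtype.val h
  have h2 : (c : G)⁻¹ * a = d * (b : G)⁻¹ := by
    rw [inv_mul_eq_iff_eq_mul, ← mul_assoc, ← h1, mul_inv_cancel_right]
  have h3 : (c : G)⁻¹ * a = 1 := h0 _ (P.mul_mem (P.inv_mem c.2) a.2)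
    (h2 ▸ Q.mul_mem d.2 (Q.inv_mem b.2))
  have h4 : (a : G) = c := by
    rw [inv_mul_eq_one] at h3
    exact h3.symm
  have h5 : (b : G) = d := by
    rw [h4] at h1
    exact mul_left_cancel h1
  exact Prod.ext (Subtype.ext h4) (Subtype.ext h5)

/-- two axes in `E`: too many transvections -/
theorem two_axes (S : Sylow 2 X) {W W' T' : Subgroup X} {y y' : X} (D : Dat (S : Subgroup X) W y)
    (D' : Dat T' W' y') (hT : Nat.card T' = Nat.card S) (E : Subgroup X) (hE : EE S y = E)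
    (hE' : EE T' y' = E) (hH : HH W y ≠ HH W' y') : False := by
  have hK : (HH W y).relIndex E = 2 := hE ▸ D.relIndex_HH_EE
  have hK' : (HH W' y').relIndex E = 2 := hE' ▸ D'.relIndex_HH_EE
  have hHE : HH W y ≤ E := hE ▸ D.HH_le_EE
  have hHE' : HH W' y' ≤ E := hE' ▸ D'.HH_le_EE
  obtain ⟨ρ, hρ⟩ : ∃ ρ, ρ = E.normalizerMonoidHom := ⟨_, rfl⟩
  have hρa : ∀ (g : normalizer (E : Set X)) (e : E), ((ρ g e : E) : X) = g * e * (g : X)⁻¹ := by
    intro g e
    rw [hρ]
    rfl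
  obtain ⟨P, hP⟩ : ∃ P, P = ((D.AA (HH W' y')).subgroupOf (normalizer (E : Set X))).map ρ := ⟨_, rfl⟩
  obtain ⟨Q, hQ⟩ : ∃ Q, Q = ((D'.AA (HH W y)).subgroupOf (normalizer (E : Set X))).map ρ := ⟨_, rfl⟩
  have hcP : Nat.card P = (HH W y).relIndex (D.AA (HH W' y')) := by
    rw [hP, hρ]
    exact card_map D E hE _
  have hcQ : Nat.card Q = (HH W' y').relIndex (D'.AA (HH W y)) := by
    rw [hQ, hρ]
    exact card_map D' E hE' _
  -- the formulas
  have f1 : ∀ w ∈ D.AA (HH W' y'), ∀ e ∈ HH W y, w * e * w⁻¹ = e := fun w hw e he =>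
    D.conj_W_in hw.1 he
  have f2 : ∀ w ∈ D.AA (HH W' y'), ∀ e ∈ E, e ∉ HH W y → w * e * w⁻¹ = w * (y * w * y) * e :=
    fun w hw e he h => D.conj_W_out hw.1 (hE ▸ he) h
  have f1' : ∀ w ∈ D'.AA (HH W y), ∀ e ∈ HH W' y', w * e * w⁻¹ = e := fun w hw e he =>
    D'.conj_W_in hw.1 he
  have f2' : ∀ w ∈ D'.AA (HH W y), ∀ e ∈ E, e ∉ HH W' y' → w * e * w⁻¹ = w * (y' * w * y') * e :=
    fun w hw e he h => D'.conj_W_out hw.1 (hE' ▸ he) h
  have hcomm : ∀ a ∈ P, ∀ b ∈ Q, a * b = b * a := by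
    rw [hP, hQ]
    rintro _ ⟨⟨w, hwN⟩, hw, rfl⟩ _ ⟨⟨v, hvN⟩, hv, rfl⟩
    replace hw : w ∈ D.AA (HH W' y') := hw
    replace hv : v ∈ D'.AA (HH W y) := hv
    have d1 : w * (y * w * y) ∈ HH W y := D.delta_mem_HH hw.1
    have d2 : w * (y * w * y) ∈ HH W' y' := hw.2
    have d3 : v * (y' * v * y') ∈ HH W' y' := D'.delta_mem_HH hv.1
    have d4 : v * (y' * v * y') ∈ HH W y := hv.2
    apply MulEquiv.ext
    rintro ⟨e, he⟩
    apply Subtype.ext
    rw [MulAut.mul_apply, MulAut.mul_apply, hρa, hρa, hρa, hρa]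
    change w * (v * e * v⁻¹) * w⁻¹ = v * (w * e * w⁻¹) * v⁻¹
    by_cases h1 : e ∈ HH W y <;> by_cases h2 : e ∈ HH W' y'
    · rw [f1' v hv e h2, f1 w hw e h1, f1' v hv e h2]
    · rw [f2' v hv e he h2, f1 w hw e h1, f2' v hv e he h2, f1 w hw _ (mul_mem d4 h1)]
    · rw [f1' v hv e h2, f2 w hw e he h1, f1' v hv _ (mul_mem d2 h2)]
    · rw [f2' v hv e he h2, f2 w hw e he h1,
        f2 w hw _ (mul_mem (hHE d4) he) (fun h => h1 ((Subgroup.mul_mem_cancel_left _ d4).1 h)),
        f2' v hv _ (mul_mem (hHE d1) he) (fun h => h2 ((Subgroup.mul_mem_cancel_left _ d2).1 h)),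
        ← mul_assoc (w * (y * w * y)) (v * (y' * v * y')) e,
        D.EE_comm (D.HH_le_EE d1) (D.HH_le_EE d4), mul_assoc]
  have hdis : ∀ x ∈ P, x ∈ Q → x = 1 := by
    rw [hP, hQ]
    rintro _ ⟨⟨w, hwN⟩, hw, rfl⟩ ⟨⟨v, hvN⟩, hv, hvw⟩
    replace hw : w ∈ D.AA (HH W' y') := hw
    replace hv : v ∈ D'.AA (HH W y) := hv
    obtain ⟨x, hx, hx'⟩ : ∃ x ∈ HH W y, x ∉ HH W' y' := by
      by_contra hcon
      push Not at hcon
      apply hH
      have h1 : HH W y ≤ HH W' y' := hcon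
      have h2 := relIndex_mul_relIndex (HH W y) (HH W' y') E h1 hHE'
      rw [hK, hK'] at h2
      have h3 : (HH W y).relIndex (HH W' y') = 1 := by omega
      exact le_antisymm h1 (relIndex_eq_one.1 h3)
    have hd : v * (y' * v * y') = 1 := by
      have h1 := congrArg (fun φ : MulAut E => ((φ ⟨x, hHE hx⟩ : E) : X)) hvw
      simp only [hρa] at h1
      rw [f2' v hv x (hHE hx) hx', f1 w hw x hx] at h1
      exact mul_eq_right.1 h1
    rw [← hvw]
    apply MulEquiv.ext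
    rintro ⟨e, he⟩
    apply Subtype.ext
    rw [hρa]
    change v * e * v⁻¹ = e
    by_cases h2 : e ∈ HH W' y'
    · exact f1' v hv e h2
    · rw [f2' v hv e he h2, hd, one_mul]
  have hp2 : IsPGroup 2 W := fun w => ⟨1, by
    apply Subtype.ext
    rw [pow_one, pow_two]
    exact D.he _ w.2⟩
  have hp2' : IsPGroup 2 W' := fun w => ⟨1, by
    apply Subtype.ext
    rw [pow_one, pow_two]
    exact D'.he _ w.2⟩
  have hPp : IsPGroup 2 P := by
    rw [hP]
    refine IsPGroup.map ?_ _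
    exact (hp2.to_le (D.AA_le _)).comap_of_injective _ (Subgroup.subtype_injective _)
  have hQp : IsPGroup 2 Q := by
    rw [hQ]
    refine IsPGroup.map ?_ _
    exact (hp2'.to_le (D'.AA_le _)).comap_of_injective _ (Subgroup.subtype_injective _)
  have hPQ : IsPGroup 2 ↥(P ⊔ Q) := by
    refine IsPGroup.to_sup_of_normal_right' hPp hQp ?_
    intro a ha
    refine centralizer_le Q ?_
    rw [mem_centralizer_iff]
    exact fun b hb => (hcomm a ha b hb).symm
  have hEp : IsPGroup 2 E := fun e => ⟨1, by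
    apply Subtype.ext
    rw [pow_one, pow_two]
    exact D.EE_sq (hE ▸ e.2)⟩
  have hle := card_mul_le S E hEp (hE ▸ D.EE_le_centralizer) hPQ (by
    rw [hP, hQ, hρ]
    exact sup_le (map_le_range _ _) (map_le_range _ _))
  have hle2 := card_mul_le_sup hdis
  -- numbers
  have n1 : (HH W y).relIndex (D.AA (HH W' y')) * (D.AA (HH W' y')).relIndex W = (HH W y).relIndex W :=
    relIndex_mul_relIndex _ _ _ (D.HH_le_AA _) (D.AA_le _)
  have n1' : (HH W' y').relIndex (D'.AA (HH W y)) * (D'.AA (HH W y)).relIndex W' = (HH W' y').relIndex W' :=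
    relIndex_mul_relIndex _ _ _ (D'.HH_le_AA _) (D'.AA_le _)
  have n2 : (D.AA (HH W' y')).relIndex W ≤ 2 := Nat.le_of_dvd (by norm_num) (D.relIndex_AA (hE ▸ hK'))
  have n2' : (D'.AA (HH W y)).relIndex W' ≤ 2 := Nat.le_of_dvd (by norm_num) (D'.relIndex_AA (hE' ▸ hK))
  have n3 : Nat.card (HH W y) * 2 = Nat.card E := by
    have h := card_mul_relIndex hHE
    rwa [hK] at h
  have n3' : Nat.card (HH W' y') * 2 = Nat.card E := by
    have h := card_mul_relIndex hHE'
    rwa [hK'] at h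
  have n4 : Nat.card W * 2 = Nat.card S := by
    have h := card_mul_relIndex D.hW
    rwa [D.hi] at h
  have n4' : Nat.card W' * 2 = Nat.card T' := by
    have h := card_mul_relIndex D'.hW
    rwa [D'.hi] at h
  have n5 : Nat.card (HH W y) * (HH W y).relIndex W = Nat.card W := card_mul_relIndex inf_le_left
  have n5' : Nat.card (HH W' y') * (HH W' y').relIndex W' = Nat.card W' := card_mul_relIndex inf_le_left
  have hb : 4 < (HH W y).relIndex W := D.hC
  have hpos : 0 < Nat.card (HH W y) := Nat.card_pos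
  have hHH : Nat.card (HH W' y') = Nat.card (HH W y) := by omega
  have hbb : (HH W' y').relIndex W' = (HH W y).relIndex W := by
    have hWW : Nat.card W' = Nat.card W := by omega
    rw [hHH, hWW, ← n5] at n5'
    exact Nat.eq_of_mul_eq_mul_left hpos n5'
  rw [hbb] at n1'
  rw [← hcP] at n1
  rw [← hcQ] at n1'
  obtain ⟨b, hbdef⟩ : ∃ b, b = (HH W y).relIndex W := ⟨_, rfl⟩
  rw [← hbdef] at n1 n1' hb n5
  have m1 : b ≤ Nat.card P * 2 := by rw [← n1]; exact Nat.mul_le_mul_left _ n2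
  have m2 : b ≤ Nat.card Q * 2 := by rw [← n1']; exact Nat.mul_le_mul_left _ n2'
  have m3 : Nat.card P * Nat.card Q ≤ b := by
    have h1 : Nat.card E * (Nat.card P * Nat.card Q) ≤ Nat.card E * b := by
      calc Nat.card E * (Nat.card P * Nat.card Q) ≤ Nat.card E * Nat.card ↥(P ⊔ Q) := Nat.mul_le_mul_left _ hle2
        _ ≤ Nat.card S := hle
        _ = Nat.card E * b := by rw [← n4, ← n5, ← n3]; ring
    exact Nat.le_of_mul_le_mul_left h1 Nat.card_pos
  have m4 : b * b ≤ 4 * b := by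
    calc b * b ≤ (Nat.card P * 2) * (Nat.card Q * 2) := Nat.mul_le_mul m1 m2
      _ = 4 * (Nat.card P * Nat.card Q) := by ring
      _ ≤ 4 * b := Nat.mul_le_mul_left _ m3
  have m5 : b ≤ 4 := Nat.le_of_mul_le_mul_right m4 (by omega)
  omega

end card

section conj

/-- conjugate of a subgroup -/
def cj (g : X) (A : Subgroup X) : Subgroup X := A.map (MulAut.conj g).toMonoidHom

theorem mem_cj {g x : X} {A : Subgroup X} : x ∈ cj g A ↔ g⁻¹ * x * g ∈ A := by
  constructor
  · rintro ⟨a, ha, rfl⟩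
    have h : g⁻¹ * (MulAut.conj g).toMonoidHom a * g = a := by
      change g⁻¹ * (g * a * g⁻¹) * g = a
      group
    rwa [h]
  · intro h
    refine ⟨_, h, ?_⟩
    change g * (g⁻¹ * x * g) * g⁻¹ = x
    group

theorem conj_mem_cj {g x : X} {A : Subgroup X} (h : x ∈ A) : g * x * g⁻¹ ∈ cj g A := ⟨x, h, rfl⟩

theorem card_cj (g : X) (A : Subgroup X) : Nat.card (cj g A) = Nat.card A :=
  Subgroup.card_map_of_injective (MulAut.conj g).injective

theorem cj_mono {g : X} {A B : Subgroup X} (h : A ≤ B) : cj g A ≤ cj g B := map_mono h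

theorem cj_inf_centralizer (g y : X) (A : Subgroup X) :
    cj g A ⊓ centralizer {g * y * g⁻¹} = cj g (A ⊓ centralizer {y}) := by
  ext x
  rw [mem_inf, mem_cj, mem_cj, mem_inf, mem_centralizer_singleton_iff, mem_centralizer_singleton_iff]
  have h : x * (g * y * g⁻¹) = g * y * g⁻¹ * x ↔ g⁻¹ * x * g * y = y * (g⁻¹ * x * g) := by
    constructor
    · intro h
      calc g⁻¹ * x * g * y = g⁻¹ * (x * (g * y * g⁻¹)) * g := by group
        _ = g⁻¹ * (g * y * g⁻¹ * x) * g := by rw [h]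
        _ = y * (g⁻¹ * x * g) := by group
    · intro h
      calc x * (g * y * g⁻¹) = g * (g⁻¹ * x * g * y) * g⁻¹ := by group
        _ = g * (y * (g⁻¹ * x * g)) * g⁻¹ := by rw [h]
        _ = g * y * g⁻¹ * x := by group
  rw [h]

theorem Dat.conj {T W : Subgroup X} {y : X} (D : Dat T W y) (g : X) :
    Dat (cj g T) (cj g W) (g * y * g⁻¹) where
  hW := cj_mono D.hW
  hi := by
    unfold cj
    rw [relIndex_map_map_of_injective _ _ (MulAut.conj g).injective]
    exact D.hi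
  he := by
    intro w hw
    have h1 := D.he _ (mem_cj.1 hw)
    have h2 : w * w = g * (g⁻¹ * w * g * (g⁻¹ * w * g)) * g⁻¹ := by group
    rw [h2, h1]
    group
  hy := conj_mem_cj D.hy
  hyW := by
    intro h
    apply D.hyW
    have h1 := mem_cj.1 h
    have h2 : g⁻¹ * (g * y * g⁻¹) * g = y := by group
    rwa [h2] at h1
  hyy := by
    have h2 : g * y * g⁻¹ * (g * y * g⁻¹) = g * (y * y) * g⁻¹ := by group
    rw [h2, D.hyy]
    group
  hC := by
    rw [cj_inf_centralizer]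
    unfold cj
    rw [relIndex_map_map_of_injective _ _ (MulAut.conj g).injective]
    exact D.hC

theorem mem_smul_sylow {p : ℕ} {S : Sylow p X} {k x : X} :
    x ∈ ((k • S : Sylow p X) : Subgroup X) ↔ k⁻¹ * x * k ∈ (S : Subgroup X) := by
  rw [Sylow.coe_subgroup_smul, Subgroup.mem_pointwise_smul_iff_inv_smul_mem]
  simp [MulAut.smul_def, ← map_inv, MulAut.conj_apply]

end conj

namespace Dat

variable {T W : Subgroup X} {y : X} (D : Dat T W y)

include D

/-- elements of `W` commuting with an element of `T - W` lie in `H` -/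
theorem mem_HH_of_comm {f u : X} (hf : f ∈ T) (hfW : f ∉ W) (hu : u ∈ W) (huf : u * f = f * u) :
    u ∈ HH W y := by
  refine mem_HH.2 ⟨hu, ?_⟩
  have h1 := D.comm_W hu (D.ymem hf hfW)
  have h2 : u * y * f = y * u * f := by
    calc u * y * f = u * (y * f) := by group
      _ = y * f * u := h1
      _ = y * (f * u) := by group
      _ = y * (u * f) := by rw [huf]
      _ = y * u * f := by group
  exact mul_right_cancel h2

theorem relIndex_le {A : Subgroup X} (hA : A ≤ T) : W.relIndex A ≤ 2 := by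
  rw [← D.hi]
  exact relIndex_le_of_le_right hA (by rw [D.hi]; norm_num)

variable [Finite X]

theorem card_HH : 4 * Nat.card (HH W y) < Nat.card W := by
  have h1 : Nat.card (HH W y) * (HH W y).relIndex W = Nat.card W := card_mul_relIndex inf_le_left
  have h2 : 4 < (HH W y).relIndex W := D.hC
  have h3 : 0 < Nat.card (HH W y) := Nat.card_pos
  rw [← h1, mul_comm]
  exact Nat.mul_lt_mul_of_pos_left h2 h3

theorem card_EE : Nat.card (EE T y) = 2 * Nat.card (HH W y) := by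
  have h := card_mul_relIndex D.HH_le_EE
  rw [D.relIndex_HH_EE] at h
  omega

/-- `W` is the only abelian subgroup of index 2 -/
theorem eq_of_abelian {A : Subgroup X} (hAT : A ≤ T) (hc : Nat.card A = Nat.card W)
    (hab : ∀ a ∈ A, ∀ b ∈ A, a * b = b * a) : A = W := by
  by_cases hle : A ≤ W
  · exact Subgroup.eq_of_le_of_card_ge hle hc.ge
  · exfalso
    obtain ⟨a, ha, haW⟩ := SetLike.not_le_iff_exists.1 hle
    have h1 : W ⊓ A ≤ HH W y := fun u hu =>
      D.mem_HH_of_comm (hAT ha) haW hu.1 (hab u hu.2 a ha)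
    have h2 : Nat.card ↥(W ⊓ A) * (W ⊓ A).relIndex A = Nat.card A := card_mul_relIndex inf_le_right
    rw [inf_relIndex_right] at h2
    have h3 := D.relIndex_le hAT
    have h4 : Nat.card ↥(W ⊓ A) ≤ Nat.card (HH W y) := Nat.card_le_card_of_injective _ (inclusion_injective h1)
    have h5 := D.card_HH
    have h6 : Nat.card A ≤ Nat.card (HH W y) * 2 := by
      rw [← h2]
      exact Nat.mul_le_mul h4 h3
    omega

/-- an elementary abelian subgroup of `T` of order `|E|` not contained in `W` is `E` -/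
theorem eq_EE {F : Subgroup X} (hFT : F ≤ T) (hc : Nat.card F = Nat.card (EE T y))
    (hab : ∀ a ∈ F, ∀ b ∈ F, a * b = b * a) (hsq : ∀ a ∈ F, a * a = 1) (hle : ¬ F ≤ W) : F = EE T y := by
  obtain ⟨f, hf, hfW⟩ := SetLike.not_le_iff_exists.1 hle
  have h1 : W ⊓ F ≤ HH W y := fun u hu =>
    D.mem_HH_of_comm (hFT hf) hfW hu.1 (hab u hu.2 f hf)
  -- `f ∈ E`
  have hfE : f ∈ EE T y := by
    refine mem_EE.2 ⟨hFT hf, ?_⟩
    have hu := D.ymem (hFT hf) hfW
    have h2 := D.he _ hu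
    have h3 := hsq f hf
    -- y f y f = 1, f f = 1
    have h4 : y * f = (y * f)⁻¹ := (inv_eq_of_mul_eq_one_left h2).symm
    rw [mul_inv_rev, D.y_inv, inv_eq_of_mul_eq_one_left h3] at h4
    exact h4.symm
  have h5 : F ≤ EE T y := by
    intro x hx
    by_cases hxW : x ∈ W
    · exact D.HH_le_EE (h1 ⟨hxW, hx⟩)
    · have h6 : f * x ∈ W := by
        rw [D.mul_mem_iff (hFT hf) (hFT hx)]
        exact ⟨fun h => absurd h hfW, fun h => absurd h hxW⟩
      have h7 := D.HH_le_EE (h1 ⟨h6, mul_mem hf hx⟩)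
      have h8 := mul_mem (inv_mem hfE) h7
      rwa [inv_mul_cancel_left] at h8
  exact Subgroup.eq_of_le_of_card_ge h5 hc.ge

end Dat

/-- `C(E)` has no 2-subgroup of order `|W|` -/
theorem not_le_W [Finite X] (S : Sylow 2 X) {W : Subgroup X} {y : X} (D : Dat (S : Subgroup X) W y) {U : Subgroup X}
    (hU : IsPGroup 2 U) (hc : Nat.card U = Nat.card W) (hUC : U ≤ centralizer (EE (S : Subgroup X) y : Set X)) :
    False := by
  obtain ⟨E, hE⟩ : ∃ E, E = EE (S : Subgroup X) y := ⟨_, rfl⟩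
  rw [← hE] at hUC
  have hr : Nat.card (((S : Subgroup X).subgroupOf (normalizer (E : Set X))).map E.normalizerMonoidHom) =
      E.relIndex (S : Subgroup X) := by
    rw [← relIndex_ker, normalizerMonoidHom_ker, relIndex_subgroupOf (by rw [hE]; exact D.T_le_normalizer),
      ← inf_relIndex_right, hE, D.centralizer_inf_T]
  have hP : IsPGroup 2 (((S : Subgroup X).subgroupOf (normalizer (E : Set X))).map E.normalizerMonoidHom) := by
    refine IsPGroup.map ?_ _
    exact S.2.comap_of_injective _ (Subgroup.subtype_injective _)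
  have h1 := card_mul_le S E hU hUC hP (map_le_range _ _)
  rw [hr, hc] at h1
  have h2 : Nat.card E * E.relIndex (S : Subgroup X) = Nat.card S := by
    refine card_mul_relIndex ?_
    rw [hE]
    exact inf_le_left
  rw [← h2] at h1
  have h3 : 0 < E.relIndex (S : Subgroup X) := Nat.pos_of_ne_zero (fun h => by
    rw [h, mul_zero] at h2
    exact (Nat.card_pos (α := S)).ne h2)
  have h4 := Nat.le_of_mul_le_mul_right h1 h3
  have h5 := D.card_HH
  have h6 := D.card_EE
  rw [← hE] at h6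
  omega

/-- **LEMMA TV.** -/
theorem main [Finite X] (S : Sylow 2 X) {W : Subgroup X} {y : X} (D : Dat (S : Subgroup X) W y) (g : X) :
    g * y * g⁻¹ ∉ W := by
  intro hw
  have hWp : IsPGroup 2 W := fun w => ⟨1, by
    apply Subtype.ext
    rw [pow_one, pow_two]
    exact D.he _ w.2⟩
  have hEp : IsPGroup 2 (EE (S : Subgroup X) y) := fun e => ⟨1, by
    apply Subtype.ext
    rw [pow_one, pow_two]
    exact D.EE_sq e.2⟩
  -- reduction to `E^g ≤ S`
  obtain ⟨g', hg1, hg2⟩ : ∃ g' : X, g' * y * g'⁻¹ ∈ W ∧ cj g' (EE (S : Subgroup X) y) ≤ S := by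
    obtain ⟨w, hwd⟩ : ∃ w, w = g * y * g⁻¹ := ⟨_, rfl⟩
    rw [← hwd] at hw
    have hWC : W ≤ centralizer {w} := fun v hv => mem_centralizer_singleton_iff.2 (D.comm_W hv hw)
    obtain ⟨R, hR⟩ := (hWp.comap_of_injective (centralizer {w}).subtype
      (Subgroup.subtype_injective _)).exists_le_sylow
    obtain ⟨S', hS'⟩ := (R.2.map (centralizer {w}).subtype).exists_le_sylow
    obtain ⟨k, hk⟩ := MulAction.exists_smul_eq X S S'
    have hWR : W ≤ S' := fun v hv => hS' ⟨⟨v, hWC hv⟩, hR hv, rfl⟩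
    have hkW : cj k⁻¹ W = W := by
      refine D.eq_of_abelian ?_ (card_cj _ _) ?_
      · intro x hx
        have h1 := hWR (mem_cj.1 hx)
        rw [← hk, mem_smul_sylow] at h1
        have h2 : k⁻¹ * (k⁻¹⁻¹ * x * k⁻¹) * k = x := by group
        rwa [h2] at h1
      · rintro _ ⟨a, ha, rfl⟩ _ ⟨b, hb, rfl⟩
        rw [← map_mul, ← map_mul, D.comm_W ha hb]
    have hFC : cj g (EE (S : Subgroup X) y) ≤ centralizer {w} := by
      rintro _ ⟨e, he, rfl⟩
      rw [mem_centralizer_singleton_iff, hwd]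
      change g * e * g⁻¹ * (g * y * g⁻¹) = g * y * g⁻¹ * (g * e * g⁻¹)
      have h1 := (mem_EE.1 he).2
      calc g * e * g⁻¹ * (g * y * g⁻¹) = g * (e * y) * g⁻¹ := by group
        _ = g * (y * e) * g⁻¹ := by rw [h1]
        _ = _ := by group
    obtain ⟨R2, hR2⟩ := ((hEp.map (MulAut.conj g).toMonoidHom).comap_of_injective (centralizer {w}).subtype
      (Subgroup.subtype_injective _)).exists_le_sylow
    obtain ⟨c, hc⟩ := MulAction.exists_smul_eq ↥(centralizer {w}) R2 R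
    refine ⟨k⁻¹ * c * g, ?_, ?_⟩
    · have h1 : k⁻¹ * c * g * y * (k⁻¹ * c * g)⁻¹ = k⁻¹ * (c * w * (c : X)⁻¹) * k⁻¹⁻¹ := by
        calc k⁻¹ * c * g * y * (k⁻¹ * c * g)⁻¹ = k⁻¹ * (c * (g * y * g⁻¹) * (c : X)⁻¹) * k⁻¹⁻¹ := by group
          _ = _ := by rw [← hwd]
      have h2 : (c : X) * w * (c : X)⁻¹ = w := by
        rw [mem_centralizer_singleton_iff.1 c.2, mul_inv_cancel_right]
      rw [h1, h2]
      have h3 : k⁻¹ * w * k⁻¹⁻¹ ∈ cj k⁻¹ W := conj_mem_cj hw
      rwa [hkW] at h3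
    · rintro _ ⟨e, he, rfl⟩
      have h1 : (⟨g * e * g⁻¹, hFC (conj_mem_cj he)⟩ : ↥(centralizer {w})) ∈ (R2 : Subgroup ↥(centralizer {w})) :=
        hR2 (conj_mem_cj he)
      have h2 : c * ⟨g * e * g⁻¹, hFC (conj_mem_cj he)⟩ * c⁻¹ ∈ (R : Subgroup ↥(centralizer {w})) := by
        rw [← hc, mem_smul_sylow]
        have h3 : c⁻¹ * (c * ⟨g * e * g⁻¹, hFC (conj_mem_cj he)⟩ * c⁻¹) * c =
            ⟨g * e * g⁻¹, hFC (conj_mem_cj he)⟩ := by group
        rwa [h3]
      have h3 := hS' ⟨_, h2, rfl⟩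
      rw [← hk, mem_smul_sylow] at h3
      have h4 : k⁻¹ * (centralizer {w}).subtype (c * ⟨g * e * g⁻¹, hFC (conj_mem_cj he)⟩ * c⁻¹) * k =
          (MulAut.conj (k⁻¹ * c * g)).toMonoidHom e := by
        change k⁻¹ * ((c : X) * (g * e * g⁻¹) * (c : X)⁻¹) * k = k⁻¹ * c * g * e * (k⁻¹ * c * g)⁻¹
        group
      rwa [h4] at h3
  -- (i)
  have hne : ¬ cj g' (EE (S : Subgroup X) y) ≤ W := by
    intro h
    refine not_le_W S D (U := cj g'⁻¹ W) (hWp.map _) (card_cj _ _) ?_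
    rintro _ ⟨v, hv, rfl⟩
    rw [mem_centralizer_iff]
    intro e he
    have h1 := D.comm_W hv (h (conj_mem_cj he))
    change e * (g'⁻¹ * v * g'⁻¹⁻¹) = g'⁻¹ * v * g'⁻¹⁻¹ * e
    calc e * (g'⁻¹ * v * g'⁻¹⁻¹) = g'⁻¹ * ((g' * e * g'⁻¹) * v) * g' := by group
      _ = g'⁻¹ * (v * (g' * e * g'⁻¹)) * g' := by rw [h1]
      _ = _ := by group
  -- (ii)
  have hEq : cj g' (EE (S : Subgroup X) y) = EE (S : Subgroup X) y := by
    refine D.eq_EE hg2 (card_cj _ _) ?_ ?_ hne
    · rintro _ ⟨a, ha, rfl⟩ _ ⟨b, hb, rfl⟩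
      rw [← map_mul, ← map_mul, D.EE_comm ha hb]
    · rintro _ ⟨a, ha, rfl⟩
      rw [← map_mul, D.EE_sq ha, map_one]
  -- (iii)
  refine two_axes S D (D.conj g') (card_cj _ _) _ rfl ?_ ?_
  · unfold EE
    rw [cj_inf_centralizer]
    exact hEq
  · intro h
    have h1 : g' * y * g'⁻¹ ∈ HH W y := by
      refine mem_HH.2 ⟨hg1, ?_⟩
      have h2 : g' * y * g'⁻¹ ∈ cj g' (EE (S : Subgroup X) y) := conj_mem_cj D.y_mem_EE
      rw [hEq] at h2
      exact (mem_EE.1 h2).2
    rw [h] at h1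
    exact (D.conj g').hyW (mem_HH.1 h1).1

end Cfsg.Agent.OddHalf.D4.Sz.TV

open Cfsg.Agent.OddHalf.D4.Sz.TV in
/-- **LEMMA TV**, literal form. -/
theorem Cfsg.Agent.OddHalf.D4.Sz.TV.tv {X : Type*} [Group X] [Finite X] (S : Sylow 2 X) (W : Subgroup X)
    (hW : W ≤ S) (hi : W.relIndex S = 2) (he : ∀ w ∈ W, w * w = 1) (y : X) (hy : y ∈ S) (hyW : y ∉ W)
    (hyy : y * y = 1) (hC : 4 < (W ⊓ centralizer {y}).relIndex W) (g : X) : g * y * g⁻¹ ∉ W :=
  main S ⟨hW, hi, he, hy, hyW, hyy, hC⟩ g
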