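import Cfsg.Agent.OddHalf.D4.Sz.SwapC
import Cfsg.Agent.OddHalf.D4.Sz.TV
import Cfsg.Agent.OddHalf.D4.Sz.Wreath

/-!
# ODD, D4, `K = Sz(q)`, `q ≥ 32`: the configuration `Pre` + `Glob` is contradictory

Extremal transfer at the involution `y₀` commuting with `{p a b}`, and LEMMA TV in `N(Z) / Z`.
-/

set_option autoImplicit false
set_option linter.unusedSectionVars false

namespace Cfsg.Agent.OddHalf.D4.Sz

open Subgroup Cfsg.Agent.StdSz.EquivMaps Cfsg.Agent.StdSz.SzMaps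

/-- LEMMA TV in `N(Z) / Z` -/
theorem quot_tv {G : Type*} [Group G] [Finite G] (S : Sylow 2 G) {Z W : Subgroup G} (hZW : Z ≤ W)
    (hWS : W ≤ (S : Subgroup G)) (hSZ : (S : Subgroup G) ≤ normalizer (Z : Set G))
    (hi : W.relIndex (S : Subgroup G) = 2)
    (he : ∀ w ∈ W, w * w ∈ Z) {y : G} (hy : y ∈ (S : Subgroup G)) (hyW : y ∉ W) (hyy : y * y = 1)
    {ι : Type*} [Finite ι] (hι : 4 < Nat.card ι) (ee : ι → G) (hee : ∀ i, ee i ∈ W)
    (hinj : ∀ i j, ((ee i)⁻¹ * ee j) * y * ((ee i)⁻¹ * ee j)⁻¹ * y⁻¹ ∈ Z → i = j)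
    {g : G} (hgZ : g ∈ normalizer (Z : Set G)) : g * y * g⁻¹ ∉ W := by
  intro hg
  have h2 : Fact (Nat.Prime 2) := ⟨Nat.prime_two⟩
  set N : Subgroup G := normalizer (Z : Set G) with hN
  set Zn : Subgroup N := Z.subgroupOf N with hZn
  have hnorm : Zn.Normal := normal_in_normalizer
  set π : N →* N ⧸ Zn := QuotientGroup.mk' Zn with hπ
  have hπs : Function.Surjective π := QuotientGroup.mk'_surjective Zn
  have hker : π.ker = Zn := QuotientGroup.ker_mk' Zn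
  have hπ1 : ∀ x : N, π x = 1 ↔ (x : G) ∈ Z := by
    intro x
    rw [← MonoidHom.mem_ker, hker, hZn, mem_subgroupOf]
  have hWN : W ≤ N := hWS.trans hSZ
  set S' : Sylow 2 (N ⧸ Zn) := (S.subtype hSZ).mapSurjective hπs with hS'
  have hS'c : (S' : Subgroup (N ⧸ Zn)) = ((S : Subgroup G).subgroupOf N).map π := rfl
  set W' : Subgroup (N ⧸ Zn) := (W.subgroupOf N).map π with hW'
  have hW'S : W' ≤ (S' : Subgroup (N ⧸ Zn)) := by
    rw [hS'c]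
    exact map_mono fun x hx => hWS hx
  have hi' : W'.relIndex (S' : Subgroup (N ⧸ Zn)) = 2 := by
    rw [hS'c, hW', relIndex_map_map, hker]
    have e1 : W.subgroupOf N ⊔ Zn = W.subgroupOf N := sup_eq_left.mpr fun x hx => hZW hx
    have e2 : (S : Subgroup G).subgroupOf N ⊔ Zn = (S : Subgroup G).subgroupOf N :=
      sup_eq_left.mpr fun x hx => hWS (hZW hx)
    rw [e1, e2, relIndex_subgroupOf hSZ, hi]
  have hmemW : ∀ x : N, π x ∈ W' ↔ (x : G) ∈ W := by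
    intro x
    constructor
    · rintro ⟨w, hw, hwx⟩
      have h3 : π (w⁻¹ * x) = 1 := by rw [map_mul, map_inv, hwx, inv_mul_cancel]
      rw [hπ1] at h3
      have h4 := W.mul_mem (show (w : G) ∈ W from hw) (hZW h3)
      have e : (w : G) * ((w⁻¹ * x : N) : G) = x := by simp
      rwa [e] at h4
    · intro hx
      exact ⟨x, hx, rfl⟩
  have he' : ∀ w ∈ W', w * w = 1 := by
    rintro _ ⟨w, hw, rfl⟩
    rw [← map_mul, hπ1]
    exact he _ hw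
  set y' : N ⧸ Zn := π ⟨y, hSZ hy⟩ with hy'
  have hyS' : y' ∈ (S' : Subgroup (N ⧸ Zn)) := by
    rw [hS'c]
    exact ⟨⟨y, hSZ hy⟩, hy, rfl⟩
  have hyW' : y' ∉ W' := fun h => hyW ((hmemW _).mp h)
  have hyy' : y' * y' = 1 := by
    rw [hy', ← map_mul, hπ1]
    show y * y ∈ Z
    rw [hyy]; exact one_mem _
  have hC : 4 < (W' ⊓ centralizer {y'}).relIndex W' := by
    refine lt_of_lt_of_le hι ?_
    set C : Subgroup W' := (W' ⊓ centralizer {y'}).subgroupOf W' with hCd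
    have e : (W' ⊓ centralizer {y'}).relIndex W' = Nat.card (W' ⧸ C) := rfl
    rw [e]
    let φ : ι → W' ⧸ C := fun i => QuotientGroup.mk (⟨π ⟨ee i, hWN (hee i)⟩, (hmemW _).mpr (hee i)⟩ : W')
    apply Nat.card_le_card_of_injective φ
    intro i j hij
    apply hinj
    have h3 := QuotientGroup.eq.mp hij
    rw [hCd, mem_subgroupOf, mem_inf, mem_centralizer_singleton_iff] at h3
    have h4 := h3.2
    have h5 : π (⟨ee i, hWN (hee i)⟩⁻¹ * ⟨ee j, hWN (hee j)⟩ * ⟨y, hSZ hy⟩ *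
        (⟨ee i, hWN (hee i)⟩⁻¹ * ⟨ee j, hWN (hee j)⟩)⁻¹ * ⟨y, hSZ hy⟩⁻¹) = 1 := by
      rw [map_mul, map_mul, map_mul, map_inv, map_inv, map_mul, map_inv]
      have h6 : (π ⟨ee i, hWN (hee i)⟩)⁻¹ * π ⟨ee j, hWN (hee j)⟩ * π ⟨y, hSZ hy⟩ =
        π ⟨y, hSZ hy⟩ * ((π ⟨ee i, hWN (hee i)⟩)⁻¹ * π ⟨ee j, hWN (hee j)⟩) := h4
      rw [h6]
      group
    rw [hπ1] at h5
    exact h5
  refine TV.tv S' W' hW'S hi' he' y' hyS' hyW' hyy' hC (π ⟨g, hgZ⟩) ?_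
  have e : π ⟨g, hgZ⟩ * y' * (π ⟨g, hgZ⟩)⁻¹ = π (⟨g, hgZ⟩ * ⟨y, hSZ hy⟩ * ⟨g, hgZ⟩⁻¹) := by
    rw [map_mul, map_mul, map_inv]
  rw [e, hmemW]
  exact hg

namespace Pre

variable {G : Type*} [Group G] [Finite G] {F : Type*} [Field F] [Fintype F] [CharP F 2] {m : ℕ} {P : Pre G F m}

theorem Tor.e_ne {S : Sylow 2 G} {κ : G} {l e : F} (K : Tor P S κ l e) : e ≠ 1 := by
  intro h
  apply K.l_one
  apply Cfsg.Agent.StdSz.FormAlg.norm_inj P.hF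
  rw [← K.ee, h, one_pow, mul_one]

theorem Tor.nu_ne {S : Sylow 2 G} {κ : G} {l e : F} (K : Tor P S κ l e) : l ^ (1 + 2 ^ (m + 1)) ≠ 1 := by
  intro h
  apply K.l_one
  apply Cfsg.Agent.StdSz.FormAlg.norm_inj P.hF
  rw [h, one_pow]

theorem fix_zero {e x : F} (he : e ≠ 1) (h : e * x = x) : x = 0 := by
  have h1 : (e - 1) * x = 0 := by linear_combination h
  exact (mul_eq_zero.mp h1).resolve_left (sub_ne_zero.mpr he)

/-- `C_T(κ) = 1` -/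
theorem Tor.fix {S : Sylow 2 G} {κ : G} {l e : F} (K : Tor P S κ l e) {x : G} (hx : x ∈ P.T)
    (h : κ * x * κ⁻¹ = x) : x = 1 := by
  have h1 := K.f x hx
  have h2 := K.a x hx
  have h3 := K.c x hx
  rw [h] at h1 h2 h3
  obtain ⟨b, rfl⟩ := P.eq_z_of hx (fix_zero K.e_ne h1.symm) (fix_zero K.l_one h2.symm) (fix_zero K.e_ne h3.symm)
  rw [K.z] at h
  rw [fix_zero K.nu_ne (P.z_inj h), P.p_zero]

/-- the involution `y₀` commuting with `κ` -/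
theorem Full.exists_y0 {S : Sylow 2 G} {y : G} {g k : F} (Fu : Full P S y g k) {κ : G} {l e : F}
    (K : Tor P S κ l e) : ∃ y₀, Full P S y₀ g k ∧ κ * y₀ * κ⁻¹ = y₀ ∧ y₀ * y₀ = 1 := by
  have ht := Fu.conj_y K.nS K.nT
  have hmem : ∀ w : P.T, κ * (w : G)⁻¹ * κ⁻¹ * w ∈ P.T := fun w => mul_mem (P.conj_T K.nT (inv_mem w.2)) w.2
  let φ : P.T → P.T := fun w => ⟨κ * (w : G)⁻¹ * κ⁻¹ * w, hmem w⟩
  have hinj : Function.Injective φ := by
    intro w v hwv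
    have h1 : κ * (w : G)⁻¹ * κ⁻¹ * w = κ * (v : G)⁻¹ * κ⁻¹ * v := congrArg Subtype.val hwv
    have h2 : κ * ((v : G) * (w : G)⁻¹) * κ⁻¹ = v * (w : G)⁻¹ := by
      calc κ * ((v : G) * (w : G)⁻¹) * κ⁻¹ = (κ * (v : G)⁻¹ * κ⁻¹)⁻¹ * (κ * (w : G)⁻¹ * κ⁻¹ * w) * (w : G)⁻¹ := by group
        _ = (κ * (v : G)⁻¹ * κ⁻¹)⁻¹ * (κ * (v : G)⁻¹ * κ⁻¹ * v) * (w : G)⁻¹ := by rw [h1]
        _ = _ := by group
    have h3 := K.fix (mul_mem v.2 (inv_mem w.2)) h2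
    exact Subtype.ext (mul_inv_eq_one.mp h3).symm
  obtain ⟨w, hw⟩ := (Finite.injective_iff_surjective.mp hinj) ⟨_, ht⟩
  have hw' : κ * (w : G)⁻¹ * κ⁻¹ * w = κ * y * κ⁻¹ * y⁻¹ := congrArg Subtype.val hw
  have Y' := Fu.ys.mul_left w.2
  have hcom : κ * (w * y) * κ⁻¹ = w * y := by
    calc κ * (w * y) * κ⁻¹ = (κ * w * κ⁻¹) * (κ * y * κ⁻¹ * y⁻¹) * y := by group
      _ = (κ * w * κ⁻¹) * (κ * (w : G)⁻¹ * κ⁻¹ * w) * y := by rw [hw']
      _ = _ := by group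
  refine ⟨w * y, ⟨Fu.TS, mul_mem (Fu.TS w.2) Fu.yS, Y', fun x hx => ?_⟩, hcom, ?_⟩
  · rcases Fu.cov x hx with h | h
    · exact Or.inl h
    · right
      have e : x * ((w : G) * y)⁻¹ = x * y⁻¹ * (w : G)⁻¹ := by group
      rw [e]
      exact mul_mem h (inv_mem w.2)
  · apply K.fix Y'.sq
    calc κ * (w * y * (w * y)) * κ⁻¹ = (κ * (w * y) * κ⁻¹) * (κ * (w * y) * κ⁻¹) := by group
      _ = _ := by rw [hcom]

/-- `y₀` commutes with `{p a b}` -/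
theorem Full.comm_p {S : Sylow 2 G} {y : G} {g k : F} (Fu : Full P S y g k) {κ : G} {l e : F}
    (K : Tor P S κ l e) (hy : κ * y * κ⁻¹ = y) (a b : F) : y * P.p a b = P.p a b * y := by
  -- `ζ`
  have h1 : ∀ a, ∃ z, y * P.p a 0 * y⁻¹ = P.p a z := by
    intro a
    have h2 := P.conj_T Fu.ys.nT (P.T_p a 0)
    obtain ⟨z, hz⟩ := P.exists_z_mul h2 (P.T_p a 0)
      (by rw [Fu.ys.f _ (P.T_p a 0), P.act_p, P.fC_p, mul_zero])
      (by rw [Fu.ys.a _ (P.T_p a 0)])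
      (by rw [Fu.ys.c _ (P.T_p a 0), P.act_p, P.fC_p, mul_zero])
    exact ⟨z, by rw [hz, P.z_mul_p, add_zero]⟩
  choose ζ hζ using h1
  -- `δ`
  have h2 : ∀ a, ∃ z, κ * P.p a 0 * κ⁻¹ = P.p (l * a) z := by
    intro a
    have h2 := P.conj_T K.nT (P.T_p a 0)
    obtain ⟨z, hz⟩ := P.exists_z_mul h2 (P.T_p (l * a) 0)
      (by rw [K.f _ (P.T_p a 0), P.fC_p, P.fC_p, mul_zero])
      (by rw [K.a _ (P.T_p a 0), P.aC_p, P.aC_p])
      (by rw [K.c _ (P.T_p a 0), P.act_p, P.act_p, mul_zero])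
    exact ⟨z, by rw [hz, P.z_mul_p, add_zero]⟩
  choose δ hδ using h2
  have hζ' : ∀ a b, y * P.p a b * y⁻¹ = P.p a (b + ζ a) := by
    intro a b
    have e1 : P.p a b = P.p 0 b * P.p a 0 := by rw [P.z_mul_p, add_zero]
    have e2 : y * P.p a b * y⁻¹ = (y * P.p 0 b * y⁻¹) * (y * P.p a 0 * y⁻¹) := by rw [e1]; group
    rw [e2, Fu.ys.z, hζ, P.z_mul_p]
  have hadd : ∀ a a', ζ (a + a') = ζ a + ζ a' := by
    intro a a'
    have e1 : P.p a 0 * P.p a' 0 = P.p (a + a') (a ^ (2 ^ (m + 1)) * a') := by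
      rw [P.p_mul, add_zero, zero_add]
    have e2 : y * (P.p a 0 * P.p a' 0) * y⁻¹ = (y * P.p a 0 * y⁻¹) * (y * P.p a' 0 * y⁻¹) := by group
    rw [e1, hζ', hζ, hζ, P.p_mul] at e2
    have e3 := (P.p_inj _ _ _ _ e2).2
    linear_combination e3
  have heq : ∀ a, ζ (l * a) = l ^ (1 + 2 ^ (m + 1)) * ζ a := by
    intro a
    have e1 : κ * (y * P.p a 0 * y⁻¹) * κ⁻¹ = y * (κ * P.p a 0 * κ⁻¹) * y⁻¹ := by
      calc κ * (y * P.p a 0 * y⁻¹) * κ⁻¹ = (κ * y * κ⁻¹) * (κ * P.p a 0 * κ⁻¹) * (κ * y * κ⁻¹)⁻¹ := by group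
        _ = _ := by rw [hy]
    have e2 : P.p a (ζ a) = P.p 0 (ζ a) * P.p a 0 := by rw [P.z_mul_p, add_zero]
    have e3 : κ * (P.p 0 (ζ a) * P.p a 0) * κ⁻¹ = (κ * P.p 0 (ζ a) * κ⁻¹) * (κ * P.p a 0 * κ⁻¹) := by group
    rw [hζ, hδ, hζ', e2, e3, K.z, hδ, P.z_mul_p] at e1
    have e4 := (P.p_inj _ _ _ _ e1).2
    linear_combination -e4
  have hpow : ∀ n : ℕ, ∀ a, ζ (l ^ n * a) = (l ^ n) ^ (1 + 2 ^ (m + 1)) * ζ a := by
    intro n
    induction n with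
    | zero => intro a; rw [pow_zero, one_mul, one_pow, one_mul]
    | succ n ih =>
      intro a
      have e1 : l ^ (n + 1) * a = l ^ n * (l * a) := by ring
      rw [e1, ih, heq]
      ring
  have hz : ∀ a, ζ a = 0 := by
    intro a
    refine Weights.map_12 (m := m) (by have := P.hm; omega) P.hF ζ hadd (fun c x hc => ?_) a
    obtain ⟨n, rfl⟩ := K.gen c hc
    exact hpow n x
  have h3 := hζ' a b
  rw [hz, add_zero] at h3
  calc y * P.p a b = (y * P.p a b * y⁻¹) * y := by group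
    _ = _ := by rw [h3]

/-- the set containing the commutators of `S` -/
def InD (P : Pre G F m) (g : F) (x : G) : Prop := x ∈ P.T ∧ P.aC x = 0 ∧ P.act x = g * P.fC x

theorem Full.comm_D {S : Sylow 2 G} {y : G} {g k : F} (Fu : Full P S y g k) {a b : G}
    (ha : a ∈ (S : Subgroup G)) (hb : b ∈ (S : Subgroup G)) : InD P g (a * b * a⁻¹ * b⁻¹) := by
  -- `a ∈ T`, `b ∉ T`
  have key : ∀ a ∈ P.T, ∀ b, b * y⁻¹ ∈ P.T → InD P g (a * b * a⁻¹ * b⁻¹) := by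
    intro a ha b hb
    have Y' := Fu.ys.mul_right hb
    have h1 := P.conj_T Y'.nT (inv_mem ha)
    have e : a * b * a⁻¹ * b⁻¹ = a * (b * a⁻¹ * b⁻¹) := by group
    rw [e]
    refine ⟨mul_mem ha h1, ?_, ?_⟩
    · rw [P.aC_mul ha h1, Y'.a _ (inv_mem ha), P.aC_inv ha, CharTwo.add_self_eq_zero]
    · rw [P.act_mul ha h1, P.fC_mul ha h1, Y'.c _ (inv_mem ha), Y'.f _ (inv_mem ha), P.act_inv ha, P.fC_inv ha]
      linear_combination -P.act a * Y'.gk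
  have key2 : ∀ a ∈ P.T, ∀ b, b * y⁻¹ ∈ P.T → InD P g (b * a * b⁻¹ * a⁻¹) := by
    intro a ha b hb
    have Y' := Fu.ys.mul_right hb
    have h1 := P.conj_T Y'.nT ha
    refine ⟨mul_mem h1 (inv_mem ha), ?_, ?_⟩
    · rw [P.aC_mul h1 (inv_mem ha), Y'.a _ ha, P.aC_inv ha, CharTwo.add_self_eq_zero]
    · rw [P.act_mul h1 (inv_mem ha), P.fC_mul h1 (inv_mem ha), Y'.c _ ha, Y'.f _ ha, P.act_inv ha, P.fC_inv ha]
      linear_combination -P.act a * Y'.gk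
  rcases Fu.cov a ha with h1 | h1
  · rcases Fu.cov b hb with h2 | h2
    · obtain ⟨c, hc⟩ := P.exists_comm h1 h2
      have e : a * b * a⁻¹ * b⁻¹ = P.p 0 c := by rw [hc]; group
      rw [e]
      exact ⟨P.T_p _ _, P.aC_p _ _, by rw [P.act_p, P.fC_p, mul_zero]⟩
    · exact key a h1 b h2
  · rcases Fu.cov b hb with h2 | h2
    · exact key2 b h2 a h1
    · have h3 : b * a⁻¹ ∈ P.T := by
        have := mul_mem h2 (inv_mem h1)
        have e : b * y⁻¹ * (a * y⁻¹)⁻¹ = b * a⁻¹ := by group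
        rwa [e] at this
      have h4 := key2 _ h3 a h1
      have e : a * (b * a⁻¹) * a⁻¹ * (b * a⁻¹)⁻¹ = a * b * a⁻¹ * b⁻¹ := by group
      rwa [e] at h4

theorem InD.eq_z (Si : Simp P) {g : F} (hg : g ≠ 0) {x : G} (h : InD P g x) (hx : x * x = 1) : ∃ b, x = P.p 0 b := by
  obtain ⟨h1, h2, h3⟩ := h
  have h4 : P.sq x = 0 := P.sq_eq h1 (by rw [hx, P.p_zero])
  rw [Si.sq h1, h2, h3, zero_pow (by omega), zero_add] at h4
  have h5 : g * (P.fC x * P.fC x) = 0 := by rw [← h4]; ring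
  have h6 : P.fC x = 0 := by
    rcases mul_eq_zero.mp h5 with h | h
    · exact absurd h hg
    · exact mul_self_eq_zero.mp h
  exact P.eq_z_of h1 h6 h2 (by rw [h3, h6, mul_zero])

variable (P) in
/-- the group `Z` -/
def ZZ : Subgroup G where
  carrier := {x | ∃ b, x = P.p 0 b}
  one_mem' := ⟨0, P.p_zero.symm⟩
  mul_mem' := by
    rintro _ _ ⟨b, rfl⟩ ⟨c, rfl⟩
    exact ⟨b + c, P.z_mul b c⟩
  inv_mem' := by
    rintro _ ⟨b, rfl⟩
    exact ⟨b, P.z_inv b⟩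

theorem mem_ZZ {x : G} : x ∈ P.ZZ ↔ ∃ b, x = P.p 0 b := Iff.rfl

include P in
/-- the values of the form `bt` are all of `F` -/
theorem bt_surj (c : F) : ∃ a b : F, a * b ^ (2 ^ (m + 1)) + a ^ (2 ^ (m + 1)) * b = c := by
  by_cases hc : c = 0
  · exact ⟨0, 0, by rw [hc, zero_mul, mul_zero, zero_add]⟩
  obtain ⟨t, ht0, ht1⟩ := P.exists_ne_one
  have hv : t ^ (2 ^ (m + 1)) + t ≠ 0 := by
    intro h
    have h1 := eq_neg_of_add_eq_zero_left h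
    rw [CharTwo.neg_eq] at h1
    rcases Cfsg.Agent.StdSz.FormAlg.eq_of_th_eq P.hF h1 with h2 | h2
    · exact ht0 h2
    · exact ht1 h2
  obtain ⟨u, hu⟩ := P.scal (l := c / (t ^ (2 ^ (m + 1)) + t)) (div_ne_zero hc hv)
  refine ⟨u, u * t, ?_⟩
  have h1 : (u : F) ^ (1 + 2 ^ (m + 1)) * (t ^ (2 ^ (m + 1)) + t) = c := by
    rw [hu, div_mul_cancel₀ _ hv]
  rw [← h1]
  ring

/-- **the configuration is contradictory** -/
theorem false (P : Pre G F m) (Gl : P.Glob) : False := by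
  have h2 : Fact (Nat.Prime 2) := ⟨Nat.prime_two⟩
  obtain ⟨S, y', g, k, Fu'⟩ := Gl.exists_Full
  have Si : Simp P := by
    apply Gl.simp (u := y')
    refine ⟨Fu'.ys.nT, fun h => ?_⟩
    have h3 := Gl.norm y' Fu'.ys.nT h (by
      obtain ⟨k, hk⟩ := S.2 ⟨y', Fu'.yS⟩
      exact ⟨k, by simpa using congrArg Subtype.val hk⟩)
    exact Fu'.ys.notMem h3
  obtain ⟨κ, l, e, K⟩ := Gl.exists_Tor Si Fu'
  obtain ⟨y, Fu, hyκ, hyy⟩ := Fu'.exists_y0 K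
  have hyp := Fu.comm_p K hyκ
  have hi : P.T.relIndex (S : Subgroup G) = 2 := by
    rw [relIndex_eq_two_iff_exists_notMem_and]
    refine ⟨y, Fu.yS, Fu.ys.notMem, fun b hb => ?_⟩
    rcases Fu.cov b hb with h | h
    · exact Or.inr h
    · left
      have hy1 : y⁻¹ = y := inv_eq_of_mul_eq_one_left hyy
      rwa [hy1] at h
  -- extremal transfer
  obtain ⟨g₀, hg1, hg2⟩ := Wreath.exists_extremal Gl.noIdx S Fu.TS hi hyy (T := (S : Subgroup G) ⊓ centralizer {y})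
    (S.2.to_le inf_le_left) (fun t ht => mem_centralizer_singleton_iff.1 ht.2)
    ⟨Fu.yS, mem_centralizer_singleton_iff.2 rfl⟩
  -- `g₀` normalizes `Z`
  have hp : ∀ a b, g₀⁻¹ * P.p a b * g₀ ∈ (S : Subgroup G) := fun a b =>
    hg1 _ ⟨Fu.TS (P.T_p a b), mem_centralizer_singleton_iff.2 (hyp a b).symm⟩
  have hZ : g₀⁻¹ ∈ normalizer (P.ZZ : Set G) := by
    apply mem_normalizer_fintype
    rintro _ ⟨c, rfl⟩
    rw [inv_inv]
    obtain ⟨a, b, hab⟩ := P.bt_surj c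
    have h3 : P.p 0 c = P.p a 0 * P.p b 0 * (P.p a 0)⁻¹ * (P.p b 0)⁻¹ := by
      have h4 := P.cm_spec (P.T_p a 0) (P.T_p b 0)
      have h5 : P.cm (P.p a 0) (P.p b 0) = c := by
        rw [Si.cm (P.T_p a 0) (P.T_p b 0), P.aC_p, P.aC_p, P.act_p, P.act_p, zero_mul, zero_mul, add_zero,
          add_zero, hab]
      rw [h4, h5]; group
    have h4 := Fu.comm_D (hp a 0) (hp b 0)
    have e : g₀⁻¹ * P.p a 0 * g₀ * (g₀⁻¹ * P.p b 0 * g₀) * (g₀⁻¹ * P.p a 0 * g₀)⁻¹ * (g₀⁻¹ * P.p b 0 * g₀)⁻¹ =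
        g₀⁻¹ * P.p 0 c * g₀ := by rw [h3]; group
    rw [e] at h4
    refine h4.eq_z Si Fu.ys.g_ne ?_
    calc g₀⁻¹ * P.p 0 c * g₀ * (g₀⁻¹ * P.p 0 c * g₀) = g₀⁻¹ * (P.p 0 c * P.p 0 c) * g₀ := by group
      _ = 1 := by rw [P.z_self]; group
  -- TV
  have hSZ : (S : Subgroup G) ≤ normalizer (P.ZZ : Set G) := by
    intro x hx
    apply mem_normalizer_fintype
    rintro _ ⟨b, rfl⟩
    rcases Fu.cov x hx with h | h
    · exact ⟨b, by rw [P.T_Z x h, mul_inv_cancel_right]⟩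
    · exact ⟨b, (Fu.ys.mul_right h).z b⟩
  have hy1 : y⁻¹ = y := inv_eq_of_mul_eq_one_left hyy
  refine quot_tv S (Z := P.ZZ) (W := P.T) ?_ Fu.TS hSZ hi ?_ Fu.yS Fu.ys.notMem hyy (ι := F) ?_ P.ee P.ee_mem ?_ hZ
    (by rw [inv_inv]; exact hg2)
  · rintro _ ⟨b, rfl⟩
    exact P.T_p 0 b
  · intro w hw
    exact P.exists_sq hw
  · rw [Nat.card_eq_fintype_card, P.hF]
    have hm := P.hm
    have h4 : 2 ^ 3 ≤ 2 ^ (2 * m + 1) := Nat.pow_le_pow_right (by norm_num) (by omega)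
    omega
  · rintro i j ⟨b, hb⟩
    have hx : (P.ee i)⁻¹ * P.ee j ∈ P.T := mul_mem (inv_mem (P.ee_mem i)) (P.ee_mem j)
    have h3 : y * ((P.ee i)⁻¹ * P.ee j) * y⁻¹ = (P.p 0 b)⁻¹ * ((P.ee i)⁻¹ * P.ee j) := by
      have h4 : (P.ee i)⁻¹ * P.ee j * y * ((P.ee i)⁻¹ * P.ee j)⁻¹ * y⁻¹ = P.p 0 b := hb
      rw [← h4]; group
    have h4 := Fu.ys.f _ hx
    rw [h3, P.z_inv, P.fC_mul (P.T_p _ _) hx, P.fC_p, P.fC_mul (inv_mem (P.ee_mem i)) (P.ee_mem j),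
      P.fC_inv (P.ee_mem i), P.fC_ee, P.fC_ee, P.act_mul (inv_mem (P.ee_mem i)) (P.ee_mem j),
      P.act_inv (P.ee_mem i), P.act_ee, P.act_ee, add_zero, add_zero] at h4
    rcases mul_eq_zero.mp h4.symm with h5 | h5
    · exact absurd h5 Fu.ys.k_ne
    · have h6 := eq_neg_of_add_eq_zero_left h5
      rwa [CharTwo.neg_eq] at h6

end Pre

end Cfsg.Agent.OddHalf.D4.Sz
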