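import Cfsg.Agent.OddHalf.D4.Sz.LocC
import Cfsg.Agent.OddHalf.D4.Sz.SwapD

/-!
# ODD, D4, `K = Sz(q)`, `q ≥ 32`, case (b): the end
-/

set_option autoImplicit false
set_option linter.unusedSectionVars false

namespace Cfsg.Agent.OddHalf.D4.Sz

open Subgroup Cfsg.Agent.OddHalf.D4 Cfsg.Agent.OddHalf.D4.Basic Cfsg.Agent.OddHalf.D4.Sz.PairDefs
open Cfsg.Agent.OddHalf.D4.CommConj (cj mem_cj cj_mul card_cj cj_eq_of_mem_normalizer mem_normalizer_of_cj_eq
  mem_cj_mul)
open Cfsg.Agent.TwoFusion.StronglyEmbeddedBasic (orderOf_eq_two_of_mul_self)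

variable {G : Type*} [Group G] {F : Type*} [Field F] [Fintype F] {m : ℕ} {K : Subgroup G}
  {D : KFr F m K} {Q T : Subgroup G} {g : G}

/-- a 2-element normalizing a 2-group generates a 2-group with it -/
theorem two_sup [Finite G] {A : Subgroup G} (hA : IsPGroup 2 A) {y : G} (hy : y ∈ normalizer (A : Set G))
    (hy2 : ∃ k : ℕ, y ^ 2 ^ k = 1) : IsPGroup 2 (A ⊔ zpowers y : Subgroup G) := by
  obtain ⟨k, hk⟩ := hy2
  have hz2 : IsPGroup 2 (zpowers y) := by
    rintro ⟨z, n, rfl⟩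
    refine ⟨k, Subtype.ext ?_⟩
    show (y ^ n) ^ 2 ^ k = 1
    rw [← zpow_natCast, ← zpow_mul, mul_comm, zpow_mul, zpow_natCast, hk, one_zpow]
  have := hz2.to_sup_of_normal_right' hA (by rwa [zpowers_le])
  rwa [sup_comm] at this

namespace CaseB

variable [Finite G] [CharP F 2]

/-- the configuration `Pre` -/
noncomputable def toPre (M : CaseB D Q T g) : Pre G F m where
  hm := D.hm
  hF := D.hF
  p := D.p
  p_mul := D.p_mul
  p_inj := D.p_inj
  h := D.h
  h_p := D.h_p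
  Q := Q
  Q_sq _ hr := M.sq_Q hr
  Q_p _ hr a b := M.base.comm hr a b
  Q_inf a b h := D.cen _ (D.p_mem a b) (M.base.sylQ.le h)
  Q_ne := by
    obtain ⟨r, hr, -, -, -, -, hr1, -, -⟩ := M.two
    exact ⟨r, hr, hr1⟩
  f := fB D Q g
  f_mul _ hr _ hs := M.fB_mul hr hs
  f_inj _ hr h := M.fB_inj hr h
  T := M.T1
  T_two := M.T1_two
  T_Q _ hr := M.T_T1 (M.base.Q_le hr)
  T_p a b := M.T_T1 (M.base.p_mem a b)
  h_T l _ hx := M.conj_T1 (M.h_T l) hx
  h_mul k l x _ := by rw [D.h_mul]; group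
  h_Q l _ hr := D.h_comm_of_cent (M.base.sylQ.le hr) l
  act := ac D Q g
  T_act _ hx _ hr := M.ac_spec (M.mem_T1.mp hx).1.1.1 hr
  T_Z _ hx b := (M.mem_T1.mp hx).1.1.2 b
  T_surj c := M.T1_surj c
  T_ker x hx h := (M.base.mem x).mp (M.T1_ker hx h)

theorem PP_eq (M : CaseB D Q T g) : M.toPre.PP = T := by
  ext x
  constructor
  · intro h
    exact M.T1_ker h.1 h.2
  · intro h
    exact ⟨M.T_T1 h, (M.T_E h).2⟩

theorem glob (M : CaseB D Q T g) (hG : ∀ H : Subgroup G, H.index ≠ 2) (hcl : NoClassTwo G) : M.toPre.Glob where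
  cardQ := by
    obtain ⟨r, hr, s, hs, -, -, hr1, hs1, hrs⟩ := M.two
    show 3 ≤ Nat.card Q
    classical
    have h1 : Function.Injective (![⟨1, one_mem _⟩, ⟨r, hr⟩, ⟨s, hs⟩] : Fin 3 → Q) := by
      intro i j hij
      fin_cases i <;> fin_cases j <;> simp_all [Subtype.ext_iff, eq_comm]
    have h2 := Nat.card_le_card_of_injective _ h1
    simpa using h2
  noIdx := hG
  norm := by
    intro y hy1 hy2 hy3
    rw [M.PP_eq] at hy2
    have hy1' : y ∈ normalizer (M.T1 : Set G) := hy1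
    show y ∈ M.T1
    obtain ⟨c, hc⟩ := M.members hy2
    obtain ⟨t, ht, htc⟩ := M.T1_surj c
    have htE := (M.mem_T1.mp ht).1.1
    have htN : t ∈ normalizer (T : Set G) := htE.1.1
    -- `Q ^ y = Q ^ t`
    have h1 : ∀ r ∈ Q, y * r * y⁻¹ ∈ cj t Q := by
      intro r hr
      obtain ⟨s, hs, h⟩ := (hc _).mp (mem_cj_mul hr)
      rw [h, ← htc, ← M.ac_spec htE.1 hs]
      exact mem_cj_mul hs
    set μ := t⁻¹ * y with hμ
    have hμN : μ ∈ normalizer (T : Set G) := mul_mem (inv_mem htN) hy2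
    obtain ⟨r, hr, -, -, -, -, hr1, -, -⟩ := M.two
    have hμM : μ ∈ normalizer (K : Set G) := by
      apply M.tight.tight μ r (M.base.sylQ.le hr) (orderOf_eq_two_of_mul_self (M.sq_Q hr) hr1)
      have h2 := mem_cj.mp (h1 r hr)
      have e : μ * r * μ⁻¹ = t⁻¹ * (y * r * y⁻¹) * t := by rw [hμ]; group
      rw [e]
      exact M.base.sylQ.le h2
    -- `μ` is a 2-element
    have hμ2 : ∃ k : ℕ, μ ^ 2 ^ k = 1 := by
      have h3 := two_sup M.T1_two hy1' hy3
      have h4 : μ ∈ M.T1 ⊔ zpowers y :=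
        mul_mem (inv_mem (le_sup_left (a := M.T1) ht)) (le_sup_right (a := M.T1) (mem_zpowers y))
      obtain ⟨k, hk⟩ := h3 ⟨μ, h4⟩
      exact ⟨k, by simpa using congrArg Subtype.val hk⟩
    have hμT : μ ∈ T := by
      have h3 := two_sup M.base.sylT.two hμN hμ2
      exact M.base.sylT.max _ h3 le_sup_left (sup_le M.base.sylT.le (by rwa [zpowers_le]))
        (le_sup_right (a := T) (mem_zpowers μ))
    have e : y = t * μ := by rw [hμ]; group
    rw [e]
    exact mul_mem ht (M.T_T1 hμT)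
  notSyl := by
    intro S hS
    have hS' : ∀ x, x ∈ (S : Subgroup G) ↔ x ∈ M.toPre.T := fun x => by rw [hS]
    refine hcl S ?_ ?_
    · -- nonabelian
      obtain ⟨r, hr, -, -, -, -, hr1, -, -⟩ := M.two
      obtain ⟨t, ht, htc⟩ := M.T1_surj 1
      refine ⟨t, (hS' t).mpr ht, r, (hS' r).mpr (M.toPre.T_Q hr), fun h => ?_⟩
      have h1 := M.ac_spec (M.mem_T1.mp ht).1.1.1 hr
      rw [h, mul_inv_cancel_right, htc, one_mul] at h1
      have h2 : D.p 0 (fB D Q g r) = 1 := (mul_eq_left.mp h1.symm)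
      rw [← D.p_zero] at h2
      exact hr1 (M.fB_inj hr (D.z_inj h2))
    · intro a ha b hb c hc
      rw [hS'] at ha hb hc
      obtain ⟨z, hz⟩ := M.toPre.exists_comm ha hb
      have e : a * b * a⁻¹ * b⁻¹ = M.toPre.p 0 z := by rw [hz]; group
      rw [e, M.toPre.T_Z c hc z]

/-- **case (b) is impossible** -/
theorem false (M : CaseB D Q T g) (hG : ∀ H : Subgroup G, H.index ≠ 2) (hcl : NoClassTwo G) : False :=
  M.toPre.false (M.glob hG hcl)

end CaseB

end Cfsg.Agent.OddHalf.D4.Sz
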