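import Cfsg.Agent.OddHalf.D4.Exists
import Cfsg.Agent.StdSz.FormAlg

/-!
# ODD, D4, `K = Sz(q)`, `q ≥ 32`: frame of the pair

`KFr F m K`: coordinates of a Sylow 2-subgroup `{p a b}` of `K`, torus `h l`, and the facts on `N(K)`.
`Base D Q T`: `T` is a Sylow 2-subgroup of `N(K)`, `T = Q × {p a b}`, `Q = T ∩ C(K)`.
-/

set_option autoImplicit false
set_option linter.unusedSectionVars false

namespace Cfsg.Agent.OddHalf.D4.Sz.PairDefs

open Subgroup Cfsg.Agent.OddHalf.D4 Cfsg.Agent.OddHalf.D4.Basic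
open Cfsg.Agent.OddHalf.D4.CommConj (Tight cj mem_cj cj_mul card_cj cj_eq_of_mem_normalizer mem_normalizer_of_cj_eq
  mem_cj_mul)

theorem norm_cent {G : Type*} [Group G] {A : Subgroup G} {t x : G} (ht : t ∈ normalizer (A : Set G))
    (hx : x ∈ centralizer (A : Set G)) : t * x * t⁻¹ ∈ centralizer (A : Set G) := by
  rw [mem_centralizer_iff] at hx ⊢
  intro a ha
  have h1 : t⁻¹ * a * t ∈ A := (mem_normalizer_iff''.mp ht a).mp ha
  have h2 := hx _ h1
  calc a * (t * x * t⁻¹) = t * ((t⁻¹ * a * t) * x) * t⁻¹ := by group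
    _ = t * (x * (t⁻¹ * a * t)) * t⁻¹ := by rw [h2]
    _ = t * x * t⁻¹ * a := by group

theorem cent_le_norm {G : Type*} [Group G] (A : Subgroup G) :
    centralizer (A : Set G) ≤ normalizer (A : Set G) := by
  intro k hk
  rw [mem_normalizer_iff]
  intro x
  have key : ∀ y ∈ A, k * y * k⁻¹ = y := by
    intro y hy
    rw [← mem_centralizer_iff.mp hk y hy]
    group
  constructor
  · intro hx
    rw [key x hx]; exact hx
  · intro hx
    have h2 : k⁻¹ * (k * x * k⁻¹) * (k⁻¹)⁻¹ = k * x * k⁻¹ := by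
      have hk' := inv_mem hk
      rw [← mem_centralizer_iff.mp hk' _ hx]
      group
    have h3 : x = k * x * k⁻¹ := by
      rw [← h2]; group
    rw [h3]; exact hx

/-- **the K-facts for `K = Sz(q)`** -/
structure KFr {G : Type*} [Group G] (F : Type*) [Field F] [Fintype F] (m : ℕ) (K : Subgroup G) where
  hm : 2 ≤ m
  hF : Fintype.card F = 2 ^ (2 * m + 1)
  p : F → F → G
  p_mem : ∀ a b, p a b ∈ K
  p_mul : ∀ a b c d : F, p a b * p c d = p (a + c) (b + d + a ^ (2 ^ (m + 1)) * c)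
  p_inj : ∀ a b c d : F, p a b = p c d → a = c ∧ b = d
  h : Fˣ → G
  h_mem : ∀ l, h l ∈ K
  h_mul : ∀ k l, h (k * l) = h k * h l
  h_p : ∀ (l : Fˣ) (a b : F), h l * p a b * (h l)⁻¹ = p (l * a) ((l : F) ^ (1 + 2 ^ (m + 1)) * b)
  /-- `Z(K) = 1` -/
  cen : ∀ x ∈ K, x ∈ centralizer (K : Set G) → x = 1
  /-- `{p a b}` is a Sylow 2-subgroup of `K` -/
  syl : ∀ P : Subgroup G, IsPGroup 2 P → P ≤ K → (∀ a b, p a b ∈ P) → ∀ x ∈ P, ∃ a b, x = p a b
  /-- 2-elements of `N(K)` act on `K` as elements of `K` -/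
  inner : ∀ x ∈ normalizer (K : Set G), (∃ n : ℕ, x ^ 2 ^ n = 1) →
    ∃ c ∈ centralizer (K : Set G), ∃ k ∈ K, x = c * k
  /-- the centralizer in `N(K)` of the centre of `{p a b}` -/
  cz : ∀ g ∈ normalizer (K : Set G), (∀ b, g * p 0 b = p 0 b * g) →
    ∃ c ∈ centralizer (K : Set G), ∃ a b, g = c * p a b

variable {G : Type*} [Group G] {F : Type*} [Field F] [Fintype F] [CharP F 2] {m : ℕ} {K : Subgroup G}

namespace KFr

variable (D : KFr F m K)

omit [CharP F 2] in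
theorem p_zero : D.p 0 0 = 1 := by
  have h1 := D.p_mul 0 0 0 0
  simp only [add_zero, mul_zero] at h1
  exact mul_eq_left.mp h1

omit [CharP F 2] in
theorem z_mul (b d : F) : D.p 0 b * D.p 0 d = D.p 0 (b + d) := by
  rw [D.p_mul, mul_zero, add_zero, add_zero]

theorem z_self (b : F) : D.p 0 b * D.p 0 b = 1 := by
  rw [D.z_mul, CharTwo.add_self_eq_zero, D.p_zero]

theorem z_inv (b : F) : (D.p 0 b)⁻¹ = D.p 0 b := inv_eq_of_mul_eq_one_left (D.z_self b)

omit [CharP F 2] in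
theorem z_inj {b d : F} (h : D.p 0 b = D.p 0 d) : b = d := (D.p_inj _ _ _ _ h).2

omit [CharP F 2] in
theorem z_mul_p (b c d : F) : D.p 0 b * D.p c d = D.p c (b + d) := by
  rw [D.p_mul, zero_add, zero_pow (by positivity), zero_mul, add_zero]

omit [CharP F 2] in
theorem p_mul_z (b c d : F) : D.p c d * D.p 0 b = D.p c (b + d) := by
  rw [D.p_mul, add_zero, mul_zero, add_zero, add_comm b d]

omit [CharP F 2] in
theorem z_comm (b c d : F) : D.p 0 b * D.p c d = D.p c d * D.p 0 b := by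
  rw [D.z_mul_p, D.p_mul_z]

omit [CharP F 2] in
theorem p_eq (a b : F) : D.p a b = D.p a 0 * D.p 0 b := by
  rw [D.p_mul_z, add_zero]

theorem p_sq (a b : F) : D.p a b * D.p a b = D.p 0 (a ^ (1 + 2 ^ (m + 1))) := by
  rw [D.p_mul, CharTwo.add_self_eq_zero, CharTwo.add_self_eq_zero, zero_add,
    _root_.pow_add a 1 (2 ^ (m + 1)), pow_one, mul_comm]

theorem p_inv (a b : F) : (D.p a b)⁻¹ = D.p a (b + a ^ (1 + 2 ^ (m + 1))) := by
  apply inv_eq_of_mul_eq_one_right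
  rw [D.p_mul, CharTwo.add_self_eq_zero, ← D.p_zero]
  congr 1
  rw [_root_.pow_add a 1 (2 ^ (m + 1)), pow_one]
  have : b + (b + a * a ^ (2 ^ (m + 1))) + a ^ (2 ^ (m + 1)) * a =
      (b + b) + (a * a ^ (2 ^ (m + 1)) + a * a ^ (2 ^ (m + 1))) := by ring
  rw [this, CharTwo.add_self_eq_zero, CharTwo.add_self_eq_zero, add_zero]

/-- commutators -/
theorem p_comm (a b c d : F) : D.p a b * D.p c d * (D.p a b)⁻¹ * (D.p c d)⁻¹ =
    D.p 0 (a ^ (2 ^ (m + 1)) * c + c ^ (2 ^ (m + 1)) * a) := by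
  have e : D.p a b * D.p c d = D.p 0 (a ^ (2 ^ (m + 1)) * c + c ^ (2 ^ (m + 1)) * a) * (D.p c d * D.p a b) := by
    rw [D.p_mul, D.p_mul, D.z_mul_p]
    congr 1
    · exact add_comm a c
    · have h2 : c ^ (2 ^ (m + 1)) * a + c ^ (2 ^ (m + 1)) * a = 0 := CharTwo.add_self_eq_zero _
      linear_combination -h2
  rw [e]; group

include D in
theorem norm_inj {x y : F} (h : x ^ (1 + 2 ^ (m + 1)) = y ^ (1 + 2 ^ (m + 1))) : x = y :=
  Cfsg.Agent.StdSz.FormAlg.norm_inj D.hF h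

include D in
theorem exists_norm (b : F) : ∃ a : F, a ^ (1 + 2 ^ (m + 1)) = b :=
  ⟨b ^ (2 ^ (m + 1) - 1), Cfsg.Agent.StdSz.SzMaps.norm_surj D.hF b⟩

include D in
theorem exists_norm_unit {b : F} (hb : b ≠ 0) : ∃ l : Fˣ, (l : F) ^ (1 + 2 ^ (m + 1)) = b := by
  obtain ⟨a, ha⟩ := D.exists_norm b
  refine ⟨Units.mk0 a ?_, ha⟩
  rintro rfl
  apply hb
  rw [← ha, zero_pow (by positivity)]

/-- every element of the centre is a commutator -/
theorem exists_comm (w : F) : ∃ a c : F, D.p a 0 * D.p c 0 * (D.p a 0)⁻¹ * (D.p c 0)⁻¹ = D.p 0 w := by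
  -- `e ∉ {0, 1}`
  obtain ⟨e, he0, he1⟩ : ∃ e : F, e ≠ 0 ∧ e ≠ 1 := by
    classical
    by_contra hcon
    push Not at hcon
    have h1 : Fintype.card F ≤ 2 := by
      have h2 : (Finset.univ : Finset F) ⊆ {0, 1} := by
        intro x _
        by_cases hx : x = 0
        · simp [hx]
        · simp [hcon x hx]
      calc Fintype.card F = (Finset.univ : Finset F).card := rfl
        _ ≤ ({0, 1} : Finset F).card := Finset.card_le_card h2
        _ ≤ 2 := Finset.card_le_two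
    rw [D.hF] at h1
    have h3 : 2 ^ 2 ≤ 2 ^ (2 * m + 1) := Nat.pow_le_pow_right (by norm_num) (by have := D.hm; omega)
    omega
  have h1 : e ^ (2 ^ (m + 1)) + e ≠ 0 := by
    intro h
    have h2 : e ^ (2 ^ (m + 1)) = e := by
      have h3 := CharTwo.add_self_eq_zero e
      linear_combination h - h3
    rcases Cfsg.Agent.StdSz.FormAlg.eq_of_th_eq D.hF h2 with h3 | h3
    · exact he0 h3
    · exact he1 h3
  obtain ⟨a, ha⟩ := D.exists_norm (w / (e ^ (2 ^ (m + 1)) + e))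
  refine ⟨a, a * e, ?_⟩
  rw [D.p_comm]
  congr 1
  have : a ^ 2 ^ (m + 1) * (a * e) + (a * e) ^ 2 ^ (m + 1) * a =
      a ^ (1 + 2 ^ (m + 1)) * (e ^ (2 ^ (m + 1)) + e) := by
    rw [mul_pow, _root_.pow_add a 1 (2 ^ (m + 1)), pow_one]; ring
  rw [this, ha]
  field_simp

/-- conjugation -/
def cjTo {L : Subgroup G} (g : G) (hL : L = cj g K) : KFr F m L where
  hm := D.hm
  hF := D.hF
  p a b := g * D.p a b * g⁻¹
  p_mem a b := by rw [hL]; exact mem_cj_mul (D.p_mem a b)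
  p_mul a b c d := by
    rw [← D.p_mul]; group
  p_inj a b c d h := D.p_inj _ _ _ _ (mul_left_cancel (mul_right_cancel h))
  h l := g * D.h l * g⁻¹
  h_mem l := by rw [hL]; exact mem_cj_mul (D.h_mem l)
  h_mul k l := by rw [D.h_mul]; group
  h_p l a b := by rw [← D.h_p]; group
  cen x hx hxc := by
    rw [hL] at hx hxc
    rw [centralizer_cj, mem_cj] at hxc
    have h1 := D.cen _ (mem_cj.mp hx) hxc
    have e : x = g * (g⁻¹ * x * g) * g⁻¹ := by group
    rw [e, h1]; group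
  syl P hP hPL hp x hx := by
    have h1 : IsPGroup 2 ↥(cj g⁻¹ P) := hP.map _
    obtain ⟨a, b, hab⟩ := D.syl (cj g⁻¹ P) h1 (by
      intro y hy
      rw [mem_cj, inv_inv] at hy
      have h2 := hPL hy
      rw [hL, mem_cj] at h2
      have e : g⁻¹ * (g * y * g⁻¹) * g = y := by group
      rwa [e] at h2) (by
      intro a b
      rw [mem_cj, inv_inv]
      exact hp a b) (g⁻¹ * x * g) (by
      have := mem_cj_mul (g := g⁻¹) hx
      rwa [inv_inv] at this)
    refine ⟨a, b, ?_⟩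
    rw [← hab]; group
  inner x hx hx2 := by
    subst hL
    rw [normalizer_cj, mem_cj] at hx
    obtain ⟨n, hn⟩ := hx2
    obtain ⟨c, hc, k, hk, hck⟩ := D.inner _ hx ⟨n, by
      have e : g⁻¹ * x * g = g⁻¹ * x * (g⁻¹)⁻¹ := by rw [inv_inv]
      rw [e, conj_pow, hn]; group⟩
    refine ⟨g * c * g⁻¹, ?_, g * k * g⁻¹, mem_cj_mul hk, ?_⟩
    · rw [centralizer_cj]; exact mem_cj_mul hc
    · calc x = g * (g⁻¹ * x * g) * g⁻¹ := by group
        _ = g * c * g⁻¹ * (g * k * g⁻¹) := by rw [hck]; group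
  cz x hx hxz := by
    subst hL
    rw [normalizer_cj, mem_cj] at hx
    obtain ⟨c, hc, a, b, hck⟩ := D.cz _ hx (by
      intro b
      have h1 := hxz b
      calc g⁻¹ * x * g * D.p 0 b = g⁻¹ * (x * (g * D.p 0 b * g⁻¹)) * g := by group
        _ = g⁻¹ * (g * D.p 0 b * g⁻¹ * x) * g := by rw [h1]
        _ = D.p 0 b * (g⁻¹ * x * g) := by group)
    refine ⟨g * c * g⁻¹, ?_, a, b, ?_⟩
    · rw [centralizer_cj]; exact mem_cj_mul hc
    · calc x = g * (g⁻¹ * x * g) * g⁻¹ := by group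
        _ = g * c * g⁻¹ * (g * D.p a b * g⁻¹) := by rw [hck]; group

/-- the Sylow 2-subgroup `{p a b}` -/
def SK : Subgroup G where
  carrier := {x | ∃ a b, x = D.p a b}
  one_mem' := ⟨0, 0, D.p_zero.symm⟩
  mul_mem' := by
    rintro _ _ ⟨a, b, rfl⟩ ⟨c, d, rfl⟩
    exact ⟨_, _, D.p_mul _ _ _ _⟩
  inv_mem' := by
    rintro _ ⟨a, b, rfl⟩
    exact ⟨_, _, D.p_inv _ _⟩

theorem mem_SK {x : G} : x ∈ D.SK ↔ ∃ a b, x = D.p a b := Iff.rfl

theorem p_mem_SK (a b : F) : D.p a b ∈ D.SK := ⟨a, b, rfl⟩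

theorem SK_le : D.SK ≤ K := by
  rintro _ ⟨a, b, rfl⟩
  exact D.p_mem a b

theorem SK_two : IsPGroup 2 ↥D.SK := by
  rintro ⟨x, a, b, rfl⟩
  refine ⟨2, Subtype.ext ?_⟩
  show D.p a b ^ 2 ^ 2 = 1
  rw [show (2 : ℕ) ^ 2 = 2 * 2 by norm_num, pow_mul, pow_two (D.p a b), D.p_sq, pow_two, D.z_self]

theorem isSyl_SK : IsSyl D.SK K :=
  ⟨D.SK_two, D.SK_le, fun Q hQ hle hQK x hx => D.syl Q hQ hQK (fun a b => hle (D.p_mem_SK a b)) x hx⟩

theorem comm_of_cent {c : G} (hc : c ∈ centralizer (K : Set G)) (a b : F) : c * D.p a b = D.p a b * c :=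
  (mem_centralizer_iff.mp hc _ (D.p_mem a b)).symm

theorem h_comm_of_cent {c : G} (hc : c ∈ centralizer (K : Set G)) (l : Fˣ) : D.h l * c = c * D.h l :=
  mem_centralizer_iff.mp hc _ (D.h_mem l)

/-- squares of elements of `K` that are trivial -/
theorem eq_zero_of_sq {a b : F} (h : D.p a b * D.p a b = 1) : a = 0 := by
  rw [D.p_sq, ← D.p_zero] at h
  have h1 := D.z_inj h
  exact (pow_eq_zero_iff (by positivity)).mp h1

end KFr

/-- `T` is a Sylow 2-subgroup of `N(K)`, `T = Q × {p a b}`. -/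
structure Base (D : KFr F m K) (Q T : Subgroup G) : Prop where
  sylQ : IsSyl Q (centralizer (K : Set G))
  sylT : IsSyl T (normalizer (K : Set G))
  mem : ∀ x, x ∈ T ↔ ∃ q ∈ Q, ∃ a b, x = q * D.p a b

variable [Finite G]

/-- **coordinates adapted to a Sylow 2-subgroup of `N(K)`** -/
theorem exists_base (D : KFr F m K) {T : Subgroup G} (hT : IsSyl T (normalizer (K : Set G))) :
    ∃ D' : KFr F m K, Base D' (T ⊓ centralizer (K : Set G)) T := by
  have hCM : centralizer (K : Set G) ≤ normalizer (K : Set G) := cent_le_norm K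
  have hKN : T ≤ normalizer (K : Set G) := hT.le
  have hS : IsSyl (T ⊓ K) K := hT.inf le_normalizer hKN
  obtain ⟨k, hk, hkS⟩ := hS.exists_cj D.isSyl_SK
  have hKk : K = cj k K := (cj_eq_of_mem_normalizer (le_normalizer hk)).symm
  let D' : KFr F m K := D.cjTo k hKk
  have hSK : D'.SK = T ⊓ K := by
    rw [← hkS]
    ext x
    rw [mem_cj]
    constructor
    · rintro ⟨a, b, rfl⟩
      refine ⟨a, b, ?_⟩
      show k⁻¹ * (k * D.p a b * k⁻¹) * k = D.p a b
      group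
    · rintro ⟨a, b, hab⟩
      refine ⟨a, b, ?_⟩
      show x = k * D.p a b * k⁻¹
      rw [← hab]; group
  have hQ : IsSyl (T ⊓ centralizer (K : Set G)) (centralizer (K : Set G)) := by
    apply hT.inf hCM
    intro t ht
    apply mem_normalizer_fintype
    intro c hc
    exact norm_cent (hT.le ht) hc
  refine ⟨D', hQ, hT, fun x => ⟨fun hx => ?_, ?_⟩⟩
  · obtain ⟨n, hn⟩ := hT.two ⟨x, hx⟩
    have hn' : x ^ 2 ^ n = 1 := congrArg Subtype.val hn
    obtain ⟨c, hc, y, hy, hxy⟩ := D'.inner x (hT.le hx) ⟨n, hn'⟩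
    -- the projection of `T` to `K`
    let W : Subgroup G :=
      { carrier := {y | y ∈ K ∧ ∃ c ∈ centralizer (K : Set G), c * y ∈ T}
        one_mem' := ⟨K.one_mem, 1, one_mem _, by rw [one_mul]; exact one_mem _⟩
        mul_mem' := by
          rintro y z ⟨hy, c, hc, hcy⟩ ⟨hz, d, hd, hdz⟩
          refine ⟨K.mul_mem hy hz, c * d, mul_mem hc hd, ?_⟩
          have e : c * d * (y * z) = c * y * (d * z) := by
            have h1 := mem_centralizer_iff.mp hd y hy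
            calc c * d * (y * z) = c * (d * y) * z := by group
              _ = c * (y * d) * z := by rw [h1]
              _ = c * y * (d * z) := by group
          rw [e]
          exact T.mul_mem hcy hdz
        inv_mem' := by
          rintro y ⟨hy, c, hc, hcy⟩
          refine ⟨K.inv_mem hy, c⁻¹, inv_mem hc, ?_⟩
          have h1 := mem_centralizer_iff.mp hc y hy
          have e : c⁻¹ * y⁻¹ = (c * y)⁻¹ := by rw [← h1, mul_inv_rev]
          rw [e]
          exact T.inv_mem hcy }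
    have hW2 : IsPGroup 2 ↥W := by
      rintro ⟨y, hy, c, hc, hcy⟩
      obtain ⟨n, hn⟩ := hT.two ⟨_, hcy⟩
      have hn' : (c * y) ^ 2 ^ n = 1 := congrArg Subtype.val hn
      refine ⟨n, Subtype.ext ?_⟩
      show y ^ 2 ^ n = 1
      have hcomm : Commute c y := (mem_centralizer_iff.mp hc y hy).symm
      rw [hcomm.mul_pow] at hn'
      have h1 : y ^ 2 ^ n = (c ^ 2 ^ n)⁻¹ := (inv_eq_of_mul_eq_one_right hn').symm
      apply D.cen _ (pow_mem hy _)
      rw [h1]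
      exact inv_mem (pow_mem hc _)
    have hyW : y ∈ W := ⟨hy, c, hc, by rw [← hxy]; exact hx⟩
    have hSW : D'.SK ≤ W := by
      intro s hs
      rw [hSK] at hs
      exact ⟨hs.2, 1, one_mem _, by rw [one_mul]; exact hs.1⟩
    have hyS : y ∈ D'.SK := D'.isSyl_SK.max W hW2 hSW (fun z hz => hz.1) hyW
    have hyT : y ∈ T := by rw [hSK] at hyS; exact hyS.1
    obtain ⟨a, b, rfl⟩ := hyS
    refine ⟨c, ⟨?_, hc⟩, a, b, hxy⟩
    have e : c = x * (D'.p a b)⁻¹ := by rw [hxy]; group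
    rw [e]
    exact T.mul_mem hx (T.inv_mem hyT)
  · rintro ⟨q, hq, a, b, rfl⟩
    have h1 : D'.p a b ∈ T ⊓ K := by rw [← hSK]; exact D'.p_mem_SK a b
    exact T.mul_mem hq.1 h1.1

namespace Base

variable {D : KFr F m K} {Q T : Subgroup G}

omit [Finite G] [CharP F 2] in
theorem p_mem (B : Base D Q T) (a b : F) : D.p a b ∈ T :=
  (B.mem _).mpr ⟨1, one_mem _, a, b, (one_mul _).symm⟩

omit [Finite G] in
theorem Q_le (B : Base D Q T) : Q ≤ T := fun q hq =>
  (B.mem _).mpr ⟨q, hq, 0, 0, by rw [D.p_zero, mul_one]⟩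

omit [Finite G] in
theorem Q_cent (B : Base D Q T) : Q ≤ centralizer (K : Set G) := B.sylQ.le

/-- `T ∩ C(K) = Q` -/
theorem mem_Q_iff (B : Base D Q T) {x : G} (hx : x ∈ T) : x ∈ Q ↔ x ∈ centralizer (K : Set G) := by
  refine ⟨fun h => B.sylQ.le h, fun h => ?_⟩
  obtain ⟨q, hq, a, b, rfl⟩ := (B.mem x).mp hx
  have h1 : D.p a b ∈ centralizer (K : Set G) := by
    have h2 := mul_mem (inv_mem (B.sylQ.le hq)) h
    rwa [inv_mul_cancel_left] at h2
  rw [D.cen _ (D.p_mem a b) h1, mul_one]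
  exact hq

theorem eq_inf (B : Base D Q T) : Q = T ⊓ centralizer (K : Set G) := by
  ext x
  exact ⟨fun h => ⟨B.Q_le h, B.sylQ.le h⟩, fun h => (B.mem_Q_iff h.1).mpr h.2⟩

omit [Finite G] in
theorem comm (B : Base D Q T) {q : G} (hq : q ∈ Q) (a b : F) : q * D.p a b = D.p a b * q :=
  D.comm_of_cent (B.sylQ.le hq) a b

omit [Finite G] in
theorem uniq (B : Base D Q T) {q r : G} (hq : q ∈ Q) (hr : r ∈ Q) {a b c d : F}
    (h : q * D.p a b = r * D.p c d) : q = r ∧ a = c ∧ b = d := by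
  have h1 : r⁻¹ * q = D.p c d * (D.p a b)⁻¹ := by
    rw [eq_mul_inv_iff_mul_eq, mul_assoc, h, inv_mul_cancel_left]
  have h2 : r⁻¹ * q ∈ centralizer (K : Set G) := B.sylQ.le (mul_mem (inv_mem hr) hq)
  have h3 : r⁻¹ * q ∈ K := by
    rw [h1]; exact K.mul_mem (D.p_mem _ _) (K.inv_mem (D.p_mem _ _))
  have h4 := D.cen _ h3 h2
  rw [inv_mul_eq_one] at h4
  subst h4
  obtain ⟨h5, h6⟩ := D.p_inj _ _ _ _ (mul_left_cancel h)
  exact ⟨rfl, h5, h6⟩

/-- `T` normalizes `Q` -/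
theorem norm_Q (B : Base D Q T) {t q : G} (ht : t ∈ T) (hq : q ∈ Q) : t * q * t⁻¹ ∈ Q := by
  rw [B.mem_Q_iff (T.mul_mem (T.mul_mem ht (B.Q_le hq)) (T.inv_mem ht))]
  exact norm_cent (B.sylT.le ht) (B.sylQ.le hq)

/-- `{p 0 b}` centralizes `T` -/
theorem z_cent (B : Base D Q T) {t : G} (ht : t ∈ T) (b : F) : t * D.p 0 b = D.p 0 b * t := by
  obtain ⟨q, hq, a, c, rfl⟩ := (B.mem t).mp ht
  calc q * D.p a c * D.p 0 b = q * (D.p 0 b * D.p a c) := by rw [D.z_comm]; group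
    _ = D.p 0 b * (q * D.p a c) := by rw [← mul_assoc, B.comm hq]; group

end Base

end Cfsg.Agent.OddHalf.D4.Sz.PairDefs
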