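import Cfsg.Agent.OddHalf.D4.Sz.Weights
import Mathlib.GroupTheory.PGroup

/-!
# ODD, D4, `K = Sz(q)`, `q ≥ 32`: the group `T₁`

`Pre`: `p a b` a Sylow 2-subgroup of `K`, `Q` elementary abelian commuting with it, `T` a 2-group containing
`P = Q × {p a b}`, centralizing `Z = {p 0 b}`, acting on `Q Z` by the translations `r ↦ r * p 0 (c * f r)`, with
kernel `P`, and a torus `h l`.  Then `T / Z` is elementary abelian.
-/

set_option autoImplicit false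
set_option linter.unusedSectionVars false

namespace Cfsg.Agent.OddHalf.D4.Sz

open Cfsg.Agent.StdSz.EquivMaps Cfsg.Agent.StdSz.SzMaps

/-- the configuration -/
structure Pre (G : Type*) [Group G] (F : Type*) [Field F] [Fintype F] (m : ℕ) where
  hm : 2 ≤ m
  hF : Fintype.card F = 2 ^ (2 * m + 1)
  p : F → F → G
  p_mul : ∀ a b c d : F, p a b * p c d = p (a + c) (b + d + a ^ (2 ^ (m + 1)) * c)
  p_inj : ∀ a b c d : F, p a b = p c d → a = c ∧ b = d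
  h : Fˣ → G
  h_p : ∀ (l : Fˣ) (a b : F), h l * p a b * (h l)⁻¹ = p (l * a) ((l : F) ^ (1 + 2 ^ (m + 1)) * b)
  Q : Subgroup G
  Q_sq : ∀ r ∈ Q, r * r = 1
  Q_p : ∀ r ∈ Q, ∀ a b, r * p a b = p a b * r
  Q_inf : ∀ a b, p a b ∈ Q → p a b = 1
  Q_ne : ∃ r ∈ Q, r ≠ 1
  f : G → F
  f_mul : ∀ r ∈ Q, ∀ s ∈ Q, f (r * s) = f r + f s
  f_inj : ∀ r ∈ Q, f r = 0 → r = 1
  T : Subgroup G
  T_two : IsPGroup 2 T
  T_Q : Q ≤ T
  T_p : ∀ a b, p a b ∈ T
  h_T : ∀ l, ∀ x ∈ T, h l * x * (h l)⁻¹ ∈ T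
  h_mul : ∀ k l, ∀ x ∈ T, h (k * l) * x * (h (k * l))⁻¹ = h k * (h l * x * (h l)⁻¹) * (h k)⁻¹
  h_Q : ∀ l, ∀ r ∈ Q, h l * r = r * h l
  act : G → F
  T_act : ∀ x ∈ T, ∀ r ∈ Q, x * r * x⁻¹ = r * p 0 (act x * f r)
  T_Z : ∀ x ∈ T, ∀ b, x * p 0 b = p 0 b * x
  T_surj : ∀ c, ∃ x ∈ T, act x = c
  T_ker : ∀ x ∈ T, act x = 0 → ∃ r ∈ Q, ∃ a b, x = r * p a b

namespace Pre

variable {G : Type*} [Group G] {F : Type*} [Field F] [Fintype F] [CharP F 2] {m : ℕ} (P : Pre G F m)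

omit [CharP F 2] in
theorem p_zero : P.p 0 0 = 1 := by
  have h1 := P.p_mul 0 0 0 0
  simp only [add_zero, mul_zero] at h1
  exact mul_eq_left.mp h1

omit [CharP F 2] in
theorem zpos : (2 ^ (m + 1) : ℕ) ≠ 0 := by positivity

omit [CharP F 2] in
theorem z_mul (b d : F) : P.p 0 b * P.p 0 d = P.p 0 (b + d) := by
  rw [P.p_mul, mul_zero, add_zero, add_zero]

theorem z_self (b : F) : P.p 0 b * P.p 0 b = 1 := by
  rw [P.z_mul, CharTwo.add_self_eq_zero, P.p_zero]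

theorem z_inv (b : F) : (P.p 0 b)⁻¹ = P.p 0 b := inv_eq_of_mul_eq_one_left (P.z_self b)

omit [CharP F 2] in
theorem z_inj {b d : F} (h : P.p 0 b = P.p 0 d) : b = d := (P.p_inj _ _ _ _ h).2

omit [CharP F 2] in
theorem z_mul_p (b c d : F) : P.p 0 b * P.p c d = P.p c (b + d) := by
  rw [P.p_mul, zero_add, zero_pow zpos, zero_mul, add_zero]

omit [CharP F 2] in
theorem p_mul_z (b c d : F) : P.p c d * P.p 0 b = P.p c (b + d) := by
  rw [P.p_mul, add_zero, mul_zero, add_zero, add_comm b d]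

theorem p_sq (a b : F) : P.p a b * P.p a b = P.p 0 (a ^ (1 + 2 ^ (m + 1))) := by
  rw [P.p_mul, CharTwo.add_self_eq_zero, CharTwo.add_self_eq_zero, zero_add,
    _root_.pow_add a 1 (2 ^ (m + 1)), pow_one, mul_comm]

theorem p_inv (a b : F) : (P.p a b)⁻¹ = P.p a (b + a ^ (1 + 2 ^ (m + 1))) := by
  apply inv_eq_of_mul_eq_one_right
  rw [P.p_mul, CharTwo.add_self_eq_zero, ← P.p_zero]
  congr 1
  rw [_root_.pow_add a 1 (2 ^ (m + 1)), pow_one]
  have : b + (b + a * a ^ (2 ^ (m + 1))) + a ^ (2 ^ (m + 1)) * a =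
      (b + b) + (a * a ^ (2 ^ (m + 1)) + a * a ^ (2 ^ (m + 1))) := by ring
  rw [this, CharTwo.add_self_eq_zero, CharTwo.add_self_eq_zero, add_zero]

omit [CharP F 2] in
theorem Q_inv {r : G} (hr : r ∈ P.Q) : r⁻¹ = r := inv_eq_of_mul_eq_one_left (P.Q_sq r hr)

omit [CharP F 2] in
theorem f_one : P.f 1 = 0 := by
  have := P.f_mul 1 (one_mem _) 1 (one_mem _)
  rw [mul_one] at this
  exact add_eq_left.mp this.symm

omit [CharP F 2] in
theorem Q_comm {r s : G} (hr : r ∈ P.Q) (hs : s ∈ P.Q) : r * s = s * r := by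
  have h1 := P.Q_sq _ (mul_mem hr hs)
  have h2 := P.Q_sq r hr
  have h3 := P.Q_sq s hs
  calc r * s = r * (r * s * (r * s)) * s := by rw [h1, mul_one]
    _ = (r * r) * (s * r) * (s * s) := by group
    _ = s * r := by rw [h2, h3, one_mul, mul_one]

/-- uniqueness of the decomposition in `P`. -/
theorem uniq {r s : G} (hr : r ∈ P.Q) (hs : s ∈ P.Q) {a b c d : F} (h : r * P.p a b = s * P.p c d) :
    r = s ∧ a = c ∧ b = d := by
  have h1 : s⁻¹ * r = P.p c d * (P.p a b)⁻¹ := by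
    rw [eq_mul_inv_iff_mul_eq, mul_assoc, h, inv_mul_cancel_left]
  have h2 : P.p c d * (P.p a b)⁻¹ ∈ P.Q := by rw [← h1]; exact mul_mem (inv_mem hs) hr
  rw [P.p_inv, P.p_mul] at h2 h1
  have h3 := P.Q_inf _ _ h2
  rw [h3, inv_mul_eq_one] at h1
  subst h1
  obtain ⟨h4, h5⟩ := P.p_inj _ _ _ _ (mul_left_cancel h)
  exact ⟨rfl, h4, h5⟩

/-! ### the hom `act` -/

theorem act_eq {x : G} (hx : x ∈ P.T) {c : F} (h : ∀ r ∈ P.Q, x * r * x⁻¹ = r * P.p 0 (c * P.f r)) :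
    P.act x = c := by
  obtain ⟨r, hr, hr1⟩ := P.Q_ne
  have h1 := P.T_act x hx r hr
  rw [h r hr] at h1
  have h2 := P.z_inj (mul_left_cancel h1)
  have h3 : P.f r ≠ 0 := fun h0 => hr1 (P.f_inj r hr h0)
  exact (mul_right_cancel₀ h3 h2).symm

theorem act_mul {x y : G} (hx : x ∈ P.T) (hy : y ∈ P.T) : P.act (x * y) = P.act x + P.act y := by
  apply P.act_eq (mul_mem hx hy)
  intro r hr
  calc x * y * r * (x * y)⁻¹ = x * (y * r * y⁻¹) * x⁻¹ := by group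
    _ = x * (r * P.p 0 (P.act y * P.f r)) * x⁻¹ := by rw [P.T_act y hy r hr]
    _ = (x * r * x⁻¹) * (x * P.p 0 (P.act y * P.f r) * x⁻¹) := by group
    _ = (r * P.p 0 (P.act x * P.f r)) * P.p 0 (P.act y * P.f r) := by
      rw [P.T_act x hx r hr, P.T_Z x hx, mul_inv_cancel_right]
    _ = r * P.p 0 ((P.act x + P.act y) * P.f r) := by rw [mul_assoc, P.z_mul, add_mul]

theorem act_one : P.act 1 = 0 := by
  have := P.act_mul (one_mem P.T) (one_mem P.T)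
  rw [mul_one] at this
  exact add_eq_left.mp this.symm

theorem act_inv {x : G} (hx : x ∈ P.T) : P.act x⁻¹ = P.act x := by
  have h1 := P.act_mul (inv_mem hx) hx
  rw [inv_mul_cancel, P.act_one] at h1
  have h2 : P.act x⁻¹ = -P.act x := eq_neg_of_add_eq_zero_left h1.symm
  rw [h2, CharTwo.neg_eq]

theorem act_h (l : Fˣ) {x : G} (hx : x ∈ P.T) :
    P.act (P.h l * x * (P.h l)⁻¹) = (l : F) ^ (1 + 2 ^ (m + 1)) * P.act x := by
  apply P.act_eq (P.h_T l x hx)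
  intro r hr
  have h1 : (P.h l)⁻¹ * r * P.h l = r := by rw [mul_assoc, ← P.h_Q l r hr, inv_mul_cancel_left]
  have h2 : P.h l * r * (P.h l)⁻¹ = r := by rw [P.h_Q l r hr, mul_inv_cancel_right]
  calc P.h l * x * (P.h l)⁻¹ * r * (P.h l * x * (P.h l)⁻¹)⁻¹
      = P.h l * (x * ((P.h l)⁻¹ * r * P.h l) * x⁻¹) * (P.h l)⁻¹ := by group
    _ = P.h l * (r * P.p 0 (P.act x * P.f r)) * (P.h l)⁻¹ := by rw [h1, P.T_act x hx r hr]
    _ = (P.h l * r * (P.h l)⁻¹) * (P.h l * P.p 0 (P.act x * P.f r) * (P.h l)⁻¹) := by group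
    _ = _ := by rw [h2, P.h_p, mul_zero, mul_assoc]

/-! ### the subgroup `P` -/

/-- the subgroup `P = Q × {p a b}` -/
def PP : Subgroup G where
  carrier := {x | x ∈ P.T ∧ P.act x = 0}
  one_mem' := ⟨one_mem _, P.act_one⟩
  mul_mem' := by
    rintro x y ⟨hx, hx2⟩ ⟨hy, hy2⟩
    exact ⟨mul_mem hx hy, by rw [P.act_mul hx hy, hx2, hy2, add_zero]⟩
  inv_mem' := by
    rintro x ⟨hx, hx2⟩
    exact ⟨inv_mem hx, by rw [P.act_inv hx, hx2]⟩

theorem mem_PP {x : G} : x ∈ P.PP ↔ x ∈ P.T ∧ P.act x = 0 := Iff.rfl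

theorem PP_le : P.PP ≤ P.T := fun _ h => h.1

theorem Q_le : P.Q ≤ P.PP := by
  intro r hr
  refine ⟨P.T_Q hr, P.act_eq (P.T_Q hr) fun s hs => ?_⟩
  rw [zero_mul, P.p_zero, mul_one, P.Q_comm hr hs, mul_inv_cancel_right]

theorem p_mem (a b : F) : P.p a b ∈ P.PP := by
  refine ⟨P.T_p a b, P.act_eq (P.T_p a b) fun s hs => ?_⟩
  rw [zero_mul, P.p_zero, mul_one, ← P.Q_p s hs, mul_inv_cancel_right]

theorem exists_of_mem {x : G} (hx : x ∈ P.PP) : ∃ r ∈ P.Q, ∃ a b, x = r * P.p a b :=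
  P.T_ker x hx.1 hx.2

theorem rp_mem {r : G} (hr : r ∈ P.Q) (a b : F) : r * P.p a b ∈ P.PP := mul_mem (P.Q_le hr) (P.p_mem a b)

theorem PP_conj {x y : G} (hx : x ∈ P.T) (hy : y ∈ P.PP) : x * y * x⁻¹ ∈ P.PP := by
  refine ⟨mul_mem (mul_mem hx hy.1) (inv_mem hx), ?_⟩
  rw [P.act_mul (mul_mem hx hy.1) (inv_mem hx), P.act_mul hx hy.1, P.act_inv hx, hy.2, add_zero,
    CharTwo.add_self_eq_zero]

theorem PP_comm {x y : G} (hx : x ∈ P.T) (hy : y ∈ P.T) : x * y * x⁻¹ * y⁻¹ ∈ P.PP := by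
  refine ⟨mul_mem (mul_mem (mul_mem hx hy) (inv_mem hx)) (inv_mem hy), ?_⟩
  rw [P.act_mul (mul_mem (mul_mem hx hy) (inv_mem hx)) (inv_mem hy),
    P.act_mul (mul_mem hx hy) (inv_mem hx), P.act_mul hx hy, P.act_inv hx, P.act_inv hy]
  have : P.act x + P.act y + P.act x + P.act y = (P.act x + P.act x) + (P.act y + P.act y) := by ring
  rw [this, CharTwo.add_self_eq_zero, CharTwo.add_self_eq_zero, add_zero]

theorem PP_sq {x : G} (hx : x ∈ P.T) : x * x ∈ P.PP :=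
  ⟨mul_mem hx hx, by rw [P.act_mul hx hx, CharTwo.add_self_eq_zero]⟩

theorem PP_h (l : Fˣ) {x : G} (hx : x ∈ P.PP) : P.h l * x * (P.h l)⁻¹ ∈ P.PP :=
  ⟨P.h_T l x hx.1, by rw [P.act_h l hx.1, hx.2, mul_zero]⟩

/-- the `Q`-part -/
noncomputable def qP (x : G) : G := by
  classical exact if h : x ∈ P.PP then (P.exists_of_mem h).choose else 1

/-- the `A`-coordinate -/
noncomputable def aP (x : G) : F := by
  classical exact if h : x ∈ P.PP then (P.exists_of_mem h).choose_spec.2.choose else 0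

/-- the `Q`-coordinate -/
noncomputable def fP (x : G) : F := P.f (P.qP x)

theorem qP_spec {x : G} (hx : x ∈ P.PP) : P.qP x ∈ P.Q ∧ ∃ b, x = P.qP x * P.p (P.aP x) b := by
  classical
  have h1 : P.qP x = (P.exists_of_mem hx).choose := by unfold qP; exact dif_pos hx
  have h2 : P.aP x = (P.exists_of_mem hx).choose_spec.2.choose := by unfold aP; exact dif_pos hx
  rw [h1, h2]
  exact ⟨(P.exists_of_mem hx).choose_spec.1, (P.exists_of_mem hx).choose_spec.2.choose_spec⟩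

theorem qP_rp {r : G} (hr : r ∈ P.Q) (a b : F) : P.qP (r * P.p a b) = r := by
  obtain ⟨h1, d, h2⟩ := P.qP_spec (P.rp_mem hr a b)
  exact (P.uniq hr h1 h2).1.symm

theorem aP_rp {r : G} (hr : r ∈ P.Q) (a b : F) : P.aP (r * P.p a b) = a := by
  obtain ⟨h1, d, h2⟩ := P.qP_spec (P.rp_mem hr a b)
  exact (P.uniq hr h1 h2).2.1.symm

theorem fP_rp {r : G} (hr : r ∈ P.Q) (a b : F) : P.fP (r * P.p a b) = P.f r := by
  unfold fP
  rw [P.qP_rp hr]

theorem aP_p (a b : F) : P.aP (P.p a b) = a := by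
  have := P.aP_rp (one_mem _) a b
  rwa [one_mul] at this

theorem fP_p (a b : F) : P.fP (P.p a b) = 0 := by
  have := P.fP_rp (one_mem _) a b
  rwa [one_mul, P.f_one] at this

theorem aP_Q {r : G} (hr : r ∈ P.Q) : P.aP r = 0 := by
  have := P.aP_rp hr 0 0
  rwa [P.p_zero, mul_one] at this

theorem fP_Q {r : G} (hr : r ∈ P.Q) : P.fP r = P.f r := by
  have := P.fP_rp hr 0 0
  rwa [P.p_zero, mul_one] at this

omit [CharP F 2] in
theorem rp_mul {r s : G} (_ : r ∈ P.Q) (hs : s ∈ P.Q) (a b c d : F) :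
    (r * P.p a b) * (s * P.p c d) = (r * s) * P.p (a + c) (b + d + a ^ (2 ^ (m + 1)) * c) := by
  rw [← P.p_mul]
  calc r * P.p a b * (s * P.p c d) = r * (P.p a b * s) * P.p c d := by group
    _ = r * (s * P.p a b) * P.p c d := by rw [P.Q_p s hs]
    _ = _ := by group

theorem aP_mul {x y : G} (hx : x ∈ P.PP) (hy : y ∈ P.PP) : P.aP (x * y) = P.aP x + P.aP y := by
  obtain ⟨r, hr, a, b, rfl⟩ := P.exists_of_mem hx
  obtain ⟨s, hs, c, d, rfl⟩ := P.exists_of_mem hy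
  rw [P.rp_mul hr hs, P.aP_rp (mul_mem hr hs), P.aP_rp hr, P.aP_rp hs]

theorem fP_mul {x y : G} (hx : x ∈ P.PP) (hy : y ∈ P.PP) : P.fP (x * y) = P.fP x + P.fP y := by
  obtain ⟨r, hr, a, b, rfl⟩ := P.exists_of_mem hx
  obtain ⟨s, hs, c, d, rfl⟩ := P.exists_of_mem hy
  rw [P.rp_mul hr hs, P.fP_rp (mul_mem hr hs), P.fP_rp hr, P.fP_rp hs, P.f_mul r hr s hs]

theorem aP_h (l : Fˣ) {x : G} (hx : x ∈ P.PP) : P.aP (P.h l * x * (P.h l)⁻¹) = l * P.aP x := by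
  obtain ⟨r, hr, a, b, rfl⟩ := P.exists_of_mem hx
  have h2 : P.h l * r * (P.h l)⁻¹ = r := by rw [P.h_Q l r hr, mul_inv_cancel_right]
  have : P.h l * (r * P.p a b) * (P.h l)⁻¹ = r * (P.h l * P.p a b * (P.h l)⁻¹) := by
    calc P.h l * (r * P.p a b) * (P.h l)⁻¹ = (P.h l * r * (P.h l)⁻¹) * (P.h l * P.p a b * (P.h l)⁻¹) := by group
      _ = _ := by rw [h2]
  rw [this, P.h_p, P.aP_rp hr, P.aP_rp hr]

theorem fP_h (l : Fˣ) {x : G} (hx : x ∈ P.PP) : P.fP (P.h l * x * (P.h l)⁻¹) = P.fP x := by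
  obtain ⟨r, hr, a, b, rfl⟩ := P.exists_of_mem hx
  have h2 : P.h l * r * (P.h l)⁻¹ = r := by rw [P.h_Q l r hr, mul_inv_cancel_right]
  have : P.h l * (r * P.p a b) * (P.h l)⁻¹ = r * (P.h l * P.p a b * (P.h l)⁻¹) := by
    calc P.h l * (r * P.p a b) * (P.h l)⁻¹ = (P.h l * r * (P.h l)⁻¹) * (P.h l * P.p a b * (P.h l)⁻¹) := by group
      _ = _ := by rw [h2]
  rw [this, P.h_p, P.fP_rp hr, P.fP_rp hr]

theorem eq_z {x : G} (hx : x ∈ P.PP) (h1 : P.aP x = 0) (h2 : P.fP x = 0) : ∃ b, x = P.p 0 b := by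
  obtain ⟨h3, b, h4⟩ := P.qP_spec hx
  rw [h1, P.f_inj _ h3 h2, one_mul] at h4
  exact ⟨b, h4⟩

/-! ### Step 1 : `[P, T] ≤ Q Z` -/

theorem aP_conj_aux {x y : G} (hx : x ∈ P.T) (hy : y ∈ P.PP) :
    P.aP (x * y * x⁻¹) = P.aP (x * P.p (P.aP y) 0 * x⁻¹) := by
  obtain ⟨r, hr, a, b, rfl⟩ := P.exists_of_mem hy
  rw [P.aP_rp hr]
  have h1 : r * P.p a b = (r * P.p 0 b) * P.p a 0 := by rw [mul_assoc, P.z_mul_p, add_zero]
  have h2 : x * (r * P.p a b) * x⁻¹ = (x * r * x⁻¹) * (x * P.p 0 b * x⁻¹) * (x * P.p a 0 * x⁻¹) := by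
    rw [h1]; group
  have h3 : x * P.p 0 b * x⁻¹ = P.p 0 b := by rw [P.T_Z x hx, mul_inv_cancel_right]
  rw [h2, P.T_act x hx r hr, h3, mul_assoc r, P.z_mul,
    P.aP_mul (P.rp_mem hr _ _) (P.PP_conj hx (P.p_mem a 0)), P.aP_rp hr, zero_add]

variable [Finite G]

theorem aP_conj {x y : G} (hx : x ∈ P.T) (hy : y ∈ P.PP) : P.aP (x * y * x⁻¹) = P.aP y := by
  classical
  have h00 : ∀ x ∈ P.T, P.aP (x * P.p 0 0 * x⁻¹) = 0 := by
    intro x hx
    rw [P.p_zero, mul_one, mul_inv_cancel, ← P.p_zero, P.aP_p]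
  let ac : MulAction P.T F :=
    { smul := fun x a => P.aP ((x : G) * P.p a 0 * (x : G)⁻¹)
      one_smul := by
        intro a
        show P.aP ((1 : G) * P.p a 0 * (1 : G)⁻¹) = a
        rw [one_mul, inv_one, mul_one, P.aP_p]
      mul_smul := by
        intro x y a
        show P.aP (((x : G) * (y : G)) * P.p a 0 * ((x : G) * (y : G))⁻¹) =
          P.aP ((x : G) * P.p (P.aP ((y : G) * P.p a 0 * (y : G)⁻¹)) 0 * (x : G)⁻¹)
        rw [← P.aP_conj_aux x.2 (P.PP_conj y.2 (P.p_mem a 0))]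
        congr 1
        group }
  have hsm : ∀ (x : P.T) (a : F), x • a = P.aP ((x : G) * P.p a 0 * (x : G)⁻¹) := fun _ _ => rfl
  have : Fact (Nat.Prime 2) := ⟨Nat.prime_two⟩
  have h1 := P.T_two.card_modEq_card_fixedPoints F
  have hex : ∃ a : F, a ≠ 0 ∧ ∀ x : P.T, x • a = a := by
    by_contra hcon
    push Not at hcon
    have h2 : MulAction.fixedPoints P.T F = {0} := by
      ext a
      rw [MulAction.mem_fixedPoints, Set.mem_singleton_iff]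
      constructor
      · intro h
        by_contra ha
        obtain ⟨x, hx⟩ := hcon a ha
        exact hx (h x)
      · rintro rfl x
        rw [hsm]
        exact h00 x x.2
    rw [h2] at h1
    have h3 : Nat.card ({0} : Set F) = 1 := by simp
    rw [h3, Nat.card_eq_fintype_card, P.hF] at h1
    have h4 : 2 ∣ 2 ^ (2 * m + 1) := dvd_pow_self 2 (by omega)
    have h5 : 2 ^ (2 * m + 1) % 2 = 1 % 2 := h1
    omega
  obtain ⟨a0, ha0, hfix⟩ := hex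
  rw [P.aP_conj_aux hx hy]
  obtain ⟨a, ha⟩ : ∃ a, P.aP y = a := ⟨_, rfl⟩
  rw [ha]
  rcases eq_or_ne a 0 with rfl | ha'
  · exact h00 x hx
  · -- `a = l * a0`
    let l : Fˣ := Units.mk0 (a * a0⁻¹) (mul_ne_zero ha' (inv_ne_zero ha0))
    have hl : (l : F) * a0 = a := by
      show a * a0⁻¹ * a0 = a
      rw [mul_assoc, inv_mul_cancel₀ ha0, mul_one]
    -- `x' = h⁻¹ x h`
    have h6 : P.h l⁻¹ * x * (P.h l⁻¹)⁻¹ ∈ P.T := P.h_T _ x hx
    set x' := P.h l⁻¹ * x * (P.h l⁻¹)⁻¹ with hx'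
    have h7 : x = P.h l * x' * (P.h l)⁻¹ := by
      have h8 := P.h_mul l l⁻¹ x hx
      have h9 := P.h_mul 1 1 x hx
      rw [mul_inv_cancel] at h8
      rw [mul_one] at h9
      have h10 : P.h 1 * x * (P.h 1)⁻¹ = x := by
        have := mul_left_cancel (mul_right_cancel h9)
        exact this.symm
      rw [h10] at h8
      exact h8
    have h8 : x * P.p a 0 * x⁻¹ = P.h l * (x' * P.p a0 0 * x'⁻¹) * (P.h l)⁻¹ := by
      have h9 : P.p a 0 = P.h l * P.p a0 0 * (P.h l)⁻¹ := by rw [P.h_p, hl, mul_zero]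
      rw [h9]
      nth_rewrite 1 2 [h7]
      group
    rw [h8, P.aP_h l (P.PP_conj h6 (P.p_mem a0 0))]
    have h9 := hfix ⟨x', h6⟩
    rw [hsm] at h9
    rw [h9, hl]

/-! ### Step 2 : `[P, T] ≤ Z` -/

theorem fP_conj_aux {x y : G} (hx : x ∈ P.T) (hy : y ∈ P.PP) :
    P.fP (x * y * x⁻¹) = P.fP y + P.fP (x * P.p (P.aP y) 0 * x⁻¹) := by
  obtain ⟨r, hr, a, b, rfl⟩ := P.exists_of_mem hy
  rw [P.aP_rp hr]
  have h1 : r * P.p a b = (r * P.p 0 b) * P.p a 0 := by rw [mul_assoc, P.z_mul_p, add_zero]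
  have h2 : x * (r * P.p a b) * x⁻¹ = (x * r * x⁻¹) * (x * P.p 0 b * x⁻¹) * (x * P.p a 0 * x⁻¹) := by
    rw [h1]; group
  have h3 : x * P.p 0 b * x⁻¹ = P.p 0 b := by rw [P.T_Z x hx, mul_inv_cancel_right]
  rw [h2, P.T_act x hx r hr, h3, mul_assoc r, P.z_mul,
    P.fP_mul (P.rp_mem hr _ _) (P.PP_conj hx (P.p_mem a 0)), P.fP_rp hr, P.fP_rp hr]

/-- a section of `act` -/
noncomputable def xc (c : F) : G := (P.T_surj c).choose

theorem xc_mem (c : F) : P.xc c ∈ P.T := (P.T_surj c).choose_spec.1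

theorem act_xc (c : F) : P.act (P.xc c) = c := (P.T_surj c).choose_spec.2

theorem div_mem {x y : G} (hx : x ∈ P.T) (hy : y ∈ P.T) (h : P.act x = P.act y) : x⁻¹ * y ∈ P.PP :=
  ⟨mul_mem (inv_mem hx) hy, by
    rw [P.act_mul (inv_mem hx) hy, P.act_inv hx, h, CharTwo.add_self_eq_zero]⟩

theorem fP_conj {x y : G} (hx : x ∈ P.T) (hy : y ∈ P.PP) : P.fP (x * y * x⁻¹) = P.fP y := by
  -- `ψ x a`
  let ψ : G → F → F := fun x a => P.fP (x * P.p a 0 * x⁻¹)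
  have hψ : ∀ x a, ψ x a = P.fP (x * P.p a 0 * x⁻¹) := fun _ _ => rfl
  have hmul : ∀ x ∈ P.T, ∀ y ∈ P.T, ∀ a, ψ (x * y) a = ψ x a + ψ y a := by
    intro x hx y hy a
    have h1 : x * y * P.p a 0 * (x * y)⁻¹ = x * (y * P.p a 0 * y⁻¹) * x⁻¹ := by group
    rw [hψ, h1, P.fP_conj_aux hx (P.PP_conj hy (P.p_mem a 0)), P.aP_conj hy (P.p_mem a 0), P.aP_p,
      add_comm]
  have hPP : ∀ x ∈ P.PP, ∀ a, ψ x a = 0 := by
    intro x hx a
    rw [hψ, P.fP_mul (mul_mem hx (P.p_mem a 0)) (inv_mem hx), P.fP_mul hx (P.p_mem a 0), P.fP_p, add_zero,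
      ← P.fP_mul hx (inv_mem hx), mul_inv_cancel, ← P.p_zero, P.fP_p]
  have hdep : ∀ x ∈ P.T, ∀ y ∈ P.T, P.act x = P.act y → ∀ a, ψ x a = ψ y a := by
    intro x hx y hy h a
    have h1 := P.div_mem hx hy h
    have h2 := hmul x hx (x⁻¹ * y) h1.1 a
    rw [mul_inv_cancel_left, hPP _ h1, add_zero] at h2
    exact h2.symm
  have hadd : ∀ x ∈ P.T, ∀ a b, ψ x (a + b) = ψ x a + ψ x b := by
    intro x hx a b
    have h1 : P.p (a + b) 0 = P.p 0 (a ^ (2 ^ (m + 1)) * b) * (P.p a 0 * P.p b 0) := by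
      rw [P.p_mul, P.z_mul_p]
      congr 1
      rw [add_zero, zero_add, CharTwo.add_self_eq_zero]
    have h2 : x * P.p (a + b) 0 * x⁻¹ =
        P.p 0 (a ^ (2 ^ (m + 1)) * b) * ((x * P.p a 0 * x⁻¹) * (x * P.p b 0 * x⁻¹)) := by
      rw [h1]
      calc x * (P.p 0 (a ^ (2 ^ (m + 1)) * b) * (P.p a 0 * P.p b 0)) * x⁻¹
          = (x * P.p 0 (a ^ (2 ^ (m + 1)) * b)) * x⁻¹ * ((x * P.p a 0 * x⁻¹) * (x * P.p b 0 * x⁻¹)) := by
            group
        _ = _ := by rw [P.T_Z x hx, mul_inv_cancel_right]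
    have h3 := P.PP_conj hx (P.p_mem a 0)
    have h4 := P.PP_conj hx (P.p_mem b 0)
    rw [hψ, h2, P.fP_mul (P.p_mem _ _) (mul_mem h3 h4), P.fP_mul h3 h4, P.fP_p, zero_add]
  have hzero : ∀ a c, ψ (P.xc c) a = 0 := by
    apply Weights.pairing_120 P.hm P.hF (fun a c => ψ (P.xc c) a)
    · intro a a' c
      exact hadd _ (P.xc_mem c) a a'
    · intro a c c'
      show ψ (P.xc (c + c')) a = ψ (P.xc c) a + ψ (P.xc c') a
      rw [← hmul _ (P.xc_mem c) _ (P.xc_mem c')]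
      apply hdep _ (P.xc_mem _) _ (mul_mem (P.xc_mem c) (P.xc_mem c'))
      rw [P.act_xc, P.act_mul (P.xc_mem c) (P.xc_mem c'), P.act_xc, P.act_xc]
    · intro l a c hl
      show ψ (P.xc (l ^ (1 + 2 ^ (m + 1)) * c)) (l * a) = ψ (P.xc c) a
      let u : Fˣ := Units.mk0 l hl
      have h1 : ψ (P.xc (l ^ (1 + 2 ^ (m + 1)) * c)) (l * a) =
          ψ (P.h u * P.xc c * (P.h u)⁻¹) (l * a) := by
        apply hdep _ (P.xc_mem _) _ (P.h_T u _ (P.xc_mem c))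
        rw [P.act_xc, P.act_h u (P.xc_mem c), P.act_xc]
        rfl
      rw [h1, hψ, hψ, ← P.fP_h u (P.PP_conj (P.xc_mem c) (P.p_mem a 0))]
      congr 1
      have h9 : P.p (l * a) 0 = P.h u * P.p a 0 * (P.h u)⁻¹ := by rw [P.h_p, mul_zero]; rfl
      rw [h9]
      group
  rw [P.fP_conj_aux hx hy]
  have h1 : ψ x (P.aP y) = 0 := by
    rw [← hzero (P.aP y) (P.act x)]
    exact hdep x hx _ (P.xc_mem _) (P.act_xc _).symm _
  have h2 : P.fP (x * P.p (P.aP y) 0 * x⁻¹) = 0 := h1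
  rw [h2, add_zero]

/-! ### Step 3 : `T / Z` is elementary abelian -/

/-- `g` is an additive `T`-invariant function on `P`, with torus weight `w` -/
structure Inv (g : G → F) (w : F → F) : Prop where
  mul : ∀ x ∈ P.PP, ∀ y ∈ P.PP, g (x * y) = g x + g y
  conj : ∀ x ∈ P.T, ∀ y ∈ P.PP, g (x * y * x⁻¹) = g y
  tor : ∀ (l : Fˣ), ∀ y ∈ P.PP, g (P.h l * y * (P.h l)⁻¹) = w l * g y

theorem inv_aP : P.Inv P.aP (fun l => l) :=
  ⟨fun _ hx _ hy => P.aP_mul hx hy, fun _ hx _ hy => P.aP_conj hx hy, fun l _ hy => P.aP_h l hy⟩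

theorem inv_fP : P.Inv P.fP (fun _ => 1) :=
  ⟨fun _ hx _ hy => P.fP_mul hx hy, fun _ hx _ hy => P.fP_conj hx hy,
    fun l _ hy => by rw [P.fP_h l hy, one_mul]⟩

variable {P}

theorem Inv.one {g : G → F} {w : F → F} (I : P.Inv g w) : g 1 = 0 := by
  have := I.mul 1 (one_mem _) 1 (one_mem _)
  rw [mul_one] at this
  exact add_eq_left.mp this.symm

theorem Inv.inv {g : G → F} {w : F → F} (I : P.Inv g w) {x : G} (hx : x ∈ P.PP) : g x⁻¹ = g x := by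
  have h1 := I.mul _ (inv_mem hx) _ hx
  rw [inv_mul_cancel, I.one] at h1
  rw [eq_neg_of_add_eq_zero_left h1.symm, CharTwo.neg_eq]

/-- the commutator form is additive on the left -/
theorem Inv.cm_mul_left {g : G → F} {w : F → F} (I : P.Inv g w) {x x' y : G} (hx : x ∈ P.T)
    (hx' : x' ∈ P.T) (hy : y ∈ P.T) : g (x * x' * y * (x * x')⁻¹ * y⁻¹) =
      g (x * y * x⁻¹ * y⁻¹) + g (x' * y * x'⁻¹ * y⁻¹) := by
  have h1 : x * x' * y * (x * x')⁻¹ * y⁻¹ = (x * (x' * y * x'⁻¹ * y⁻¹) * x⁻¹) * (x * y * x⁻¹ * y⁻¹) := by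
    group
  have h2 := P.PP_comm hx' hy
  rw [h1, I.mul _ (P.PP_conj hx h2) _ (P.PP_comm hx hy), I.conj _ hx _ h2, add_comm]

theorem Inv.cm_symm {g : G → F} {w : F → F} (I : P.Inv g w) {x y : G} (hx : x ∈ P.T)
    (hy : y ∈ P.T) : g (y * x * y⁻¹ * x⁻¹) = g (x * y * x⁻¹ * y⁻¹) := by
  rw [← I.inv (P.PP_comm hx hy)]
  congr 1
  group

theorem Inv.cm_mul_right {g : G → F} {w : F → F} (I : P.Inv g w) {x y y' : G} (hx : x ∈ P.T)
    (hy : y ∈ P.T) (hy' : y' ∈ P.T) : g (x * (y * y') * x⁻¹ * (y * y')⁻¹) =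
      g (x * y * x⁻¹ * y⁻¹) + g (x * y' * x⁻¹ * y'⁻¹) := by
  rw [← I.cm_symm hx (mul_mem hy hy'), I.cm_mul_left hy hy' hx, I.cm_symm hx hy, I.cm_symm hx hy']

theorem Inv.cm_PP_left {g : G → F} {w : F → F} (I : P.Inv g w) {x y : G} (hx : x ∈ P.PP)
    (hy : y ∈ P.T) : g (x * y * x⁻¹ * y⁻¹) = 0 := by
  have h1 : x * y * x⁻¹ * y⁻¹ = x * (y * x⁻¹ * y⁻¹) := by group
  rw [h1, I.mul _ hx _ (P.PP_conj hy (inv_mem hx)), I.conj _ hy _ (inv_mem hx), I.inv hx,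
    CharTwo.add_self_eq_zero]

theorem Inv.cm_dep_left {g : G → F} {w : F → F} (I : P.Inv g w) {x x' y : G} (hx : x ∈ P.T)
    (hx' : x' ∈ P.T) (hy : y ∈ P.T) (h : P.act x = P.act x') :
    g (x * y * x⁻¹ * y⁻¹) = g (x' * y * x'⁻¹ * y⁻¹) := by
  have h1 := P.div_mem hx hx' h
  have h2 := I.cm_mul_left hx h1.1 hy
  rw [mul_inv_cancel_left, I.cm_PP_left h1 hy, add_zero] at h2
  exact h2.symm

theorem Inv.cm_dep {g : G → F} {w : F → F} (I : P.Inv g w) {x x' y y' : G} (hx : x ∈ P.T)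
    (hx' : x' ∈ P.T) (hy : y ∈ P.T) (hy' : y' ∈ P.T) (h : P.act x = P.act x') (h' : P.act y = P.act y') :
    g (x * y * x⁻¹ * y⁻¹) = g (x' * y' * x'⁻¹ * y'⁻¹) := by
  rw [I.cm_dep_left hx hx' hy h, ← I.cm_symm hx' hy, I.cm_dep_left hy hy' hx' h', I.cm_symm hx' hy']

/-- the squaring map is a quadratic map with this form -/
theorem Inv.sq_mul {g : G → F} {w : F → F} (I : P.Inv g w) {x y : G} (hx : x ∈ P.T)
    (hy : y ∈ P.T) : g (x * y * (x * y)) = g (x * x) + g (y * y) + g (x * y * x⁻¹ * y⁻¹) := by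
  have h1 : x * y * (x * y) = (x * (y * x * y⁻¹ * x⁻¹) * x⁻¹) * ((x * x) * (y * y)) := by group
  have h2 := P.PP_comm hy hx
  rw [h1, I.mul _ (P.PP_conj hx h2) _ (mul_mem (P.PP_sq hx) (P.PP_sq hy)),
    I.mul _ (P.PP_sq hx) _ (P.PP_sq hy), I.conj _ hx _ h2, I.cm_symm hx hy, add_comm]

/-- all the commutators are killed by `g` -/
theorem Inv.cm_zero {g : G → F} {w : F → F} (I : P.Inv g w)
    (hB : ∀ B : F → F → F, (∀ x x' y, B (x + x') y = B x y + B x' y) →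
      (∀ x y y', B x (y + y') = B x y + B x y') →
      (∀ l x y : F, l ≠ 0 → B (l ^ (1 + 2 ^ (m + 1)) * x) (l ^ (1 + 2 ^ (m + 1)) * y) = w l * B x y) →
      ∀ x y, B x y = 0) {x y : G} (hx : x ∈ P.T) (hy : y ∈ P.T) : g (x * y * x⁻¹ * y⁻¹) = 0 := by
  let B : F → F → F := fun c d => g (P.xc c * P.xc d * (P.xc c)⁻¹ * (P.xc d)⁻¹)
  have hB0 : ∀ c d, B c d = 0 := by
    apply hB B
    · intro c c' d
      show g _ = g _ + g _
      rw [← I.cm_mul_left (P.xc_mem c) (P.xc_mem c') (P.xc_mem d)]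
      apply I.cm_dep_left (P.xc_mem _) (mul_mem (P.xc_mem _) (P.xc_mem _)) (P.xc_mem _)
      rw [P.act_mul (P.xc_mem _) (P.xc_mem _), P.act_xc, P.act_xc, P.act_xc]
    · intro c d d'
      show g _ = g _ + g _
      rw [← I.cm_mul_right (P.xc_mem c) (P.xc_mem d) (P.xc_mem d')]
      apply I.cm_dep (P.xc_mem _) (P.xc_mem _) (P.xc_mem _) (mul_mem (P.xc_mem _) (P.xc_mem _)) rfl
      rw [P.act_mul (P.xc_mem _) (P.xc_mem _), P.act_xc, P.act_xc, P.act_xc]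
    · intro l c d hl
      let u : Fˣ := Units.mk0 l hl
      have h1 := I.tor u _ (P.PP_comm (P.xc_mem c) (P.xc_mem d))
      show g _ = w l * g _
      rw [show w l = w (u : F) from rfl, ← h1]
      have h2 : P.h u * (P.xc c * P.xc d * (P.xc c)⁻¹ * (P.xc d)⁻¹) * (P.h u)⁻¹ =
          (P.h u * P.xc c * (P.h u)⁻¹) * (P.h u * P.xc d * (P.h u)⁻¹) *
            (P.h u * P.xc c * (P.h u)⁻¹)⁻¹ * (P.h u * P.xc d * (P.h u)⁻¹)⁻¹ := by group
      rw [h2]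
      apply I.cm_dep (P.xc_mem _) (P.h_T u _ (P.xc_mem _)) (P.xc_mem _) (P.h_T u _ (P.xc_mem _))
      · rw [P.act_xc, P.act_h u (P.xc_mem _), P.act_xc]; rfl
      · rw [P.act_xc, P.act_h u (P.xc_mem _), P.act_xc]; rfl
  rw [← hB0 (P.act x) (P.act y)]
  exact I.cm_dep hx (P.xc_mem _) hy (P.xc_mem _) (P.act_xc _).symm (P.act_xc _).symm

/-- all the squares are killed by `g` -/
theorem Inv.sq_zero {g : G → F} {w : F → F} (I : P.Inv g w)
    (hcm : ∀ x ∈ P.T, ∀ y ∈ P.T, g (x * y * x⁻¹ * y⁻¹) = 0)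
    (hs : ∀ s : F → F, (∀ x y, s (x + y) = s x + s y) →
      (∀ l x : F, l ≠ 0 → s (l ^ (1 + 2 ^ (m + 1)) * x) = w l * s x) → ∀ x, s x = 0)
    {x : G} (hx : x ∈ P.T) : g (x * x) = 0 := by
  have hadd : ∀ x ∈ P.T, ∀ y ∈ P.T, g (x * y * (x * y)) = g (x * x) + g (y * y) := by
    intro x hx y hy
    rw [I.sq_mul hx hy, hcm x hx y hy, add_zero]
  have hPP : ∀ x ∈ P.PP, g (x * x) = 0 := by
    intro x hx
    rw [I.mul _ hx _ hx, CharTwo.add_self_eq_zero]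
  have hdep : ∀ x ∈ P.T, ∀ y ∈ P.T, P.act x = P.act y → g (x * x) = g (y * y) := by
    intro x hx y hy h
    have h1 := P.div_mem hx hy h
    have h2 := hadd x hx _ h1.1
    rw [mul_inv_cancel_left, hPP _ h1, add_zero] at h2
    exact h2.symm
  have h0 : ∀ c, g (P.xc c * P.xc c) = 0 := by
    apply hs (fun c => g (P.xc c * P.xc c))
    · intro c d
      show g _ = g _ + g _
      rw [← hadd _ (P.xc_mem c) _ (P.xc_mem d)]
      apply hdep _ (P.xc_mem _) _ (mul_mem (P.xc_mem _) (P.xc_mem _))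
      rw [P.act_mul (P.xc_mem _) (P.xc_mem _), P.act_xc, P.act_xc, P.act_xc]
    · intro l c hl
      let u : Fˣ := Units.mk0 l hl
      have h1 := I.tor u _ (P.PP_sq (P.xc_mem c))
      show g _ = w l * g _
      rw [show w l = w (u : F) from rfl, ← h1]
      have h2 : P.h u * (P.xc c * P.xc c) * (P.h u)⁻¹ =
          (P.h u * P.xc c * (P.h u)⁻¹) * (P.h u * P.xc c * (P.h u)⁻¹) := by group
      rw [h2]
      apply hdep _ (P.xc_mem _) _ (P.h_T u _ (P.xc_mem _))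
      rw [P.act_xc, P.act_h u (P.xc_mem _), P.act_xc]; rfl
  rw [← h0 (P.act x)]
  exact hdep x hx _ (P.xc_mem _) (P.act_xc _).symm

variable (P)

/-- **squares lie in `Z`** -/
theorem exists_sq {x : G} (hx : x ∈ P.T) : ∃ b, x * x = P.p 0 b := by
  have hm := P.hm
  have hF := P.hF
  apply P.eq_z (P.PP_sq hx)
  · apply P.inv_aP.sq_zero _ _ hx
    · intro x hx y hy
      refine P.inv_aP.cm_zero (fun B h1 h2 h3 => ?_) hx hy
      exact pairing_221 hm hF B h1 h2 h3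
    · intro s h1 h2
      exact Weights.map_21 (by omega) hF s h1 h2
  · have key : ∀ l : F, l ≠ 0 → ∃ k : F, k ≠ 0 ∧ k ^ (1 + 2 ^ (m + 1)) = l := fun l hl =>
      ⟨_, pow_ne_zero _ hl, norm_surj hF l⟩
    apply P.inv_fP.sq_zero _ _ hx
    · intro x hx y hy
      refine P.inv_fP.cm_zero (fun B h1 h2 h3 => ?_) hx hy
      apply Weights.pairing_same0 (by omega) hF B h1 h2
      intro l x y hl
      obtain ⟨k, hk0, hk⟩ := key l hl
      have := h3 k x y hk0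
      rwa [hk, one_mul] at this
    · intro s h1 h2
      apply Weights.map_20 _ s h1
      · intro l x hl
        obtain ⟨k, hk0, hk⟩ := key l hl
        have := h2 k x hk0
        rwa [hk, one_mul] at this
      · rw [hF]
        calc 2 < 2 ^ 2 := by norm_num
          _ ≤ 2 ^ (2 * m + 1) := Nat.pow_le_pow_right (by norm_num) (by omega)

/-- **commutators lie in `Z`** -/
theorem exists_comm {x y : G} (hx : x ∈ P.T) (hy : y ∈ P.T) : ∃ b, x * y = P.p 0 b * (y * x) := by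
  obtain ⟨b1, h1⟩ := P.exists_sq hx
  obtain ⟨b2, h2⟩ := P.exists_sq hy
  obtain ⟨b3, h3⟩ := P.exists_sq (mul_mem hx hy)
  refine ⟨b1 + b2 + b3, ?_⟩
  rw [← P.z_mul, ← P.z_mul, ← h1, ← h3]
  have h4 : y⁻¹ = P.p 0 b2 * y := by
    apply inv_eq_of_mul_eq_one_left
    rw [mul_assoc, h2, P.z_self]
  have h5 : x⁻¹ = P.p 0 b1 * x := by
    apply inv_eq_of_mul_eq_one_left
    rw [mul_assoc, h1, P.z_self]
  have hz3 := P.T_Z
  -- `x y x y = b3`, so `x y = b3 y⁻¹ x⁻¹`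
  have h6 : x * y = P.p 0 b3 * (y⁻¹ * x⁻¹) := by
    rw [← h3]; group
  rw [h3, h1]
  rw [h6, h4, h5]
  have e1 : P.p 0 b2 * y * (P.p 0 b1 * x) = P.p 0 b2 * P.p 0 b1 * (y * x) := by
    calc P.p 0 b2 * y * (P.p 0 b1 * x) = P.p 0 b2 * (y * P.p 0 b1) * x := by group
      _ = P.p 0 b2 * (P.p 0 b1 * y) * x := by rw [P.T_Z y hy]
      _ = _ := by group
  rw [e1, ← mul_assoc, ← mul_assoc, P.z_mul, P.z_mul, P.z_mul, P.z_mul, ← mul_assoc]
  congr 3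
  ring

end Pre

end Cfsg.Agent.OddHalf.D4.Sz
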