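import Cfsg.Agent.OddHalf.D4.Sz.Block
import Cfsg.Agent.OddHalf.D4.CommConj
import Mathlib.FieldTheory.Galois.Basic
import Mathlib.FieldTheory.Finite.GaloisField

/-!
# ODD, D4, `K = Sz(q)`, `q ≥ 32`: elements normalizing `T₁`

An element `u` of `N(T₁)` either normalizes `P = Q × {p a b}`, or it swaps the two blocks `Q Z` and `E₀`. Formulas for
its action on the coordinates.
-/

set_option autoImplicit false
set_option linter.unusedSectionVars false

namespace Cfsg.Agent.OddHalf.D4.Sz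

open Subgroup Cfsg.Agent.StdSz.EquivMaps Cfsg.Agent.StdSz.SzMaps
open Cfsg.Agent.OddHalf.D4.CommConj (mem_cj card_cj mem_cj_mul)

section Field

variable {F : Type*} [Field F] [Fintype F] [CharP F 2] {m : ℕ}

/-- an involutory automorphism of a field with `2 ^ (2 m + 1)` elements is trivial -/
theorem sigma_id (hF : Fintype.card F = 2 ^ (2 * m + 1)) (σ : F →+* F) (h : ∀ x, σ (σ x) = x) (x : F) :
    σ x = x := by
  let _ : Algebra (ZMod 2) F := ZMod.algebra F 2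
  have : Fact (Nat.Prime 2) := ⟨Nat.prime_two⟩
  let e : F ≃+* F := { σ with
    invFun := σ
    left_inv := h
    right_inv := h }
  let a : F ≃ₐ[ZMod 2] F := AlgEquiv.ofRingEquiv (f := e) (fun r => by
    show σ (algebraMap (ZMod 2) F r) = _
    have : (σ.comp (algebraMap (ZMod 2) F)) = algebraMap (ZMod 2) F := Subsingleton.elim _ _
    exact congrArg (fun f : ZMod 2 →+* F => f r) this)
  have h1 : a ^ 2 = 1 := by
    rw [pow_two]
    ext x
    exact h x
  have hfr : Module.finrank (ZMod 2) F = 2 * m + 1 := by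
    have h1 : Fintype.card F = Fintype.card (ZMod 2) ^ Module.finrank (ZMod 2) F :=
      Module.card_eq_pow_finrank
    rw [hF, ZMod.card] at h1
    exact (Nat.pow_right_injective le_rfl h1).symm
  have h2 : orderOf a ∣ 2 := orderOf_dvd_of_pow_eq_one h1
  have h3 : orderOf a ∣ 2 * m + 1 := by
    rw [← hfr, ← IsGalois.card_aut_eq_finrank]
    exact orderOf_dvd_natCard a
  have h4 : orderOf a = 1 := by
    have h5 : orderOf a ∣ 1 := by
      have h6 := Nat.dvd_sub h3 (Dvd.dvd.mul_right h2 m)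
      rwa [Nat.add_sub_cancel_left] at h6
    exact Nat.dvd_one.mp h5
  have h5 : a = 1 := orderOf_eq_one_iff.mp h4
  have h6 : a x = x := by rw [h5]; rfl
  exact h6

/-- the field algebra of a swap -/
theorem alg_swap (hF : Fintype.card F = 2 ^ (2 * m + 1)) {α G H : F → F} (hα : ∀ x y, α (x + y) = α x + α y)
    (h : ∀ c r, α (c * r) = G r * H c) (hHG : ∀ r, H (G r) = r) :
    (∀ x, α x = x) ∧ ∃ g k : F, g * k = 1 ∧ (∀ r, G r = g * r) ∧ ∀ c, H c = k * c := by
  have hα1 : α 1 = G 1 * H 1 := by rw [← h, mul_one]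
  have hG : ∀ r, α r = G r * H 1 := fun r => by rw [← h, one_mul]
  have hH : ∀ c, α c = G 1 * H c := fun c => by rw [← h, mul_one]
  have h1 : α 1 ≠ 0 := by
    intro h0
    rw [h0] at hα1
    rcases mul_eq_zero.mp hα1.symm with h1 | h1
    · -- `G 1 = 0`, `α = 0`
      have h2 : ∀ c, α c = 0 := fun c => by rw [hH, h1, zero_mul]
      have h3 : ∀ r, G r = 0 := by
        intro r
        have h4 := h (G 1) r
        rw [h2, hHG, mul_one] at h4
        exact h4.symm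
      have h5 := hHG 1
      rw [h3, ← h3 0, hHG] at h5
      exact zero_ne_one h5
    · have h2 : ∀ c, α c = 0 := fun c => by rw [hG, h1, mul_zero]
      have h3 : ∀ r, G r = 0 := by
        intro r
        have h4 := h (G 1) r
        rw [h2, hHG, mul_one] at h4
        exact h4.symm
      have h5 := hHG 1
      rw [h3, ← h3 0, hHG] at h5
      exact zero_ne_one h5
  have hG1 : G 1 ≠ 0 := fun h0 => h1 (by rw [hα1, h0, zero_mul])
  have hH1 : H 1 ≠ 0 := fun h0 => h1 (by rw [hα1, h0, mul_zero])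
  -- `σ`
  have hmul : ∀ x y, α (x * y) * α 1 = α x * α y := by
    intro x y
    rw [h x y, hα1, hG y, hH x]
    ring
  let σ : F →+* F :=
    { toFun := fun x => α x / α 1
      map_one' := div_self h1
      map_mul' := by
        intro x y
        show α (x * y) / α 1 = α x / α 1 * (α y / α 1)
        field_simp
        exact hmul x y
      map_zero' := by
        show α 0 / α 1 = 0
        have := hα 0 0
        rw [add_zero] at this
        have h0 : α 0 = 0 := add_eq_left.mp this.symm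
        rw [h0, zero_div]
      map_add' := by
        intro x y
        show α (x + y) / α 1 = α x / α 1 + α y / α 1
        rw [hα, add_div] }
  have hσ : ∀ x, α x = α 1 * σ x := fun x => (mul_div_cancel₀ _ h1).symm
  have hG' : ∀ r, G r = G 1 * σ r := by
    intro r
    have h2 := hG r
    rw [hσ, hα1] at h2
    have h3 : (G r - G 1 * σ r) * H 1 = 0 := by linear_combination -h2
    exact sub_eq_zero.mp ((mul_eq_zero.mp h3).resolve_right hH1)
  have hH' : ∀ c, H c = H 1 * σ c := by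
    intro c
    have h2 := hH c
    rw [hσ, hα1] at h2
    have h3 : G 1 * (H c - H 1 * σ c) = 0 := by linear_combination -h2
    exact sub_eq_zero.mp ((mul_eq_zero.mp h3).resolve_left hG1)
  have hk : ∀ r, H 1 * σ (G 1) * σ (σ r) = r := by
    intro r
    have h2 := hHG r
    rw [hH', hG', map_mul] at h2
    rw [mul_assoc]; exact h2
  have hk1 : H 1 * σ (G 1) = 1 := by
    have := hk 1
    rwa [map_one, map_one, mul_one] at this
  have hid : ∀ x, σ x = x := by
    apply sigma_id hF σ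
    intro x
    have := hk x
    rwa [hk1, one_mul] at this
  rw [hid] at hk1
  have hα1' : α 1 = 1 := by rw [hα1, mul_comm, hk1]
  refine ⟨fun x => by rw [hσ, hα1', hid, one_mul], G 1, H 1, by rw [mul_comm, hk1], fun r => ?_, fun c => ?_⟩
  · rw [hG', hid]
  · rw [hH', hid]

/-- the field algebra of an element preserving the blocks -/
theorem alg_fix {G H : F → F} {ν : F} (hν : ν ≠ 0) (h : ∀ c r, ν * (c * r) = H c * G r) :
    ∃ g k : F, g * k = ν ∧ (∀ r, G r = g * r) ∧ ∀ c, H c = k * c := by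
  have h1 : ν = H 1 * G 1 := by rw [← h, mul_one, mul_one]
  have hG1 : G 1 ≠ 0 := fun h0 => hν (by rw [h1, h0, mul_zero])
  have hH1 : H 1 ≠ 0 := fun h0 => hν (by rw [h1, h0, zero_mul])
  refine ⟨G 1, H 1, by rw [h1, mul_comm], fun r => ?_, fun c => ?_⟩
  · have h2 := h 1 r
    rw [one_mul, h1] at h2
    have h3 : H 1 * (G 1 * r - G r) = 0 := by linear_combination h2
    exact (sub_eq_zero.mp ((mul_eq_zero.mp h3).resolve_left hH1)).symm
  · have h2 := h c 1
    rw [mul_one, h1] at h2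
    have h3 : (H 1 * c - H c) * G 1 = 0 := by linear_combination h2
    exact (sub_eq_zero.mp ((mul_eq_zero.mp h3).resolve_right hG1)).symm

end Field

namespace Pre

variable {G : Type*} [Group G] [Finite G] {F : Type*} [Field F] [Fintype F] [CharP F 2] {m : ℕ} (P : Pre G F m)

include P in
theorem bt_zero {a : F} (h : ∀ b, a * b ^ (2 ^ (m + 1)) + a ^ (2 ^ (m + 1)) * b = 0) : a = 0 := by
  by_contra ha
  obtain ⟨g, hg0, hg, -⟩ := exists_gen P.hF
  have e1 := h 1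
  rw [one_pow, mul_one, mul_one] at e1
  have e2 := h g
  have e3 : a ^ (2 ^ (m + 1)) = a := by
    have := eq_neg_of_add_eq_zero_right e1
    rwa [CharTwo.neg_eq] at this
  rw [e3, ← mul_add] at e2
  have e4 := (mul_eq_zero.mp e2).resolve_left ha
  have e5 : g ^ (2 ^ (m + 1)) = g := by
    have := eq_neg_of_add_eq_zero_left e4
    rwa [CharTwo.neg_eq] at this
  rcases Cfsg.Agent.StdSz.FormAlg.eq_of_th_eq P.hF e5 with e6 | e6
  · exact hg0 e6
  · have e7 : g ^ 1 = g ^ 0 := by rw [pow_one, pow_zero, e6]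
    rw [hg] at e7
    have hm := P.hm
    have h4 : 2 ^ 3 ≤ 2 ^ (2 * m + 1) := Nat.pow_le_pow_right (by norm_num) (by omega)
    have := Nat.ModEq.eq_of_lt_of_lt e7 (by omega) (by omega)
    omega

include P in
/-- some scalar is neither 0 nor 1 -/
theorem exists_ne_one : ∃ c : F, c ≠ 0 ∧ c ≠ 1 := by
  obtain ⟨g, hg0, hg, -⟩ := exists_gen P.hF
  refine ⟨g, hg0, fun e6 => ?_⟩
  have e7 : g ^ 1 = g ^ 0 := by rw [pow_one, pow_zero, e6]
  rw [hg] at e7
  have hm := P.hm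
  have h4 : 2 ^ 3 ≤ 2 ^ (2 * m + 1) := Nat.pow_le_pow_right (by norm_num) (by omega)
  have := Nat.ModEq.eq_of_lt_of_lt e7 (by omega) (by omega)
  omega

theorem card_PP : Nat.card P.PP = Nat.card P.Q * Fintype.card F ^ 2 := by
  have e : Nat.card (P.Q × F × F) = Nat.card P.PP := by
    apply Nat.card_congr
    refine Equiv.ofBijective (fun x => (⟨(x.1 : G) * P.p x.2.1 x.2.2, P.rp_mem x.1.2 _ _⟩ : P.PP)) ⟨?_, ?_⟩
    · rintro ⟨r, a, b⟩ ⟨s, c, d⟩ h
      obtain ⟨h1, h2, h3⟩ := P.uniq r.2 s.2 (congrArg Subtype.val h)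
      exact Prod.ext (Subtype.ext h1) (Prod.ext h2 h3)
    · rintro ⟨x, hx⟩
      obtain ⟨r, hr, a, b, rfl⟩ := P.exists_of_mem hx
      exact ⟨⟨⟨r, hr⟩, a, b⟩, rfl⟩
  rw [← e, Nat.card_prod, Nat.card_prod, Nat.card_eq_fintype_card (α := F)]
  ring

/-- the elements of `Q - 1` have centralizer `P` in `T` -/
theorem comm_Q_iff {r x : G} (hr : r ∈ P.Q) (hr1 : r ≠ 1) (hx : x ∈ P.T) : x ∈ P.PP ↔ r * x = x * r := by
  have h1 := P.cm_Q hr hx
  have h2 := P.cm_spec (P.T_Q hr) hx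
  have h3 : P.f r ≠ 0 := fun h0 => hr1 (P.f_inj r hr h0)
  constructor
  · intro h
    rw [h1, h.2, zero_mul, P.p_zero, one_mul] at h2
    exact h2
  · intro h
    refine ⟨hx, ?_⟩
    have h4 : P.cm r x = 0 := P.cm_eq (P.T_Q hr) hx (by rw [P.p_zero, one_mul, h])
    rw [h1] at h4
    exact (mul_eq_zero.mp h4).resolve_right h3

/-! ### conjugation by elements of `N(T)` -/

theorem conj_T {u x : G} (hu : u ∈ normalizer (P.T : Set G)) (hx : x ∈ P.T) : u * x * u⁻¹ ∈ P.T :=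
  (mem_normalizer_iff.mp hu x).mp hx

theorem conj_T' {u x : G} (hu : u ∈ normalizer (P.T : Set G)) (hx : x ∈ P.T) : u⁻¹ * x * u ∈ P.T := by
  have := P.conj_T (inv_mem hu) hx
  rwa [inv_inv] at this

theorem exists_al {u : G} (hu : u ∈ normalizer (P.T : Set G)) (b : F) : ∃ b', u * P.p 0 b * u⁻¹ = P.p 0 b' := by
  apply P.mem_Z_of_central (P.conj_T hu (P.T_p 0 b))
  intro y hy
  have h1 := P.T_Z _ (P.conj_T' hu hy) b
  calc u * P.p 0 b * u⁻¹ * y = u * (P.p 0 b * (u⁻¹ * y * u)) * u⁻¹ := by group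
    _ = u * ((u⁻¹ * y * u) * P.p 0 b) * u⁻¹ := by rw [h1]
    _ = y * (u * P.p 0 b * u⁻¹) := by group

/-- the action on `Z` -/
noncomputable def al (u : G) (b : F) : F := by
  classical exact if h : ∃ b', u * P.p 0 b * u⁻¹ = P.p 0 b' then h.choose else 0

theorem al_spec {u : G} (hu : u ∈ normalizer (P.T : Set G)) (b : F) : u * P.p 0 b * u⁻¹ = P.p 0 (P.al u b) := by
  classical
  have h := P.exists_al hu b
  have : P.al u b = h.choose := by unfold al; exact dif_pos h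
  rw [this]
  exact h.choose_spec

theorem al_eq {u : G} (hu : u ∈ normalizer (P.T : Set G)) {b b' : F} (h : u * P.p 0 b * u⁻¹ = P.p 0 b') :
    P.al u b = b' := P.z_inj (by rw [← P.al_spec hu, h])

theorem al_add {u : G} (hu : u ∈ normalizer (P.T : Set G)) (b b' : F) :
    P.al u (b + b') = P.al u b + P.al u b' := by
  apply P.al_eq hu
  rw [← P.z_mul, ← P.z_mul, ← P.al_spec hu, ← P.al_spec hu]
  group

theorem sq_conj {u x : G} (hu : u ∈ normalizer (P.T : Set G)) (hx : x ∈ P.T) :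
    P.sq (u * x * u⁻¹) = P.al u (P.sq x) := by
  apply P.sq_eq (P.conj_T hu hx)
  rw [← P.al_spec hu, ← P.sq_spec hx]
  group

theorem cm_conj {u x y : G} (hu : u ∈ normalizer (P.T : Set G)) (hx : x ∈ P.T) (hy : y ∈ P.T) :
    P.cm (u * x * u⁻¹) (u * y * u⁻¹) = P.al u (P.cm x y) := by
  apply P.cm_eq (P.conj_T hu hx) (P.conj_T hu hy)
  rw [← P.al_spec hu]
  have h1 := P.cm_spec hx hy
  calc u * x * u⁻¹ * (u * y * u⁻¹) = u * (x * y) * u⁻¹ := by group
    _ = u * (P.p 0 (P.cm x y) * (y * x)) * u⁻¹ := by rw [← h1]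
    _ = _ := by group

/-- equality of coordinates -/
def Eqc (x y : G) : Prop := P.fC x = P.fC y ∧ P.aC x = P.aC y ∧ P.act x = P.act y

theorem eqc_conj {u x y : G} (hu : u ∈ normalizer (P.T : Set G)) (hx : x ∈ P.T) (hy : y ∈ P.T) (h : P.Eqc x y) :
    P.Eqc (u * x * u⁻¹) (u * y * u⁻¹) := by
  obtain ⟨b, hb⟩ := P.exists_z_mul hx hy h.1 h.2.1 h.2.2
  have h1 : u * x * u⁻¹ = P.p 0 (P.al u b) * (u * y * u⁻¹) := by
    rw [← P.al_spec hu, hb]; group
  have hy' := P.conj_T hu hy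
  rw [h1]
  refine ⟨?_, ?_, ?_⟩
  · rw [P.fC_mul (P.T_p _ _) hy', P.fC_p, zero_add]
  · rw [P.aC_mul (P.T_p _ _) hy', P.aC_p, zero_add]
  · rw [P.act_mul (P.T_p _ _) hy', P.act_p, zero_add]

theorem fC_conj {t x : G} (ht : t ∈ P.T) (hx : x ∈ P.T) : P.fC (t * x * t⁻¹) = P.fC x := by
  rw [P.fC_mul (mul_mem ht hx) (inv_mem ht), P.fC_mul ht hx, P.fC_inv ht, add_comm (P.fC t), add_assoc,
    CharTwo.add_self_eq_zero, add_zero]

theorem aC_conj {t x : G} (ht : t ∈ P.T) (hx : x ∈ P.T) : P.aC (t * x * t⁻¹) = P.aC x := by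
  rw [P.aC_mul (mul_mem ht hx) (inv_mem ht), P.aC_mul ht hx, P.aC_inv ht, add_comm (P.aC t), add_assoc,
    CharTwo.add_self_eq_zero, add_zero]

theorem act_conj {t x : G} (ht : t ∈ P.T) (hx : x ∈ P.T) : P.act (t * x * t⁻¹) = P.act x := by
  rw [P.act_mul (mul_mem ht hx) (inv_mem ht), P.act_mul ht hx, P.act_inv ht, add_comm (P.act t), add_assoc,
    CharTwo.add_self_eq_zero, add_zero]

/-! ### the global hypotheses -/

/-- the hypotheses on `T` in `G` -/
structure Glob : Prop where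
  cardQ : 3 ≤ Nat.card P.Q
  noIdx : ∀ H : Subgroup G, H.index ≠ 2
  norm : ∀ y, y ∈ normalizer (P.T : Set G) → y ∈ normalizer (P.PP : Set G) → (∃ k : ℕ, y ^ 2 ^ k = 1) → y ∈ P.T
  notSyl : ∀ S : Sylow 2 G, (S : Subgroup G) ≠ P.T

/-- swapping elements -/
def Sw (u : G) : Prop := u ∈ normalizer (P.T : Set G) ∧ u ∉ normalizer (P.PP : Set G)

variable {P}

theorem Sw.inv {u : G} (hu : P.Sw u) : P.Sw u⁻¹ := ⟨inv_mem hu.1, fun h => hu.2 (by simpa using inv_mem h)⟩

theorem Glob.blk (Gl : P.Glob) {u : G} (hu : P.Sw u) : P.Blk (CommConj.cj u P.Q) (CommConj.cj u P.PP) where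
  le := by
    intro x hx
    rw [mem_cj] at hx
    have := P.conj_T hu.1 (P.T_Q hx)
    have e : u * (u⁻¹ * x * u) * u⁻¹ = x := by group
    rwa [e] at this
  sq := by
    intro y hy
    rw [mem_cj] at hy
    have h1 := P.Q_sq _ hy
    calc y * y = u * ((u⁻¹ * y * u) * (u⁻¹ * y * u)) * u⁻¹ := by group
      _ = 1 := by rw [h1]; group
  inf := by
    intro y hy r hr b h
    by_contra hy1
    rw [mem_cj] at hy
    have hy' : u⁻¹ * y * u ≠ 1 := by
      intro h1
      apply hy1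
      calc y = u * (u⁻¹ * y * u) * u⁻¹ := by group
        _ = 1 := by rw [h1]; group
    have hyT : y ∈ P.T := by
      rw [h]; exact mul_mem (P.T_Q hr) (P.T_p 0 b)
    -- `x ∈ cj u PP ↔ x commutes with y`
    have h1 : ∀ x ∈ P.T, u⁻¹ * x * u ∈ P.PP ↔ y * x = x * y := by
      intro x hx
      rw [P.comm_Q_iff hy hy' (P.conj_T' hu.1 hx)]
      constructor
      · intro h2
        calc y * x = u * ((u⁻¹ * y * u) * (u⁻¹ * x * u)) * u⁻¹ := by group
          _ = u * ((u⁻¹ * x * u) * (u⁻¹ * y * u)) * u⁻¹ := by rw [h2]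
          _ = x * y := by group
      · intro h2
        calc u⁻¹ * y * u * (u⁻¹ * x * u) = u⁻¹ * (y * x) * u := by group
          _ = u⁻¹ * (x * y) * u := by rw [h2]
          _ = u⁻¹ * x * u * (u⁻¹ * y * u) := by group
    by_cases hr1 : r = 1
    · -- `y ∈ Z`
      rw [hr1, one_mul] at h
      have h2 : ∀ x ∈ P.T, P.act (u⁻¹ * x * u) = 0 := by
        intro x hx
        refine ((h1 x hx).mpr ?_).2
        rw [h, P.T_Z x hx]
      obtain ⟨x, hx, hx2⟩ := P.T_surj 1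
      have h3 := h2 _ (P.conj_T hu.1 hx)
      have e : u⁻¹ * (u * x * u⁻¹) * u = x := by group
      rw [e, hx2] at h3
      exact one_ne_zero h3
    · -- `C_T(y) = PP`
      apply hu.2
      have h2 : ∀ x ∈ P.T, y * x = x * y ↔ x ∈ P.PP := by
        intro x hx
        rw [P.comm_Q_iff hr hr1 hx, h]
        have hz := P.T_Z x hx b
        constructor
        · intro h3
          have h4 : P.p 0 b * (r * x) = P.p 0 b * (x * r) := by
            calc P.p 0 b * (r * x) = (P.p 0 b * r) * x := by group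
              _ = (r * P.p 0 b) * x := by rw [P.T_Z r (P.T_Q hr)]
              _ = x * (r * P.p 0 b) := h3
              _ = (x * P.p 0 b) * r := by rw [P.T_Z r (P.T_Q hr)]; group
              _ = P.p 0 b * (x * r) := by rw [hz]; group
          exact mul_left_cancel h4
        · intro h3
          calc r * P.p 0 b * x = r * (P.p 0 b * x) := by group
            _ = (r * x) * P.p 0 b := by rw [← hz]; group
            _ = x * (r * P.p 0 b) := by rw [h3]; group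
      have h3 : ∀ x, x ∈ P.PP → u⁻¹ * x * u ∈ P.PP := fun x hx =>
        (h1 x (P.PP_le hx)).mpr ((h2 x (P.PP_le hx)).mpr hx)
      have h4 : u⁻¹ ∈ normalizer (P.PP : Set G) := by
        apply mem_normalizer_fintype
        intro x hx
        have := h3 x hx
        simpa using this
      simpa using inv_mem h4
  two := by
    have h1 := Gl.cardQ
    classical
    obtain ⟨r, s, hr1, hs1, hrs⟩ : ∃ r s : P.Q, r ≠ 1 ∧ s ≠ 1 ∧ r ≠ s := by
      have h2 : 2 ≤ ((Set.univ : Set P.Q) \ {1}).ncard := by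
        have h3 := Set.le_ncard_sdiff {(1 : P.Q)} (Set.univ : Set P.Q)
        rw [Set.ncard_singleton, Set.ncard_univ] at h3
        omega
      obtain ⟨r, s, hr, hs, hrs⟩ := (Set.one_lt_ncard_iff (Set.toFinite _)).mp h2
      exact ⟨r, s, hr.2, hs.2, hrs⟩
    have key : ∀ r : P.Q, r ≠ 1 → u * (r : G) * u⁻¹ ≠ 1 := by
      intro r hr h
      apply hr
      apply Subtype.ext
      calc (r : G) = u⁻¹ * (u * r * u⁻¹) * u := by group
        _ = 1 := by rw [h]; group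
    refine ⟨u * r * u⁻¹, mem_cj_mul r.2, u * s * u⁻¹, mem_cj_mul s.2, key r hr1, key s hs1, fun h => hrs ?_⟩
    apply Subtype.ext
    calc (r : G) = u⁻¹ * (u * r * u⁻¹) * u := by group
      _ = u⁻¹ * (u * s * u⁻¹) * u := by rw [h]
      _ = s := by group
  Dle := by
    intro x hx
    rw [mem_cj] at hx
    have := P.conj_T hu.1 (P.PP_le hx)
    have e : u * (u⁻¹ * x * u) * u⁻¹ = x := by group
    rwa [e] at this
  cen := by
    intro y hy hy1 x hx
    rw [mem_cj] at hy ⊢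
    have hy' : u⁻¹ * y * u ≠ 1 := by
      intro h1
      apply hy1
      calc y = u * (u⁻¹ * y * u) * u⁻¹ := by group
        _ = 1 := by rw [h1]; group
    rw [P.comm_Q_iff hy hy' (P.conj_T' hu.1 hx)]
    constructor
    · intro h2
      calc y * x = u * ((u⁻¹ * y * u) * (u⁻¹ * x * u)) * u⁻¹ := by group
        _ = u * ((u⁻¹ * x * u) * (u⁻¹ * y * u)) * u⁻¹ := by rw [h2]
        _ = x * y := by group
    · intro h2
      calc u⁻¹ * y * u * (u⁻¹ * x * u) = u⁻¹ * (y * x) * u := by group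
        _ = u⁻¹ * (x * y) * u := by rw [h2]
        _ = u⁻¹ * x * u * (u⁻¹ * y * u) := by group
  card := by rw [card_cj, P.card_PP]
  cardQ := Gl.cardQ

/-- the forms simplify -/
structure Simp (P : Pre G F m) : Prop where
  s : P.s = 0
  lam : P.lam = 0
  full : ∀ y : F, y ∈ P.FR

theorem Glob.simp (Gl : P.Glob) {u : G} (hu : P.Sw u) : Simp P :=
  ⟨(Gl.blk hu).main.1, (Gl.blk hu).main.2.1, (Gl.blk hu).main.2.2.1⟩

theorem Simp.cm (Si : Simp P) {x y : G} (hx : x ∈ P.T) (hy : y ∈ P.T) :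
    P.cm x y = P.aC x * P.aC y ^ (2 ^ (m + 1)) + P.aC x ^ (2 ^ (m + 1)) * P.aC y +
      (P.act x * P.fC y + P.act y * P.fC x) := by
  rw [P.cm_crd hx hy, Si.lam]
  unfold bf
  ring

theorem Simp.sq (Si : Simp P) {x : G} (hx : x ∈ P.T) :
    P.sq x = P.aC x ^ (1 + 2 ^ (m + 1)) + P.act x * P.fC x := by
  rw [P.sq_crd hx, Si.lam, Si.s]
  unfold qf
  ring

/-- an element of `Q` with coordinate `r` -/
noncomputable def qq (Si : Simp P) (r : F) : G := (Si.full r).choose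

theorem qq_mem (Si : Simp P) (r : F) : qq Si r ∈ P.Q := (Si.full r).choose_spec.1

theorem f_qq (Si : Simp P) (r : F) : P.f (qq Si r) = r := (Si.full r).choose_spec.2

theorem fC_qq (Si : Simp P) (r : F) : P.fC (qq Si r) = r := by rw [P.fC_Q (qq_mem Si r), f_qq]

theorem aC_qq (Si : Simp P) (r : F) : P.aC (qq Si r) = 0 := P.aC_Q (qq_mem Si r)

theorem act_qq (Si : Simp P) (r : F) : P.act (qq Si r) = 0 := P.act_Q (qq_mem Si r)

theorem qq_T (Si : Simp P) (r : F) : qq Si r ∈ P.T := P.T_Q (qq_mem Si r)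

/-- (S1) -/
theorem Sw.s1 (Gl : P.Glob) {u : G} (hu : P.Sw u) {x : G} (hx : x ∈ P.T) (h1 : P.aC x = 0) (h2 : P.act x = 0) :
    P.fC (u * x * u⁻¹) = 0 ∧ P.aC (u * x * u⁻¹) = 0 := by
  have Si := Gl.simp hu
  have h3 := P.eqc_conj hu.1 hx (qq_T Si (P.fC x)) ⟨(fC_qq Si _).symm, by rw [h1, aC_qq], by rw [h2, act_qq]⟩
  rw [h3.1, h3.2.1]
  exact (Gl.blk hu).main.2.2.2 _ (mem_cj_mul (qq_mem Si _))

/-- (S2) -/
theorem Sw.s2 (Gl : P.Glob) {u : G} (hu : P.Sw u) {x : G} (hx : x ∈ P.T) (h1 : P.fC x = 0) (h2 : P.aC x = 0) :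
    P.aC (u * x * u⁻¹) = 0 ∧ P.act (u * x * u⁻¹) = 0 := by
  have Si := Gl.simp hu
  have B := Gl.blk hu.inv
  -- `act` maps `cj u⁻¹ Q` onto `F`
  have hinj : Function.Injective (fun y : CommConj.cj u⁻¹ P.Q => P.act (y : G)) := fun y z h => Subtype.ext (B.act_inj y.2 z.2 h)
  have hcard : Nat.card (CommConj.cj u⁻¹ P.Q) = Nat.card F := by
    rw [card_cj, ← Blk.card_FR P]
    have : P.FR = ⊤ := by
      rw [eq_top_iff]
      intro y _
      exact Si.full y
    rw [this]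
    exact AddSubgroup.card_top
  have hsurj : Function.Surjective (fun y : CommConj.cj u⁻¹ P.Q => P.act (y : G)) :=
    ((Nat.bijective_iff_injective_and_card _).mpr ⟨hinj, hcard⟩).2
  obtain ⟨y, hy⟩ := hsurj (P.act x)
  have hy2 := B.main.2.2.2 _ y.2
  have h3 := P.eqc_conj hu.1 hx (B.le y.2) ⟨by rw [h1, hy2.1], by rw [h2, hy2.2], hy.symm⟩
  rw [h3.2.1, h3.2.2]
  have h4 := mem_cj.mp y.2
  rw [inv_inv] at h4
  exact ⟨P.aC_Q h4, P.act_Q h4⟩

/-- (S3) -/
theorem Sw.s3 (Gl : P.Glob) {u : G} (hu : P.Sw u) {x : G} (hx : x ∈ P.T) (h1 : P.fC x = 0) (h2 : P.act x = 0) :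
    P.fC (u * x * u⁻¹) = 0 ∧ P.act (u * x * u⁻¹) = 0 := by
  have Si := Gl.simp hu
  have hux := P.conj_T hu.1 hx
  constructor
  · -- commutes with `u (r, 0, 0) u⁻¹ = (0, 0, 1)`
    have e : ∀ c, P.fC (u⁻¹ * P.ee c * u) = P.fC (u⁻¹ * P.ee c * u) ∧ P.aC (u⁻¹ * P.ee c * u) = 0 ∧
        P.act (u⁻¹ * P.ee c * u) = 0 := by
      intro c
      have := hu.inv.s2 Gl (P.ee_mem c) (P.fC_ee c) (P.aC_ee c)
      rw [inv_inv] at this
      exact ⟨rfl, this⟩
    have hy := P.conj_T' hu.1 (P.ee_mem 1)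
    have h3 := P.cm_conj hu.1 hx hy
    have e1 : u * (u⁻¹ * P.ee 1 * u) * u⁻¹ = P.ee 1 := by group
    rw [e1, Si.cm hux (P.ee_mem 1), Si.cm hx hy, P.aC_ee, P.fC_ee, P.act_ee, (e 1).2.1, (e 1).2.2, h1, h2] at h3
    have z1 : (0 : F) ^ (2 ^ (m + 1)) = 0 := zero_pow (by positivity)
    simp only [z1, mul_zero, zero_mul, add_zero, zero_add, one_mul] at h3
    rw [h3]
    apply P.al_eq hu.1
    rw [P.p_zero]; group
  · have e : P.fC (u⁻¹ * qq Si 1 * u) = 0 ∧ P.aC (u⁻¹ * qq Si 1 * u) = 0 := by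
      have := hu.inv.s1 Gl (qq_T Si 1) (aC_qq Si 1) (act_qq Si 1)
      rwa [inv_inv] at this
    have hy := P.conj_T' hu.1 (qq_T Si 1)
    have h3 := P.cm_conj hu.1 hx hy
    have e1 : u * (u⁻¹ * qq Si 1 * u) * u⁻¹ = qq Si 1 := by group
    rw [e1, Si.cm hux (qq_T Si 1), Si.cm hx hy, aC_qq, fC_qq, act_qq, e.1, e.2, h1, h2] at h3
    have z1 : (0 : F) ^ (2 ^ (m + 1)) = 0 := zero_pow (by positivity)
    simp only [z1, mul_zero, zero_mul, add_zero, zero_add, mul_one] at h3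
    rw [h3]
    apply P.al_eq hu.1
    rw [P.p_zero]; group

/-- decomposition of an element -/
theorem decomp (Si : Simp P) {x : G} (hx : x ∈ P.T) :
    P.Eqc x (qq Si (P.fC x) * (P.p (P.aC x) 0 * P.ee (P.act x))) := by
  have h1 := qq_T Si (P.fC x)
  have h2 := P.T_p (P.aC x) 0
  have h3 := P.ee_mem (P.act x)
  refine ⟨?_, ?_, ?_⟩
  · rw [P.fC_mul h1 (mul_mem h2 h3), P.fC_mul h2 h3, fC_qq, P.fC_p, P.fC_ee, add_zero, add_zero]
  · rw [P.aC_mul h1 (mul_mem h2 h3), P.aC_mul h2 h3, aC_qq, P.aC_p, P.aC_ee, add_zero, zero_add]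
  · rw [P.act_mul h1 (mul_mem h2 h3), P.act_mul h2 h3, act_qq, P.act_p, P.act_ee, zero_add, zero_add]

theorem decomp_mem (Si : Simp P) (x : G) : qq Si (P.fC x) * (P.p (P.aC x) 0 * P.ee (P.act x)) ∈ P.T :=
  mul_mem (qq_T Si _) (mul_mem (P.T_p _ _) (P.ee_mem _))

/-- coordinates of the conjugate -/
theorem conj_decomp (Si : Simp P) {u x : G} (hu : u ∈ normalizer (P.T : Set G)) (hx : x ∈ P.T) :
    P.Eqc (u * x * u⁻¹) ((u * qq Si (P.fC x) * u⁻¹) * ((u * P.p (P.aC x) 0 * u⁻¹) * (u * P.ee (P.act x) * u⁻¹))) := by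
  have h1 := P.eqc_conj hu hx (decomp_mem Si x) (decomp Si hx)
  have e : u * (qq Si (P.fC x) * (P.p (P.aC x) 0 * P.ee (P.act x))) * u⁻¹ =
      (u * qq Si (P.fC x) * u⁻¹) * ((u * P.p (P.aC x) 0 * u⁻¹) * (u * P.ee (P.act x) * u⁻¹)) := by group
  rwa [e] at h1

/-- coordinates of the conjugate under a swap -/
theorem Sw.crd (Gl : P.Glob) {u : G} (hu : P.Sw u) {x : G} (hx : x ∈ P.T) :
    P.fC (u * x * u⁻¹) = P.fC (u * P.ee (P.act x) * u⁻¹) ∧
      P.aC (u * x * u⁻¹) = P.aC (u * P.p (P.aC x) 0 * u⁻¹) ∧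
      P.act (u * x * u⁻¹) = P.act (u * qq (Gl.simp hu) (P.fC x) * u⁻¹) := by
  have Si := Gl.simp hu
  obtain ⟨h1, h2, h3⟩ := conj_decomp Si hu.1 hx
  have m1 := P.conj_T hu.1 (qq_T Si (P.fC x))
  have m2 := P.conj_T hu.1 (P.T_p (P.aC x) 0)
  have m3 := P.conj_T hu.1 (P.ee_mem (P.act x))
  obtain ⟨a1, a2⟩ := hu.s1 Gl (qq_T Si (P.fC x)) (aC_qq Si _) (act_qq Si _)
  obtain ⟨b1, b2⟩ := hu.s3 Gl (P.T_p (P.aC x) 0) (P.fC_p _ _) (P.act_p _ _)
  obtain ⟨c1, c2⟩ := hu.s2 Gl (P.ee_mem (P.act x)) (P.fC_ee _) (P.aC_ee _)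
  refine ⟨?_, ?_, ?_⟩
  · rw [h1, P.fC_mul m1 (mul_mem m2 m3), P.fC_mul m2 m3, a1, b1, zero_add, zero_add]
  · rw [h2, P.aC_mul m1 (mul_mem m2 m3), P.aC_mul m2 m3, a2, c1, zero_add, add_zero]
  · rw [h3, P.act_mul m1 (mul_mem m2 m3), P.act_mul m2 m3, b2, c2, add_zero, add_zero]

/-- the product of two swaps is not a swap -/
theorem Sw.mul (Gl : P.Glob) {u v : G} (hu : P.Sw u) (hv : P.Sw v) : u * v ∈ normalizer (P.PP : Set G) := by
  have Si := Gl.simp hu
  apply mem_normalizer_fintype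
  intro x hx
  have hxT := P.PP_le hx
  have h1 := P.conj_T hv.1 hxT
  have e : u * v * x * (u * v)⁻¹ = u * (v * x * v⁻¹) * u⁻¹ := by group
  rw [e]
  refine ⟨P.conj_T hu.1 h1, ?_⟩
  have h2 : P.fC (v * x * v⁻¹) = 0 := by
    rw [(hv.crd Gl hxT).1, hx.2]
    -- `ee 0` has coordinates 0
    have h3 := P.eqc_conj hv.1 (P.ee_mem 0) (one_mem P.T) ⟨by rw [P.fC_ee, P.fC_one], by rw [P.aC_ee, P.aC_one],
      by rw [P.act_ee, P.act_one]⟩
    rw [h3.1, mul_one, mul_inv_cancel, P.fC_one]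
  rw [(hu.crd Gl h1).2.2, h2]
  have h3 := P.eqc_conj hu.1 (qq_T (Gl.simp hu) 0) (one_mem P.T) ⟨by rw [fC_qq, P.fC_one], by rw [aC_qq, P.aC_one],
      by rw [act_qq, P.act_one]⟩
  rw [h3.2.2, mul_one, mul_inv_cancel, P.act_one]

theorem Sw.mul_N {u n : G} (hu : P.Sw u) (hn : n ∈ normalizer (P.T : Set G)) (hn' : n ∈ normalizer (P.PP : Set G)) :
    P.Sw (n * u) :=
  ⟨mul_mem hn hu.1, fun h => hu.2 (by
    have := mul_mem (inv_mem hn') h
    rwa [inv_mul_cancel_left] at this)⟩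

/-- the normal form of a swap whose square lies in `T` -/
structure YS (P : Pre G F m) (y : G) (g k : F) : Prop where
  nT : y ∈ normalizer (P.T : Set G)
  sq : y * y ∈ P.T
  z : ∀ b, y * P.p 0 b * y⁻¹ = P.p 0 b
  f : ∀ x ∈ P.T, P.fC (y * x * y⁻¹) = k * P.act x
  a : ∀ x ∈ P.T, P.aC (y * x * y⁻¹) = P.aC x
  c : ∀ x ∈ P.T, P.act (y * x * y⁻¹) = g * P.fC x
  gk : g * k = 1

theorem Glob.exists_YS (Gl : P.Glob) {y : G} (hy : P.Sw y) (hyy : y * y ∈ P.T) : ∃ g k, YS P y g k := by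
  have Si := Gl.simp hy
  obtain ⟨h1, g, k, hgk, hG, hH⟩ := alg_swap (m := m) P.hF (α := P.al y) (G := fun r => P.act (y * qq Si r * y⁻¹))
    (H := fun c => P.fC (y * P.ee c * y⁻¹)) (P.al_add hy.1) (by
      intro c r
      have h2 := P.cm_conj hy.1 (P.ee_mem c) (qq_T Si r)
      have m1 := P.conj_T hy.1 (P.ee_mem c)
      have m2 := P.conj_T hy.1 (qq_T Si r)
      obtain ⟨a1, a2⟩ := hy.s1 Gl (qq_T Si r) (aC_qq Si _) (act_qq Si _)
      obtain ⟨c1, c2⟩ := hy.s2 Gl (P.ee_mem c) (P.fC_ee _) (P.aC_ee _)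
      rw [Si.cm m1 m2, Si.cm (P.ee_mem c) (qq_T Si r), a1, a2, c1, c2, fC_qq, aC_qq, act_qq, P.aC_ee, P.act_ee,
        P.fC_ee] at h2
      have z1 : (0 : F) ^ (2 ^ (m + 1)) = 0 := zero_pow (by positivity)
      simp only [z1, mul_zero, zero_mul, add_zero, zero_add] at h2
      exact h2.symm) (by
      intro r
      have h2 := (hy.crd Gl (P.conj_T hy.1 (qq_T Si r))).1
      have e : y * (y * qq Si r * y⁻¹) * y⁻¹ = (y * y) * qq Si r * (y * y)⁻¹ := by group
      rw [e, P.fC_conj hyy (qq_T Si r), fC_qq] at h2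
      exact h2.symm)
  refine ⟨g, k, hy.1, hyy, fun b => ?_, fun x hx => ?_, fun x hx => ?_, fun x hx => ?_, hgk⟩
  · rw [P.al_spec hy.1, h1]
  · rw [(hy.crd Gl hx).1]
    exact hH _
  · rw [(hy.crd Gl hx).2.1]
    have h2 := P.sq_conj hy.1 (P.T_p (P.aC x) 0)
    obtain ⟨b1, b2⟩ := hy.s3 Gl (P.T_p (P.aC x) 0) (P.fC_p _ _) (P.act_p _ _)
    rw [h1, Si.sq (P.conj_T hy.1 (P.T_p _ _)), P.sq_p, b1, b2, mul_zero, add_zero] at h2
    exact Cfsg.Agent.StdSz.FormAlg.norm_inj P.hF h2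
  · rw [(hy.crd Gl hx).2.2]
    exact hG _

theorem YS.g_ne {y : G} {g k : F} (Y : YS P y g k) : g ≠ 0 := fun h => by
  have := Y.gk; rw [h, zero_mul] at this; exact zero_ne_one this

theorem YS.k_ne {y : G} {g k : F} (Y : YS P y g k) : k ≠ 0 := fun h => by
  have := Y.gk; rw [h, mul_zero] at this; exact zero_ne_one this

theorem YS.mul_left {y : G} {g k : F} (Y : YS P y g k) {t : G} (ht : t ∈ P.T) : YS P (t * y) g k where
  nT := mul_mem (le_normalizer ht) Y.nT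
  sq := by
    have h1 := P.conj_T Y.nT ht
    have e : t * y * (t * y) = t * (y * t * y⁻¹) * (y * y) := by group
    rw [e]
    exact mul_mem (mul_mem ht h1) Y.sq
  z := by
    intro b
    have e : t * y * P.p 0 b * (t * y)⁻¹ = t * (y * P.p 0 b * y⁻¹) * t⁻¹ := by group
    rw [e, Y.z, P.T_Z t ht, mul_inv_cancel_right]
  f := by
    intro x hx
    have e : t * y * x * (t * y)⁻¹ = t * (y * x * y⁻¹) * t⁻¹ := by group
    rw [e, P.fC_conj ht (P.conj_T Y.nT hx), Y.f x hx]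
  a := by
    intro x hx
    have e : t * y * x * (t * y)⁻¹ = t * (y * x * y⁻¹) * t⁻¹ := by group
    rw [e, P.aC_conj ht (P.conj_T Y.nT hx), Y.a x hx]
  c := by
    intro x hx
    have e : t * y * x * (t * y)⁻¹ = t * (y * x * y⁻¹) * t⁻¹ := by group
    rw [e, P.act_conj ht (P.conj_T Y.nT hx), Y.c x hx]
  gk := Y.gk

theorem YS.notMem {y : G} {g k : F} (Y : YS P y g k) : y ∉ P.T := by
  intro h
  have h1 := Y.f (P.ee 1) (P.ee_mem 1)
  rw [P.fC_conj h (P.ee_mem 1), P.fC_ee, P.act_ee, mul_one] at h1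
  exact Y.k_ne h1.symm

end Pre

end Cfsg.Agent.OddHalf.D4.Sz
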