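import Cfsg.Agent.OddHalf.D4.Sz.SwapA
import Cfsg.Agent.StdSz.Env
import Mathlib.GroupTheory.Sylow

/-!
# ODD, D4, `K = Sz(q)`, `q ≥ 32`: `S = T₁⟨y⟩`

If `T₁` is not a Sylow 2-subgroup then a Sylow 2-subgroup is `T₁⟨y⟩` with `y` a swap.
-/

set_option autoImplicit false
set_option linter.unusedSectionVars false

namespace Cfsg.Agent.OddHalf.D4.Sz

open Subgroup Cfsg.Agent.StdSz.EquivMaps Cfsg.Agent.StdSz.SzMaps

namespace Pre

variable {G : Type*} [Group G] [Finite G] {F : Type*} [Field F] [Fintype F] [CharP F 2] {m : ℕ} {P : Pre G F m}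

/-- the group `T ∪ T y` -/
def YS.grp {y : G} {g k : F} (Y : YS P y g k) : Subgroup G where
  carrier := {x | x ∈ P.T ∨ x * y⁻¹ ∈ P.T}
  one_mem' := Or.inl (one_mem _)
  mul_mem' := by
    rintro a b (ha | ha) (hb | hb)
    · exact Or.inl (mul_mem ha hb)
    · right
      rw [mul_assoc]
      exact mul_mem ha hb
    · right
      have h1 := P.conj_T Y.nT hb
      have e : a * b * y⁻¹ = (a * y⁻¹) * (y * b * y⁻¹) := by group
      rw [e]
      exact mul_mem ha h1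
    · left
      have h1 := P.conj_T Y.nT hb
      have e : a * b = (a * y⁻¹) * (y * (b * y⁻¹) * y⁻¹) * (y * y) := by group
      rw [e]
      exact mul_mem (mul_mem ha h1) Y.sq
  inv_mem' := by
    rintro a (ha | ha)
    · exact Or.inl (inv_mem ha)
    · right
      have h1 := P.conj_T' Y.nT (inv_mem ha)
      have e : a⁻¹ * y⁻¹ = (y⁻¹ * (a * y⁻¹)⁻¹ * y) * (y * y)⁻¹ := by group
      rw [e]
      exact mul_mem h1 (inv_mem Y.sq)

theorem YS.mem_grp {y : G} {g k : F} (Y : YS P y g k) {x : G} : x ∈ Y.grp ↔ x ∈ P.T ∨ x * y⁻¹ ∈ P.T := Iff.rfl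

theorem YS.mul_right {y : G} {g k : F} (Y : YS P y g k) {x : G} (hx : x * y⁻¹ ∈ P.T) : YS P x g k := by
  have := Y.mul_left hx
  rwa [inv_mul_cancel_right] at this

/-- the product of two elements outside `T` is in `T` -/
theorem YS.mul_out {y : G} {g k : F} (Y : YS P y g k) {a b : G} (ha : a * y⁻¹ ∈ P.T) (hb : b * y⁻¹ ∈ P.T) :
    a * b ∈ P.T := by
  have h1 := P.conj_T Y.nT hb
  have e : a * b = (a * y⁻¹) * (y * (b * y⁻¹) * y⁻¹) * (y * y) := by group
  rw [e]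
  exact mul_mem (mul_mem ha h1) Y.sq

/-- the centre of `T⟨y⟩` -/
theorem YS.mem_Z {y : G} {g k : F} (Y : YS P y g k) {x : G} (hx : x ∈ Y.grp) (h : ∀ z ∈ P.T, x * z = z * x) :
    ∃ b, x = P.p 0 b := by
  rcases hx with hx | hx
  · exact P.mem_Z_of_central hx h
  · exfalso
    have Y' := Y.mul_right hx
    have h1 := Y'.f (P.ee 1) (P.ee_mem 1)
    rw [h _ (P.ee_mem 1), mul_inv_cancel_right, P.fC_ee, P.act_ee, mul_one] at h1
    exact Y.k_ne h1.symm

/-- `S = T⟨y⟩` -/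
structure Full (P : Pre G F m) (S : Sylow 2 G) (y : G) (g k : F) : Prop where
  TS : P.T ≤ S
  yS : y ∈ (S : Subgroup G)
  ys : YS P y g k
  cov : ∀ x ∈ (S : Subgroup G), x ∈ P.T ∨ x * y⁻¹ ∈ P.T

theorem Glob.exists_Full (Gl : P.Glob) : ∃ (S : Sylow 2 G) (y : G) (g k : F), Full P S y g k := by
  have h2 : Fact (Nat.Prime 2) := ⟨Nat.prime_two⟩
  obtain ⟨S, hTS⟩ := P.T_two.exists_le_sylow
  have hne : ¬ (S : Subgroup G) ≤ P.T := fun h => Gl.notSyl S (le_antisymm h hTS)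
  have h2el : ∀ x ∈ (S : Subgroup G), ∃ k : ℕ, x ^ 2 ^ k = 1 := by
    intro x hx
    obtain ⟨k, hk⟩ := S.2 ⟨x, hx⟩
    exact ⟨k, by simpa using congrArg Subtype.val hk⟩
  obtain ⟨y, hyS, hyT, hyy, hyN⟩ := CommConj.exists_norm_elt S.2 hTS le_rfl
    (fun s hs b hb => mul_mem (mul_mem hs hb) (inv_mem hs)) hne
  have hsw : P.Sw y := ⟨hyN, fun h => hyT (Gl.norm y hyN h (h2el y hyS))⟩
  obtain ⟨g, k, Y⟩ := Gl.exists_YS hsw hyy
  refine ⟨S, y, g, k, hTS, hyS, Y, ?_⟩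
  have hle : Y.grp ≤ (S : Subgroup G) := by
    intro x hx
    rcases hx with hx | hx
    · exact hTS hx
    · have := mul_mem (hTS hx) hyS
      rwa [inv_mul_cancel_right] at this
  by_contra hcon
  have hne2 : ¬ (S : Subgroup G) ≤ Y.grp := fun h => hcon fun x hx => h hx
  obtain ⟨u, huS, hu1, -, huN⟩ := CommConj.exists_norm_elt S.2 hle le_rfl
    (fun s hs b hb => mul_mem (mul_mem hs hb) (inv_mem hs)) hne2
  have hTg : P.T ≤ Y.grp := fun x hx => Or.inl hx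
  have hc : ∀ {x}, x ∈ Y.grp → u * x * u⁻¹ ∈ Y.grp := fun hx => (mem_normalizer_iff.mp huN _).mp hx
  have hc' : ∀ {x}, x ∈ Y.grp → u⁻¹ * x * u ∈ Y.grp := fun {x} hx => by
    have := (mem_normalizer_iff.mp (inv_mem huN) x).mp hx
    rwa [inv_inv] at this
  -- `Z` is centralized by `grp`
  have hZc : ∀ b, ∀ x ∈ Y.grp, x * P.p 0 b = P.p 0 b * x := by
    intro b x hx
    rcases hx with hx | hx
    · exact P.T_Z x hx b
    · have := (Y.mul_right hx).z b
      calc x * P.p 0 b = (x * P.p 0 b * x⁻¹) * x := by group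
        _ = _ := by rw [this]
  -- `u` normalizes `Z`
  have hZu : ∀ b, ∃ b', u * P.p 0 b * u⁻¹ = P.p 0 b' := by
    intro b
    apply Y.mem_Z (hc (hTg (P.T_p 0 b)))
    intro z hz
    have h1 := hZc b _ (hc' (hTg hz))
    calc u * P.p 0 b * u⁻¹ * z = u * (P.p 0 b * (u⁻¹ * z * u)) * u⁻¹ := by group
      _ = u * ((u⁻¹ * z * u) * P.p 0 b) * u⁻¹ := by rw [h1]
      _ = z * (u * P.p 0 b * u⁻¹) := by group
  -- `u` normalizes `T`
  have huT : u ∈ normalizer (P.T : Set G) := by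
    apply mem_normalizer_fintype
    intro t ht
    by_contra hw
    have hw' : u * t * u⁻¹ * y⁻¹ ∈ P.T := (hc (hTg ht)).resolve_left hw
    have Y' := Y.mul_right hw'
    -- no element with `f = 0`, `act ≠ 0` comes from `T`
    have key : ∀ x ∈ P.T, P.fC x = 0 → P.act x ≠ 0 → u⁻¹ * x * u ∉ P.T := by
      intro x hx h1 h3 h4
      obtain ⟨b, hb⟩ := P.exists_comm ht h4
      obtain ⟨b', hb'⟩ := hZu b
      have h5 : u * t * u⁻¹ * x * (u * t * u⁻¹)⁻¹ = P.p 0 b' * x := by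
        rw [← hb']
        calc u * t * u⁻¹ * x * (u * t * u⁻¹)⁻¹ = u * (t * (u⁻¹ * x * u)) * t⁻¹ * u⁻¹ := by group
          _ = u * (P.p 0 b * (u⁻¹ * x * u * t)) * t⁻¹ * u⁻¹ := by rw [hb]
          _ = _ := by group
      have h6 := Y'.f x hx
      rw [h5, P.fC_mul (P.T_p _ _) hx, P.fC_p, zero_add, h1] at h6
      rcases mul_eq_zero.mp h6.symm with h7 | h7
      · exact Y.k_ne h7
      · exact h3 h7
    obtain ⟨c, hc0, hc1⟩ := P.exists_ne_one
    have k1 := key (P.ee 1) (P.ee_mem 1) (P.fC_ee 1) (by rw [P.act_ee]; exact one_ne_zero)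
    have k2 := key (P.ee c) (P.ee_mem c) (P.fC_ee c) (by rw [P.act_ee]; exact hc0)
    have k3 := key (P.ee 1 * P.ee c) (mul_mem (P.ee_mem 1) (P.ee_mem c))
      (by rw [P.fC_mul (P.ee_mem 1) (P.ee_mem c), P.fC_ee, P.fC_ee, add_zero])
      (by
        rw [P.act_mul (P.ee_mem 1) (P.ee_mem c), P.act_ee, P.act_ee]
        intro h
        apply hc1
        have h8 := eq_neg_of_add_eq_zero_left h
        rw [CharTwo.neg_eq] at h8
        exact h8.symm)
    have l1 := (hc' (hTg (P.ee_mem 1))).resolve_left k1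
    have l2 := (hc' (hTg (P.ee_mem c))).resolve_left k2
    apply k3
    have h9 := Y.mul_out l1 l2
    have e : u⁻¹ * P.ee 1 * u * (u⁻¹ * P.ee c * u) = u⁻¹ * (P.ee 1 * P.ee c) * u := by group
    rwa [e] at h9
  have huP : u ∉ normalizer (P.PP : Set G) := fun h => hu1 (hTg (Gl.norm u huT h (h2el u huS)))
  have hsu : P.Sw u := ⟨huT, huP⟩
  have h1 := hsu.mul Gl hsw.inv
  have h3 := Gl.norm (u * y⁻¹) (mul_mem huT (inv_mem hyN)) h1 (h2el _ (mul_mem huS (inv_mem hyS)))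
  exact hu1 (Or.inr h3)

end Pre

end Cfsg.Agent.OddHalf.D4.Sz
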