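import Cfsg.Agent.OddHalf.D4.Sz.SwapB

/-!
# ODD, D4, `K = Sz(q)`, `q ≥ 32`: an element of odd order normalizing `S = T₁⟨y⟩`
-/

set_option autoImplicit false
set_option linter.unusedSectionVars false

namespace Cfsg.Agent.OddHalf.D4.Sz

open Subgroup Cfsg.Agent.StdSz.EquivMaps Cfsg.Agent.StdSz.SzMaps

section Field

variable {F : Type*} [Field F] [CharP F 2]

theorem eq_one_of_pow_two_pow {x : F} {n : ℕ} (h : x ^ 2 ^ n = 1) : x = 1 := by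
  have : Fact (Nat.Prime 2) := ⟨Nat.prime_two⟩
  have h1 : (x + 1) ^ 2 ^ n = 0 := by
    rw [add_pow_char_pow, h, one_pow, CharTwo.add_self_eq_zero]
  have h2 := eq_neg_of_add_eq_zero_left (pow_eq_zero_iff (by positivity) |>.mp h1)
  rwa [CharTwo.neg_eq] at h2

end Field

namespace Pre

variable {G : Type*} [Group G] [Finite G] {F : Type*} [Field F] [Fintype F] [CharP F 2] {m : ℕ} {P : Pre G F m}

/-- the `y`-normalizing torus element: first part -/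
structure Tor0 (P : Pre G F m) (S : Sylow 2 G) (κ : G) (l : F) : Prop where
  nS : ∀ x ∈ (S : Subgroup G), κ * x * κ⁻¹ ∈ (S : Subgroup G)
  nT : κ ∈ normalizer (P.T : Set G)
  nP : κ ∈ normalizer (P.PP : Set G)
  z : ∀ b, κ * P.p 0 b * κ⁻¹ = P.p 0 (l ^ (1 + 2 ^ (m + 1)) * b)
  gen : ∀ x : F, x ≠ 0 → ∃ n : ℕ, x = l ^ n
  l_ne : l ≠ 0
  l_one : l ≠ 1

theorem Glob.exists_Tor0 (Gl : P.Glob) {S : Sylow 2 G} {y : G} {g k : F} (Fu : Full P S y g k) :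
    ∃ κ l, Tor0 P S κ l := by
  have h2 : Fact (Nat.Prime 2) := ⟨Nat.prime_two⟩
  obtain ⟨l, hl0, hl, hgen⟩ := exists_gen P.hF
  have hl1 : l ≠ 1 := by
    intro e6
    have e7 : l ^ 1 = l ^ 0 := by rw [pow_one, pow_zero, e6]
    rw [hl] at e7
    have hm := P.hm
    have h4 : 2 ^ 3 ≤ 2 ^ (2 * m + 1) := Nat.pow_le_pow_right (by norm_num) (by omega)
    have := Nat.ModEq.eq_of_lt_of_lt e7 (by omega) (by omega)
    omega
  set lu : Fˣ := Units.mk0 l hl0 with hlu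
  have hz : ∀ b, P.h lu * P.p 0 b * (P.h lu)⁻¹ = P.p 0 (l ^ (1 + 2 ^ (m + 1)) * b) := by
    intro b
    rw [P.h_p, mul_zero]
    rfl
  have hzi : ∀ b, (P.h lu)⁻¹ * P.p 0 b * P.h lu = P.p 0 ((l ^ (1 + 2 ^ (m + 1)))⁻¹ * b) := by
    intro b
    have h1 := hz ((l ^ (1 + 2 ^ (m + 1)))⁻¹ * b)
    rw [mul_inv_cancel_left₀ (pow_ne_zero _ hl0)] at h1
    rw [← h1]
    group
  have hhT : P.h lu ∈ normalizer (P.T : Set G) := mem_normalizer_fintype fun x hx => P.h_T lu x hx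
  -- the group `X`
  set X : Subgroup G := centralizer (Set.range (P.p 0)) ⊓ normalizer (P.T : Set G) with hX
  have hXc : ∀ {x}, (∀ b, x * P.p 0 b * x⁻¹ = P.p 0 b) → x ∈ centralizer (Set.range (P.p 0)) := by
    intro x hx
    rw [mem_centralizer_iff]
    rintro _ ⟨b, rfl⟩
    calc P.p 0 b * x = (x * P.p 0 b * x⁻¹) * x := by rw [hx]
      _ = _ := by group
  have hXc' : ∀ {x}, x ∈ X → ∀ b, x * P.p 0 b * x⁻¹ = P.p 0 b := by
    intro x hx b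
    have := mem_centralizer_iff.mp hx.1 _ ⟨b, rfl⟩
    rw [← this, mul_inv_cancel_right]
  have hSX : (S : Subgroup G) ≤ X := by
    intro x hx
    rcases Fu.cov x hx with h | h
    · exact ⟨hXc fun b => by rw [P.T_Z x h, mul_inv_cancel_right], le_normalizer h⟩
    · have Y' := Fu.ys.mul_right h
      exact ⟨hXc Y'.z, Y'.nT⟩
  have hSX2 : CommConj.cj (P.h lu) (S : Subgroup G) ≤ X := by
    intro x hx
    rw [CommConj.mem_cj] at hx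
    have h3 := hSX hx
    refine ⟨hXc fun b => ?_, ?_⟩
    · have h4 := hXc' h3 ((l ^ (1 + 2 ^ (m + 1)))⁻¹ * b)
      rw [← hzi] at h4
      have h5 : (P.h lu)⁻¹ * (x * P.p 0 b * x⁻¹) * P.h lu = (P.h lu)⁻¹ * P.p 0 b * P.h lu := by
        rw [← h4]; group
      exact mul_left_cancel (mul_right_cancel h5)
    · have h4 := mul_mem (mul_mem hhT h3.2) (inv_mem hhT)
      have e : P.h lu * ((P.h lu)⁻¹ * x * P.h lu) * (P.h lu)⁻¹ = x := by group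
      rwa [e] at h4
  have hS1 : ∃ S' : Sylow 2 X, (S' : Subgroup X).map X.subtype = (S : Subgroup G) := by
    rw [Cfsg.Agent.Blocks.SylowIn.exists_sylow_map_eq_iff]
    exact ⟨hSX, S.2, fun Q _ hQ hle => S.is_maximal' hQ hle⟩
  have hS2 : ∃ S' : Sylow 2 X, (S' : Subgroup X).map X.subtype = CommConj.cj (P.h lu) (S : Subgroup G) := by
    rw [Cfsg.Agent.Blocks.SylowIn.exists_sylow_map_eq_iff]
    refine ⟨hSX2, S.2.map _, fun Q _ hQ hle => ?_⟩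
    have h3 : CommConj.cj (P.h lu)⁻¹ Q = (S : Subgroup G) := by
      refine S.is_maximal' (hQ.map _) fun x hx => ?_
      rw [CommConj.mem_cj, inv_inv]
      exact hle (CommConj.mem_cj_mul hx)
    rw [← h3, ← CommConj.cj_mul, mul_inv_cancel]
    ext x
    rw [CommConj.mem_cj]
    simp
  obtain ⟨μ, hμX, hμ⟩ := Cfsg.Agent.Blocks.SylowIn.exists_conj_of_sylow_map_eq hS2 hS1
  have hκS : μ * P.h lu ∈ normalizer ((S : Subgroup G) : Set G) := by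
    apply CommConj.mem_normalizer_of_cj_eq
    rw [CommConj.cj_mul]
    exact hμ
  have hκT : μ * P.h lu ∈ normalizer (P.T : Set G) := mul_mem hμX.2 hhT
  set κ₀ := μ * P.h lu with hκ₀
  have hκz : ∀ b, κ₀ * P.p 0 b * κ₀⁻¹ = P.p 0 (l ^ (1 + 2 ^ (m + 1)) * b) := by
    intro b
    have e : κ₀ * P.p 0 b * κ₀⁻¹ = μ * (P.h lu * P.p 0 b * (P.h lu)⁻¹) * μ⁻¹ := by rw [hκ₀]; group
    rw [e, hz, hXc' hμX]
  have hpow : ∀ n : ℕ, ∀ b, κ₀ ^ n * P.p 0 b * (κ₀ ^ n)⁻¹ = P.p 0 ((l ^ (1 + 2 ^ (m + 1))) ^ n * b) := by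
    intro n
    induction n with
    | zero => intro b; rw [pow_zero, pow_zero, one_mul, one_mul, inv_one, mul_one]
    | succ n ih =>
      intro b
      have e : κ₀ ^ (n + 1) * P.p 0 b * (κ₀ ^ (n + 1))⁻¹ = κ₀ ^ n * (κ₀ * P.p 0 b * κ₀⁻¹) * (κ₀ ^ n)⁻¹ := by
        rw [pow_succ]; group
      rw [e, hκz, ih]
      congr 1
      ring
  obtain ⟨i, j, hij, hodd, n, hn⟩ := Cfsg.Agent.StdSz.Env.exists_decomp κ₀
  set ν := l ^ (1 + 2 ^ (m + 1)) with hν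
  have hν0 : ν ≠ 0 := pow_ne_zero _ hl0
  have hνj : ν ^ j = 1 := by
    apply eq_one_of_pow_two_pow (n := n)
    have h3 := hpow (j * 2 ^ n) 1
    rw [pow_mul, hn, one_mul, inv_one, mul_one, mul_one] at h3
    have h4 := P.z_inj h3
    rw [← pow_mul]
    exact h4.symm
  have hνi : ν ^ i = ν := by
    have h3 := hpow (i + j) 1
    rw [_root_.pow_add, ← hij, hκz, mul_one, mul_one] at h3
    have h4 := P.z_inj h3
    rw [_root_.pow_add, hνj, mul_one] at h4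
    exact h4.symm
  refine ⟨κ₀ ^ i, l, ?_, pow_mem hκT i, ?_, ?_, hgen, hl0, hl1⟩
  · intro x hx
    exact (mem_normalizer_iff.mp (pow_mem hκS i) x).mp hx
  · by_contra hcon
    have hsw : P.Sw (κ₀ ^ i) := ⟨pow_mem hκT i, hcon⟩
    have h3 := hsw.mul Gl hsw
    apply hcon
    obtain ⟨r, hr⟩ := hodd
    have h4 : κ₀ ^ i = (κ₀ ^ i * κ₀ ^ i) ^ (r + 1) := by
      rw [← pow_two, ← pow_mul]
      have : 2 * (r + 1) = orderOf (κ₀ ^ i) + 1 := by omega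
      rw [this, pow_succ, pow_orderOf_eq_one, one_mul]
    rw [h4]
    exact pow_mem h3 _
  · intro b
    rw [hpow, hνi]

/-- the `y`-normalizing torus element -/
structure Tor (P : Pre G F m) (S : Sylow 2 G) (κ : G) (l e : F) : Prop extends Tor0 P S κ l where
  f : ∀ x ∈ P.T, P.fC (κ * x * κ⁻¹) = e * P.fC x
  a : ∀ x ∈ P.T, P.aC (κ * x * κ⁻¹) = l * P.aC x
  c : ∀ x ∈ P.T, P.act (κ * x * κ⁻¹) = e * P.act x
  ee : e * e = l ^ (1 + 2 ^ (m + 1))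

/-- conjugates of `y` by elements normalizing `S` and `T` -/
theorem Full.conj_y {S : Sylow 2 G} {y : G} {g k : F} (Fu : Full P S y g k) {κ : G}
    (hS : ∀ x ∈ (S : Subgroup G), κ * x * κ⁻¹ ∈ (S : Subgroup G)) (hT : κ ∈ normalizer (P.T : Set G)) :
    (κ * y * κ⁻¹) * y⁻¹ ∈ P.T := by
  refine (Fu.cov _ (hS y Fu.yS)).resolve_left fun h => ?_
  have h1 := P.conj_T' hT h
  have e : κ⁻¹ * (κ * y * κ⁻¹) * κ = y := by group
  rw [e] at h1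
  exact Fu.ys.notMem h1

/-- (i) -/
theorem fixQ (Si : Simp P) {κ : G} (nT : κ ∈ normalizer (P.T : Set G)) (nP : κ ∈ normalizer (P.PP : Set G)) {x : G}
    (hx : x ∈ P.T) (h1 : P.aC x = 0) (h2 : P.act x = 0) : P.aC (κ * x * κ⁻¹) = 0 ∧ P.act (κ * x * κ⁻¹) = 0 := by
  have hy : κ * x * κ⁻¹ ∈ P.PP := (mem_normalizer_iff.mp nP x).mp ⟨hx, h2⟩
  refine ⟨P.bt_zero fun b => ?_, hy.2⟩
  have hw : κ⁻¹ * P.p b 0 * κ ∈ P.PP := by
    have := (mem_normalizer_iff.mp (inv_mem nP) _).mp (P.p_mem b 0)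
    rwa [inv_inv] at this
  have h3 := P.cm_conj nT hx hw.1
  have e : κ * (κ⁻¹ * P.p b 0 * κ) * κ⁻¹ = P.p b 0 := by group
  rw [e, Si.cm hx hw.1, Si.cm (P.conj_T nT hx) (P.T_p b 0), h1, h2, hw.2, P.aC_p, P.act_p, P.fC_p] at h3
  have z1 : (0 : F) ^ (2 ^ (m + 1)) = 0 := zero_pow (by positivity)
  simp only [z1, mul_zero, zero_mul, add_zero] at h3
  rw [h3]
  apply P.al_eq nT
  rw [P.p_zero]; group

/-- (ii) -/
theorem Full.fixE (Si : Simp P) {S : Sylow 2 G} {y : G} {g k : F} (Fu : Full P S y g k) {κ : G}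
    (hS : ∀ x ∈ (S : Subgroup G), κ * x * κ⁻¹ ∈ (S : Subgroup G)) (nT : κ ∈ normalizer (P.T : Set G))
    (nP : κ ∈ normalizer (P.PP : Set G)) {x : G}
    (hx : x ∈ P.T) (h1 : P.fC x = 0) (h2 : P.aC x = 0) : P.fC (κ * x * κ⁻¹) = 0 ∧ P.aC (κ * x * κ⁻¹) = 0 := by
  have hx' := P.conj_T' Fu.ys.nT hx
  have e1 : y * (y⁻¹ * x * y) * y⁻¹ = x := by group
  have h3 := Fu.ys.f _ hx'
  have h4 := Fu.ys.a _ hx'
  rw [e1] at h3 h4
  rw [h1] at h3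
  rw [h2] at h4
  have h5 : P.act (y⁻¹ * x * y) = 0 := (mul_eq_zero.mp h3.symm).resolve_left Fu.ys.k_ne
  obtain ⟨h6, h7⟩ := fixQ Si nT nP hx' h4.symm h5
  have Y' := Fu.ys.mul_right (Fu.conj_y hS nT)
  have e2 : κ * x * κ⁻¹ = (κ * y * κ⁻¹) * (κ * (y⁻¹ * x * y) * κ⁻¹) * (κ * y * κ⁻¹)⁻¹ := by group
  rw [e2, Y'.f _ (P.conj_T nT hx'), Y'.a _ (P.conj_T nT hx'), h6, h7, mul_zero]
  exact ⟨rfl, rfl⟩

theorem Glob.exists_Tor (Gl : P.Glob) (Si : Simp P) {S : Sylow 2 G} {y : G} {g k : F} (Fu : Full P S y g k) :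
    ∃ κ l e, Tor P S κ l e := by
  obtain ⟨κ, l, K⟩ := Gl.exists_Tor0 Fu
  have z1 : (0 : F) ^ (2 ^ (m + 1)) = 0 := zero_pow (by positivity)
  have hSi : ∀ x ∈ (S : Subgroup G), κ⁻¹ * x * κ⁻¹⁻¹ ∈ (S : Subgroup G) := by
    have h1 : κ ∈ normalizer ((S : Subgroup G) : Set G) := mem_normalizer_fintype fun x hx => K.nS x hx
    intro x hx
    exact (mem_normalizer_iff.mp (inv_mem h1) x).mp hx
  have hal : ∀ b, P.al κ b = l ^ (1 + 2 ^ (m + 1)) * b := fun b => P.al_eq K.nT (K.z b)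
  have cT : ∀ {x}, x ∈ P.T → κ * x * κ⁻¹ ∈ P.T := fun hx => P.conj_T K.nT hx
  -- (iii)
  have fixA : ∀ {x}, x ∈ P.T → P.fC x = 0 → P.act x = 0 → P.fC (κ * x * κ⁻¹) = 0 ∧ P.act (κ * x * κ⁻¹) = 0 := by
    intro x hx h1 h2
    have hy : κ * x * κ⁻¹ ∈ P.PP := (mem_normalizer_iff.mp K.nP x).mp ⟨hx, h2⟩
    refine ⟨?_, hy.2⟩
    obtain ⟨h3, h4⟩ := Fu.fixE Si hSi (inv_mem K.nT) (inv_mem K.nP) (P.ee_mem 1) (P.fC_ee 1) (P.aC_ee 1)
    rw [inv_inv] at h3 h4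
    have hw := P.conj_T' K.nT (P.ee_mem 1)
    have h5 := P.cm_conj K.nT hx hw
    have e : κ * (κ⁻¹ * P.ee 1 * κ) * κ⁻¹ = P.ee 1 := by group
    rw [e, Si.cm hx hw, Si.cm (cT hx) (P.ee_mem 1), h1, h2, h3, h4, P.aC_ee, P.fC_ee, P.act_ee, hal] at h5
    simpa [z1] using h5
  -- coordinates
  have hcrd : ∀ x ∈ P.T, P.fC (κ * x * κ⁻¹) = P.fC (κ * qq Si (P.fC x) * κ⁻¹) ∧
      P.aC (κ * x * κ⁻¹) = P.aC (κ * P.p (P.aC x) 0 * κ⁻¹) ∧
      P.act (κ * x * κ⁻¹) = P.act (κ * P.ee (P.act x) * κ⁻¹) := by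
    intro x hx
    obtain ⟨h1, h2, h3⟩ := conj_decomp Si K.nT hx
    have m1 := cT (qq_T Si (P.fC x))
    have m2 := cT (P.T_p (P.aC x) 0)
    have m3 := cT (P.ee_mem (P.act x))
    obtain ⟨a1, a2⟩ := fixQ Si K.nT K.nP (qq_T Si (P.fC x)) (aC_qq Si _) (act_qq Si _)
    obtain ⟨b1, b2⟩ := fixA (P.T_p (P.aC x) 0) (P.fC_p _ _) (P.act_p _ _)
    obtain ⟨c1, c2⟩ := Fu.fixE Si K.nS K.nT K.nP (P.ee_mem (P.act x)) (P.fC_ee _) (P.aC_ee _)
    refine ⟨?_, ?_, ?_⟩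
    · rw [h1, P.fC_mul m1 (mul_mem m2 m3), P.fC_mul m2 m3, c1, b1, add_zero, add_zero]
    · rw [h2, P.aC_mul m1 (mul_mem m2 m3), P.aC_mul m2 m3, a1, c2, zero_add, add_zero]
    · rw [h3, P.act_mul m1 (mul_mem m2 m3), P.act_mul m2 m3, b2, a2, zero_add, zero_add]
  obtain ⟨e, e', hee', hG, hH⟩ := alg_fix (ν := l ^ (1 + 2 ^ (m + 1))) (G := fun r => P.fC (κ * qq Si r * κ⁻¹))
    (H := fun c => P.act (κ * P.ee c * κ⁻¹)) (pow_ne_zero _ K.l_ne) (by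
      intro c r
      have h5 := P.cm_conj K.nT (P.ee_mem c) (qq_T Si r)
      obtain ⟨a1, a2⟩ := fixQ Si K.nT K.nP (qq_T Si r) (aC_qq Si _) (act_qq Si _)
      obtain ⟨c1, c2⟩ := Fu.fixE Si K.nS K.nT K.nP (P.ee_mem c) (P.fC_ee _) (P.aC_ee _)
      rw [hal, Si.cm (P.ee_mem c) (qq_T Si r), Si.cm (cT (P.ee_mem c)) (cT (qq_T Si r)), a1, a2, c1, c2,
        fC_qq, aC_qq, act_qq, P.aC_ee, P.act_ee, P.fC_ee] at h5
      simp only [z1, mul_zero, zero_mul, add_zero, zero_add] at h5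
      exact h5.symm)
  have hf : ∀ x ∈ P.T, P.fC (κ * x * κ⁻¹) = e * P.fC x := fun x hx => by rw [(hcrd x hx).1]; exact hG _
  have hc : ∀ x ∈ P.T, P.act (κ * x * κ⁻¹) = e' * P.act x := fun x hx => by rw [(hcrd x hx).2.2]; exact hH _
  have ha : ∀ x ∈ P.T, P.aC (κ * x * κ⁻¹) = l * P.aC x := by
    intro x hx
    rw [(hcrd x hx).2.1]
    have h5 := P.sq_conj K.nT (P.T_p (P.aC x) 0)
    obtain ⟨b1, b2⟩ := fixA (P.T_p (P.aC x) 0) (P.fC_p _ _) (P.act_p _ _)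
    rw [hal, Si.sq (cT (P.T_p _ _)), P.sq_p, b1, b2, mul_zero, add_zero, ← mul_pow] at h5
    exact Cfsg.Agent.StdSz.FormAlg.norm_inj P.hF h5
  -- `e = e'`
  have hee : e = e' := by
    have h1 := P.conj_T Fu.ys.nT (P.ee_mem 1)
    have h3 := hf _ h1
    rw [Fu.ys.f _ (P.ee_mem 1), P.act_ee, mul_one] at h3
    have Y' := Fu.ys.mul_right (Fu.conj_y K.nS K.nT)
    have e2 : κ * (y * P.ee 1 * y⁻¹) * κ⁻¹ = (κ * y * κ⁻¹) * (κ * P.ee 1 * κ⁻¹) * (κ * y * κ⁻¹)⁻¹ := by group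
    rw [e2, Y'.f _ (cT (P.ee_mem 1)), hc _ (P.ee_mem 1), P.act_ee, mul_one, mul_comm k] at h3
    exact (mul_right_cancel₀ Fu.ys.k_ne h3).symm
  exact ⟨κ, l, e, { K with f := hf, a := ha, c := by rw [hee]; exact hc, ee := by rw [← hee', ← hee] }⟩

end Pre

end Cfsg.Agent.OddHalf.D4.Sz
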