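import Cfsg.Agent.StdSz.SzMaps
import Cfsg.Agent.StdSz.FormAlg

/-!
# ODD, D4, `K = Sz(q)`, `q ≥ 32`: further equivariant maps

The torus element `l` acts with weight `1` (module `L0`), `l` (`L1`), `l ^ (1 + θ)` (`L2`).
-/

set_option autoImplicit false
set_option linter.unusedSectionVars false

namespace Cfsg.Agent.OddHalf.D4.Sz.Weights

open Cfsg.Agent.StdSz.EquivMaps Cfsg.Agent.StdSz.SzMaps

/-- weights `L1 × L2 → L0`. -/
theorem weight_120 {m i j : ℕ} (hm : 2 ≤ m) (hi : i < 2 * m + 1) (hj : j < 2 * m + 1)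
    (h : 1 * 2 ^ i + (1 + 2 ^ (m + 1)) * 2 ^ j ≡ 0 [MOD 2 ^ (2 * m + 1) - 1]) : False := by
  have h1 : 2 ^ i + 2 ^ j + 2 ^ ((j + (m + 1)) % (2 * m + 1)) ≡ 0 [MOD 2 ^ (2 * m + 1) - 1] := by
    have e := pow_reduce (n := 2 * m + 1) (by omega) (j + (m + 1))
    have e2 : 1 * 2 ^ i + (1 + 2 ^ (m + 1)) * 2 ^ j = 2 ^ i + 2 ^ j + 2 ^ (j + (m + 1)) := by
      rw [_root_.pow_add 2 j (m + 1)]; ring
    rw [e2] at h
    exact ((e.symm).add_left _).trans h
  obtain ⟨k, hk⟩ := (Nat.modEq_zero_iff_dvd.mp h1)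
  set c := (j + (m + 1)) % (2 * m + 1) with hc
  have hc' : c < 2 * m + 1 := Nat.mod_lt _ (by omega)
  obtain ⟨P, hP, hP2⟩ : ∃ P : ℕ, 2 ^ (2 * m - 2) = P ∧ 4 ≤ P := by
    refine ⟨_, rfl, ?_⟩
    calc 4 = 2 ^ 2 := by norm_num
      _ ≤ 2 ^ (2 * m - 2) := Nat.pow_le_pow_right (by norm_num) (by omega)
  have e3 : 2 ^ (2 * m + 1) = 8 * P := by
    rw [← hP, show 2 * m + 1 = (2 * m - 2) + 3 by omega, _root_.pow_add]; norm_num; ring
  have key : ∀ e : ℕ, e < 2 * m + 1 → 2 ^ e = 4 * P ∨ 2 ^ e = 2 * P ∨ (1 ≤ 2 ^ e ∧ 2 ^ e ≤ P) := by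
    intro e he
    rcases Nat.lt_trichotomy e (2 * m - 1) with h4 | h4 | h4
    · right; right
      refine ⟨Nat.one_le_two_pow, ?_⟩
      rw [← hP]
      exact Nat.pow_le_pow_right (by norm_num) (by omega)
    · right; left
      rw [h4, ← hP, show 2 * m - 1 = (2 * m - 2) + 1 by omega, pow_succ]; ring
    · left
      have : e = (2 * m - 2) + 2 := by omega
      rw [this, ← hP, _root_.pow_add]; norm_num; ring
  have k1 := key i hi
  have k2 := key j hj
  have k3 := key c hc'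
  rw [e3] at hk
  rcases k with _ | _ | k
  · omega
  · omega
  · have : 2 * (8 * P - 1) ≤ (8 * P - 1) * (k + 1 + 1) := by
      rw [mul_comm]
      exact Nat.mul_le_mul_left _ (by omega)
    omega

/-- weights `L2 × L2 → L0` (all scalars). -/
theorem weight_same0 {n i j : ℕ} (hn : 3 ≤ n) (hi : i < n) (hj : j < n)
    (h : 1 * 2 ^ i + 1 * 2 ^ j ≡ 0 [MOD 2 ^ n - 1]) : False := by
  obtain ⟨k, hk⟩ := (Nat.modEq_zero_iff_dvd.mp h)
  obtain ⟨P, hP, hP2⟩ : ∃ P : ℕ, 2 ^ (n - 2) = P ∧ 2 ≤ P := by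
    refine ⟨_, rfl, ?_⟩
    calc 2 = 2 ^ 1 := by norm_num
      _ ≤ 2 ^ (n - 2) := Nat.pow_le_pow_right (by norm_num) (by omega)
  have e3 : 2 ^ n = 4 * P := by
    rw [← hP, show n = (n - 2) + 2 by omega, _root_.pow_add]; norm_num; ring
  have key : ∀ e : ℕ, e < n → 2 ^ e = 2 * P ∨ (1 ≤ 2 ^ e ∧ 2 ^ e ≤ P) := by
    intro e he
    rcases Nat.lt_or_ge e (n - 1) with h4 | h4
    · right
      refine ⟨Nat.one_le_two_pow, ?_⟩
      rw [← hP]
      exact Nat.pow_le_pow_right (by norm_num) (by omega)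
    · left
      have : e = (n - 2) + 1 := by omega
      rw [this, ← hP, pow_succ]; ring
  have k1 := key i hi
  have k2 := key j hj
  rw [e3] at hk
  rcases k with _ | _ | k
  · omega
  · omega
  · have : 2 * (4 * P - 1) ≤ (4 * P - 1) * (k + 1 + 1) := by
      rw [mul_comm]
      exact Nat.mul_le_mul_left _ (by omega)
    omega

/-- weights `L2 → L1`. -/
theorem weight_21 {m i : ℕ} (hm : 1 ≤ m) (hi : i < 2 * m + 1)
    (h : (1 + 2 ^ (m + 1)) * 2 ^ i ≡ 1 [MOD 2 ^ (2 * m + 1) - 1]) : False := by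
  set N := 2 ^ (2 * m + 1) - 1 with hN
  have hz : (2 : ZMod N) ^ (m + 1) * 2 ^ (m + 1) = 2 := by
    have := (ZMod.natCast_eq_natCast_iff _ _ _).mpr (theta_sq (m := m))
    push_cast at this
    exact this
  have h1 : (1 + 2 ^ (m + 1)) * (2 : ZMod N) ^ i = 1 := by
    have := (ZMod.natCast_eq_natCast_iff _ _ _).mpr h
    push_cast at this
    exact this
  have h2 : (2 : ZMod N) ^ i + 1 = 2 ^ (m + 1) := by
    have e := congrArg (fun x => (2 ^ (m + 1) - 1) * x) h1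
    have e2 : (2 : ZMod N) ^ i + 1 - 2 ^ (m + 1) =
        (2 ^ (m + 1) - 1) * ((1 + 2 ^ (m + 1)) * 2 ^ i) - (2 ^ (m + 1) - 1) * 1 -
          (2 ^ (m + 1) * 2 ^ (m + 1) - 2) * 2 ^ i := by ring
    rw [e, hz] at e2
    rw [← sub_eq_zero, e2]
    ring
  have h3 : 2 ^ i + 2 ^ 0 ≡ 2 ^ m + 2 ^ m [MOD N] := by
    have e : 2 ^ m + 2 ^ m = 2 ^ (m + 1) := by rw [pow_succ]; ring
    rw [e, ← ZMod.natCast_eq_natCast_iff]
    push_cast
    rw [h2]
  have := two_pow_add_inj (n := 2 * m + 1) (by omega) hi (by omega) (by omega) (by omega) h3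
  omega

/-- weights `L1 → L2`. -/
theorem weight_12 {m i : ℕ} (hm : 1 ≤ m) (hi : i < 2 * m + 1)
    (h : 1 * 2 ^ i ≡ 1 + 2 ^ (m + 1) [MOD 2 ^ (2 * m + 1) - 1]) : False := by
  have h1 : 2 ^ ((i + 2 * m) % (2 * m + 1)) + 2 ^ ((i + 2 * m) % (2 * m + 1)) ≡ 2 ^ 0 + 2 ^ (m + 1)
      [MOD 2 ^ (2 * m + 1) - 1] := by
    have e1 := pow_reduce (n := 2 * m + 1) (by omega) (i + 2 * m)
    have e2 := pow_reduce (n := 2 * m + 1) (by omega) (i + (2 * m + 1))
    rw [Nat.add_mod_right, Nat.mod_eq_of_lt hi] at e2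
    have e3 : 2 ^ (i + 2 * m) + 2 ^ (i + 2 * m) = 2 ^ (i + (2 * m + 1)) := by
      rw [← two_mul, ← pow_succ']; congr 1
    rw [pow_zero]
    refine (e1.symm.add e1.symm).trans ?_
    rw [e3]
    refine e2.trans ?_
    rw [one_mul] at h
    exact h
  have := two_pow_add_inj (n := 2 * m + 1) (by omega) (Nat.mod_lt _ (by omega))
    (Nat.mod_lt _ (by omega)) (by omega) (by omega) h1
  omega

variable {F : Type*} [Field F] [Fintype F]

/-- no pairings `L1 × L2 → L0`. -/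
theorem pairing_120 {m : ℕ} (hm : 2 ≤ m) (hF : Fintype.card F = 2 ^ (2 * m + 1))
    (f : F → F → F) (h1 : ∀ x x' y, f (x + x') y = f x y + f x' y)
    (h2 : ∀ x y y', f x (y + y') = f x y + f x y')
    (h : ∀ l x y : F, l ≠ 0 → f (l * x) (l ^ (1 + 2 ^ (m + 1)) * y) = f x y) (x y : F) :
    f x y = 0 := by
  obtain ⟨c, hc⟩ := exists_coeff₂ hF (by omega) f h1 h2
  have hz : ∀ i j : Fin (2 * m + 1), c i j = 0 := by
    intro i j
    apply coeff₂_eq_zero_of_equivariant hF (by omega) c 1 (1 + 2 ^ (m + 1)) 0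
    · intro μ x y hμ
      rw [← hc, ← hc, pow_one, pow_zero, one_mul]
      exact h μ x y hμ
    · intro hw
      exact weight_120 hm i.2 j.2 hw
  rw [hc]
  simp [hz]

/-- no pairings `X × X → L0`, all scalars. -/
theorem pairing_same0 {n : ℕ} (hn : 3 ≤ n) (hF : Fintype.card F = 2 ^ n)
    (f : F → F → F) (h1 : ∀ x x' y, f (x + x') y = f x y + f x' y)
    (h2 : ∀ x y y', f x (y + y') = f x y + f x y')
    (h : ∀ l x y : F, l ≠ 0 → f (l * x) (l * y) = f x y) (x y : F) : f x y = 0 := by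
  obtain ⟨c, hc⟩ := exists_coeff₂ hF (by omega) f h1 h2
  have hz : ∀ i j : Fin n, c i j = 0 := by
    intro i j
    apply coeff₂_eq_zero_of_equivariant hF (by omega) c 1 1 0
    · intro μ x y hμ
      rw [← hc, ← hc, pow_one, pow_zero, one_mul]
      exact h μ x y hμ
    · intro hw
      exact weight_same0 hn i.2 j.2 hw
  rw [hc]
  simp [hz]

/-- no additive maps `L2 → L1`. -/
theorem map_21 {m : ℕ} (hm : 1 ≤ m) (hF : Fintype.card F = 2 ^ (2 * m + 1))
    (f : F → F) (h1 : ∀ x y, f (x + y) = f x + f y)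
    (h : ∀ l x : F, l ≠ 0 → f (l ^ (1 + 2 ^ (m + 1)) * x) = l * f x) (x : F) : f x = 0 := by
  obtain ⟨c, hc⟩ := exists_coeff hF (by omega) f h1
  have hz : ∀ i : Fin (2 * m + 1), c i = 0 := by
    intro i
    apply coeff_eq_zero_of_equivariant hF (by omega) c (1 + 2 ^ (m + 1)) 1
    · intro μ x hμ
      rw [← hc, ← hc, pow_one]
      exact h μ x hμ
    · intro hw
      exact weight_21 hm i.2 hw
  rw [hc]
  simp [hz]

/-- no additive maps `L1 → L2`. -/
theorem map_12 {m : ℕ} (hm : 1 ≤ m) (hF : Fintype.card F = 2 ^ (2 * m + 1))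
    (f : F → F) (h1 : ∀ x y, f (x + y) = f x + f y)
    (h : ∀ l x : F, l ≠ 0 → f (l * x) = l ^ (1 + 2 ^ (m + 1)) * f x) (x : F) : f x = 0 := by
  obtain ⟨c, hc⟩ := exists_coeff hF (by omega) f h1
  have hz : ∀ i : Fin (2 * m + 1), c i = 0 := by
    intro i
    apply coeff_eq_zero_of_equivariant hF (by omega) c 1 (1 + 2 ^ (m + 1))
    · intro μ x hμ
      rw [← hc, ← hc, pow_one]
      exact h μ x hμ
    · intro hw
      exact weight_12 hm i.2 hw
  rw [hc]
  simp [hz]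

/-- no additive maps `L2 → L0`. -/
theorem map_20 (hF : 2 < Fintype.card F) (f : F → F) (h1 : ∀ x y, f (x + y) = f x + f y)
    (h : ∀ l x : F, l ≠ 0 → f (l * x) = f x) (x : F) : f x = 0 := by
  classical
  obtain ⟨l, hl⟩ : ∃ l : F, l ∉ ({0, 1} : Finset F) := by
    by_contra hcon
    push Not at hcon
    have h3 : (Finset.univ : Finset F) ⊆ {0, 1} := fun x _ => hcon x
    have h4 := Finset.card_le_card h3
    rw [Finset.card_univ] at h4
    have h5 : ({0, 1} : Finset F).card ≤ 2 := Finset.card_le_two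
    omega
  simp only [Finset.mem_insert, Finset.mem_singleton, not_or] at hl
  have hne : l - 1 ≠ 0 := sub_ne_zero.mpr hl.2
  have h0 : f 0 = 0 := by
    have := h1 0 0
    rw [add_zero] at this
    exact add_eq_left.mp this.symm
  have hneg : ∀ y, f (-y) = -f y := by
    intro y
    have := h1 y (-y)
    rw [add_neg_cancel, h0] at this
    exact (neg_eq_of_add_eq_zero_right this.symm).symm
  have h2 : f ((l - 1) * ((l - 1)⁻¹ * x)) = 0 := by
    rw [sub_mul, one_mul, sub_eq_add_neg, h1, hneg, h l _ hl.1]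
    exact add_neg_cancel _
  rwa [← mul_assoc, mul_inv_cancel₀ hne, one_mul] at h2

end Cfsg.Agent.OddHalf.D4.Sz.Weights
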